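import Groth.Agent.Lib.HodgeIndex.Nef
import Mathlib.LinearAlgebra.Matrix.ToLinearEquiv

/-!
# Curves on the walls of the nef cone
-/

set_option autoImplicit false
set_option backward.isDefEq.respectTransparency false
set_option linter.all false

universe u

open CategoryTheory CategoryTheory.Limits AlgebraicGeometry TopologicalSpace

noncomputable section

namespace GrothLib.HodgeIndex

open GrothLib.Euler (tF)
open GrothLib.Cube (Pic clsMod)
open GrothLib.Kodaira (IsoOn)
open GrothLib.Snapper (IsTop)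
open GrothLib.QCoh (stalkLin)

variable {X : Scheme.{u}}

theorem isoOn_of_bijective {M N : X.Modules} (f : M ⟶ N) (U : X.Opens)
    (h : ∀ x ∈ U, Function.Bijective (stalkLin f x)) : IsoOn U f := by
  refine (NatIso.isIso_map_iff (Scheme.Modules.restrictFunctorIsoPullback U.ι) f).1 ?_
  refine (OX.isIso_iff _).2 fun y => (ConcreteCategory.isIso_iff_bijective _).2 ?_
  have hM : IsIso ((TopCat.Presheaf.stalkFunctor Ab (U.ι y)).map ((Scheme.Modules.toPresheaf X).map f)) :=
    (ConcreteCategory.isIso_iff_bijective _).2 (h (U.ι y) y.2)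
  have : IsIso ((Scheme.Modules.restrictFunctor U.ι ⋙ Scheme.Modules.toPresheaf _ ⋙
      TopCat.Presheaf.stalkFunctor _ y).map f) :=
    (NatIso.isIso_map_iff (Scheme.Modules.restrictStalkNatIso U.ι y) f).2 hM
  exact ConcreteCategory.bijective_of_isIso ((Scheme.Modules.restrictFunctor U.ι ⋙ Scheme.Modules.toPresheaf _ ⋙
    TopCat.Presheaf.stalkFunctor _ y).map f)

theorem stalk_bijective_idealModι (I : X.IdealSheafData) {x : X} (hx : x ∉ (I.support : Set X)) :
    Function.Bijective (stalkLin (ClSub.idealModι I) x) := by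
  haveI := Euler.epi_toSubscheme I
  haveI : Mono (ClSub.idealModι I) := inferInstanceAs (Mono (kernel.ι (ClSub.toSubscheme I)))
  let S := ShortComplex.mk (ClSub.idealModι I) (ClSub.toSubscheme I) (kernel.condition _)
  have hS : S.ShortExact :=
    haveI : Mono S.f := ‹Mono (ClSub.idealModι I)›
    haveI : Epi S.g := ‹Epi (ClSub.toSubscheme I)›
    { exact := ShortComplex.exact_of_f_is_kernel _ (kernelIsKernel _) }
  refine ⟨QCoh.stalkLin_injective _ x, fun v => ?_⟩
  haveI : Subsingleton ((ClSub.quotMod I).presheaf.stalk x) :=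
    QCoh.stalk_subsingleton_of_notMem fun h => hx (Snapper.support_quotMod I h)
  have he := (ShortComplex.ShortExact.moduleCat_exact_iff_function_exact _).1 ((OX.shortExact_iff S).1 hS x).exact
  exact (he v).1 (Subsingleton.elim (α := (ClSub.quotMod I).presheaf.stalk x) _ _)

variable (k : Type u) [Field k] [X.Over (Spec (CommRingCat.of k))] [IsProper (X ↘ Spec (CommRingCat.of k))]
  [IsIntegral X] [Smooth (X ↘ Spec (CommRingCat.of k))] [PicGrp.Law X]
  (hdim : topologicalKrullDim X = ((2 : ℕ) : WithBot ℕ∞)) {H : X.Modules} (hH : CohB1.IsAmple H)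
  {B : NumR.N1R k X →ₗ[ℝ] NumR.N1R k X →ₗ[ℝ] ℝ} (hB : NumR.IsIntForm₂ k X B)

include hdim in
theorem cc_eq (I : X.IdealSheafData) [IsIntegral I.subscheme] (hI : PicF.IsInvertible (ClSub.idealMod I)) :
    cc k (I.subschemeι (genericPoint I.subscheme)) = NumR.curveCl k X I hI := by
  have e := curveIdeal_eq I
  rw [cc]
  generalize curveIdeal (I.subschemeι (genericPoint I.subscheme)) = J at e ⊢
  subst e
  rw [dif_pos hI]

include hdim hH hB in
theorem cc_cc_nonneg {y y' : X} (hy : IsTop 1 y) (hy' : IsTop 1 y') (hne : y ≠ y') :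
    0 ≤ B (cc k y') (cc k y) := by
  haveI := Euler.isNoetherian_of_proper (X := X) k
  let I := curveIdeal y'
  have hI : PicF.IsInvertible (ClSub.idealMod I) := inv_curveIdeal k hdim hy'
  obtain ⟨z, hz⟩ : ∃ z, z = (clsMod hI)⁻¹ := ⟨_, rfl⟩
  have hys : y ∉ (I.support : Set X) := by
    rw [← I.range_subschemeι, Snapper.range_pt y']
    intro h
    exact hne (hy.eq_of_specializes (specializes_iff_mem_closure.2 h) hy'.dimLT).symm
  obtain ⟨e⟩ : Nonempty (CohB1.tensorMod (ClSub.idealMod I) (rep z) ≅ Coh.structureModule X) :=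
    (Cube.clsMod_eq_one_iff (Ample.isInvertible_tensorMod hI (isInv_rep z))).1
      (by rw [Cube.clsMod_tensorMod hI (isInv_rep z), cls_rep, hz, mul_inv_cancel])
  let s : Coh.structureModule X ⟶ rep z :=
    e.inv ≫ (tF (rep z)).map (ClSub.idealModι I) ≫ (OX.tensorUnitLeftIso (rep z)).hom
  haveI : Mono (ClSub.idealModι I) := inferInstanceAs (Mono (kernel.ι (ClSub.toSubscheme I)))
  haveI : Mono ((tF (rep z)).map (ClSub.idealModι I)) := Kodaira.mono_tF_map (isInv_rep z) _
  haveI : Mono s := inferInstance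
  let V : X.Opens := ⟨(I.support : Set X)ᶜ, I.support.isClosed.isOpen_compl⟩
  have hiso : IsoOn V s := (Kodaira.isoOn_of_iso V e.inv).comp
    (((isoOn_of_bijective _ V fun x hx => stalk_bijective_idealModι I hx).tensor_right (rep z)).comp
      (Kodaira.isoOn_of_iso V _))
  have h := B_eff_cc_nonneg k hdim hH hB s hy
    (QCoh.notMem_support_cokernel_of_surjective s (hiso.stalk_bijective (show y ∈ V from hys)).2)
  obtain ⟨T, hT, hTi⟩ := Kodaira.exists_inverse hI
  have hcl : clsMod hT = (clsMod hI)⁻¹ := by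
    refine eq_inv_of_mul_eq_one_left ?_
    rw [← Cube.clsMod_tensorMod, Cube.clsMod_eq_one_iff]
    exact hTi
  rw [clR_congr k (isInv_rep z) hT (by rw [cls_rep, hcl, hz]), Kodaira.clR_inverse hI hT hTi] at h
  rw [show cc k y' = - NumR.clR k X (ClSub.idealMod I) hI by rw [cc, dif_pos hI]; rfl]
  exact h

section Matrix

variable {r : ℕ} (Q : Matrix (Fin r) (Fin r) ℤ)

/-- The quadratic form of an integer matrix on real vectors. -/
def qf (a b : Fin r → ℝ) : ℝ := ∑ i, ∑ j, a i * b j * (Q i j : ℝ)

theorem qf_symm (hQ : ∀ i j, Q i j = Q j i) (a b : Fin r → ℝ) : qf Q a b = qf Q b a := by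
  rw [qf, qf, Finset.sum_comm]
  exact Finset.sum_congr rfl fun i _ => Finset.sum_congr rfl fun j _ => by rw [hQ j i]; ring

theorem qf_add_smul (a b : Fin r → ℝ) (t : ℝ) :
    qf Q (a + t • b) (a + t • b) = qf Q a a + t * qf Q a b + t * qf Q b a + t ^ 2 * qf Q b b := by
  simp only [qf, Pi.add_apply, Pi.smul_apply, smul_eq_mul, Finset.mul_sum, ← Finset.sum_add_distrib]
  exact Finset.sum_congr rfl fun i _ => Finset.sum_congr rfl fun j _ => by ring

theorem qf_neg_of_int (hQ : ∀ i j, Q i j = Q j i)
    (h : ∀ a : Fin r → ℤ, a ≠ 0 → ∑ i, ∑ j, a i * a j * Q i j < 0) {a : Fin r → ℝ} (ha : a ≠ 0) :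
    qf Q a a < 0 := by
  have hle : ∀ a : Fin r → ℝ, qf Q a a ≤ 0 := by
    intro a
    have hd : DenseRange (fun q : Fin r → ℚ => fun i => (q i : ℝ)) :=
      DenseRange.piMap fun _ => Rat.denseRange_cast
    have hc : IsClosed {a : Fin r → ℝ | qf Q a a ≤ 0} := isClosed_le (by unfold qf; fun_prop) continuous_const
    refine hc.closure_subset_iff.2 ?_ (hd a)
    rintro _ ⟨q, rfl⟩
    show qf Q _ _ ≤ 0
    let D : ℕ := ∏ i, (q i).den
    have hD : (0 : ℝ) < D := by exact_mod_cast Finset.prod_pos fun i _ => (q i).den_pos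
    obtain ⟨n, hn⟩ : ∃ n : Fin r → ℤ, ∀ i, (n i : ℝ) = D * (q i : ℝ) := by
      refine ⟨fun i => (q i).num * ((D / (q i).den : ℕ) : ℤ), fun i => ?_⟩
      obtain ⟨e, he⟩ : (q i).den ∣ D := Finset.dvd_prod_of_mem _ (Finset.mem_univ i)
      have hdiv : D / (q i).den = e := by rw [he, Nat.mul_div_cancel_left _ (q i).den_pos]
      have hDr : (D : ℝ) = ((q i).den : ℝ) * (e : ℝ) := by exact_mod_cast he
      show (((q i).num * ((D / (q i).den : ℕ) : ℤ) : ℤ) : ℝ) = D * (q i : ℝ)
      rw [hdiv, hDr]
      have := Rat.mul_den_eq_num (q i)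
      have h' : ((q i : ℝ)) * ((q i).den : ℝ) = ((q i).num : ℝ) := by exact_mod_cast this
      push_cast
      rw [← h']
      ring
    have hle' : (∑ i, ∑ j, n i * n j * Q i j : ℤ) ≤ 0 := by
      by_cases h0 : n = 0
      · simp [h0]
      · exact (h n h0).le
    have h1 : (D : ℝ) ^ 2 * qf Q (fun i => (q i : ℝ)) (fun i => (q i : ℝ)) ≤ 0 := by
      have h2 : ((∑ i, ∑ j, n i * n j * Q i j : ℤ) : ℝ) ≤ 0 := by exact_mod_cast hle'
      refine le_trans (le_of_eq ?_) h2
      push_cast
      rw [qf, Finset.mul_sum]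
      refine Finset.sum_congr rfl fun i _ => ?_
      rw [Finset.mul_sum]
      refine Finset.sum_congr rfl fun j _ => ?_
      rw [hn i, hn j]
      ring
    exact nonpos_of_mul_nonpos_right h1 (pow_pos hD 2) |>.trans le_rfl
  refine lt_of_le_of_ne (hle a) fun h0 => ?_
  have hker : ∀ b, qf Q a b = 0 := by
    intro b
    have key : ∀ t : ℝ, 2 * t * qf Q a b + t ^ 2 * qf Q b b ≤ 0 := fun t => by
      have := hle (a + t • b)
      rw [qf_add_smul, h0, qf_symm Q hQ b a] at this
      linarith
    have hbb := hle b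
    have := key (qf Q a b / (1 - qf Q b b))
    have h1 : (0 : ℝ) < 1 - qf Q b b := by linarith
    field_simp at this
    by_contra hne
    nlinarith [mul_self_pos.2 hne]
  have hdet : (Q.map (fun x : ℤ => (x : ℝ))).det = 0 := by
    refine Matrix.exists_mulVec_eq_zero_iff.1 ⟨a, ha, funext fun i => ?_⟩
    have h1 := hker (Pi.single i 1)
    rw [qf_symm Q hQ] at h1
    simp only [qf, Pi.single_apply, ite_mul, one_mul, zero_mul] at h1
    rw [Finset.sum_eq_single i (fun j _ hj => by simp [hj]) (by simp)] at h1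
    simp only [if_true] at h1
    simp only [Matrix.mulVec, dotProduct, Matrix.map_apply, Pi.zero_apply]
    rw [← h1]
    exact Finset.sum_congr rfl fun j _ => mul_comm _ _
  have hdet' : Q.det = 0 := by
    have := RingHom.map_det (Int.castRingHom ℝ) Q
    simp only [RingHom.mapMatrix_apply] at this
    rw [show Q.map (Int.castRingHom ℝ) = Q.map (fun x : ℤ => (x : ℝ)) from rfl, hdet] at this
    exact Int.cast_eq_zero.1 this
  obtain ⟨v, hv, hQv⟩ := Matrix.exists_mulVec_eq_zero_iff.2 hdet'
  refine (h v hv).ne ?_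
  refine Finset.sum_eq_zero fun i _ => ?_
  have h2 := congrFun hQv i
  simp only [Matrix.mulVec, dotProduct, Pi.zero_apply] at h2
  rw [show ∑ j, v i * v j * Q i j = v i * ∑ j, Q i j * v j by
    rw [Finset.mul_sum]; exact Finset.sum_congr rfl fun j _ => by ring, h2, mul_zero]

end Matrix

variable {r : ℕ} (C : Fin r → X.IdealSheafData) (hC : Function.Injective C) (hCi : ∀ i, IsIntegral (C i).subscheme)
  (hCd : ∀ i, topologicalKrullDim ((C i).support : Set X) = 1) (hCinv : ∀ i, PicF.IsInvertible (ClSub.idealMod (C i)))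

/-- The intersection matrix of the curves. -/
def imat : Matrix (Fin r) (Fin r) ℤ := fun i j =>
  FGA.intNum k X 2 ![(ClSub.idealMod (C i)), (ClSub.idealMod (C j))] (Coh.structureModule X)

include hB hCinv in
theorem B_curves (i j : Fin r) :
    B (NumR.curveCl k X (C i) (hCinv i)) (NumR.curveCl k X (C j) (hCinv j)) = (imat k C i j : ℝ) := by
  rw [NumR.curveCl, NumR.curveCl, map_neg, map_neg, LinearMap.neg_apply, neg_neg]
  exact hB _ _ _ _

include hdim hH hB hCinv in
theorem imat_symm (i j : Fin r) : imat k C i j = imat k C j i := by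
  have := B_symm k hdim hH hB (NumR.curveCl k X (C i) (hCinv i)) (NumR.curveCl k X (C j) (hCinv j))
  rw [B_curves k hB C hCinv, B_curves k hB C hCinv] at this
  exact_mod_cast this

include hdim hH hB hC hCd hCi hCinv in
theorem curves_facts :
    (∀ i j, i ≠ j → 0 ≤ B (NumR.curveCl k X (C i) (hCinv i)) (NumR.curveCl k X (C j) (hCinv j))) ∧
      (∀ i, 0 < B (NumR.curveCl k X (C i) (hCinv i)) (NumR.clR k X H hH.1)) := by
  refine ⟨fun i j hij => ?_, fun i => ?_⟩
  · haveI := hCi i
    haveI := hCi j
    rw [← cc_eq k hdim (C i) (hCinv i), ← cc_eq k hdim (C j) (hCinv j)]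
    refine cc_cc_nonneg k hdim hH hB (isTop_of_curve k (hCd j)) (isTop_of_curve k (hCd i)) fun h => hij (hC ?_)
    rw [← curveIdeal_eq (C i), ← curveIdeal_eq (C j), h]
  · haveI := hCi i
    rw [← cc_eq k hdim (C i) (hCinv i), B_symm k hdim hH hB]
    exact ample_cc_pos k hdim hH hB hH (isTop_of_curve k (hCd i))

include hdim hH hB hCinv in
theorem sq_comb (a b : Fin r → ℝ) :
    B (∑ i, a i • NumR.curveCl k X (C i) (hCinv i)) (∑ i, b i • NumR.curveCl k X (C i) (hCinv i)) =
      qf (imat k C) a b := by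
  simp only [map_sum, map_smul, LinearMap.sum_apply, LinearMap.smul_apply, smul_eq_mul, qf,
    B_curves k hB C hCinv, Finset.mul_sum]
  rw [Finset.sum_comm]
  exact Finset.sum_congr rfl fun i _ => Finset.sum_congr rfl fun j _ => by ring

include hdim hH hB hCinv in
/-- Negative definite curves leave room for the ample class. -/
theorem card_lt_finrank [Module.Finite ℝ (NumR.N1R k X)]
    (hneg : ∀ a : Fin r → ℤ, a ≠ 0 → ∑ i, ∑ j, a i * a j * imat k C i j < 0) :
    r + 1 ≤ Module.finrank ℝ (NumR.N1R k X) := by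
  let F : Option (Fin r) → NumR.N1R k X :=
    fun o => o.elim (NumR.clR k X H hH.1) (fun i => NumR.curveCl k X (C i) (hCinv i))
  have hli : LinearIndependent ℝ F := by
    rw [Fintype.linearIndependent_iff]
    intro g hg
    rw [Fintype.sum_option] at hg
    simp only [F, Option.elim] at hg
    obtain ⟨h, hh⟩ : ∃ h, h = NumR.clR k X H hH.1 := ⟨_, rfl⟩
    have hb : 0 < B h h := hh ▸ B_hh_pos k hdim hH hB
    have hv : ∑ i, g (some i) • NumR.curveCl k X (C i) (hCinv i) = -(g none • h) := by
      rw [hh]; exact eq_neg_of_add_eq_zero_right hg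
    have ha : (fun i => g (some i)) = 0 := by
      by_contra hne
      have h1 := qf_neg_of_int _ (imat_symm k hdim hH hB C hCinv) hneg hne
      rw [← sq_comb k hdim hH hB C hCinv, hv] at h1
      simp only [map_neg, map_smul, LinearMap.neg_apply, LinearMap.smul_apply, smul_eq_mul, neg_neg] at h1
      nlinarith [mul_nonneg (mul_self_nonneg (g none)) hb.le]
    have ht : g none = 0 := by
      rw [show (∑ i, g (some i) • NumR.curveCl k X (C i) (hCinv i)) = 0 from
        Finset.sum_eq_zero fun i _ => by rw [show g (some i) = 0 from congrFun ha i, zero_smul]] at hv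
      have h2 := congrArg (fun v => B v h) hv
      simp only [map_zero, LinearMap.zero_apply, map_neg, map_smul, LinearMap.neg_apply, LinearMap.smul_apply,
        smul_eq_mul, zero_eq_neg, mul_eq_zero] at h2
      exact h2.resolve_right hb.ne'
    rintro (_ | i)
    · exact ht
    · exact congrFun ha i
  simpa using hli.fintype_card_le_finrank

include hdim hH hB hC hCd hCi hCinv in
/-- Curves orthogonal to a class of positive square are negative definite. -/
theorem negDef_of_orth {x : NumR.N1R k X} (hxx : 0 < B x x)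
    (hxC : ∀ i, B x (NumR.curveCl k X (C i) (hCinv i)) = 0) (a : Fin r → ℤ) (ha : a ≠ 0) :
    ∑ i, ∑ j, a i * a j * imat k C i j < 0 := by
  obtain ⟨hcross, hch⟩ := curves_facts k hdim hH hB C hC hCi hCd hCinv
  let c : Fin r → NumR.N1R k X := fun i => NumR.curveCl k X (C i) (hCinv i)
  let v : NumR.N1R k X := ∑ i, (a i : ℝ) • c i
  have hqv : B v v = ((∑ i, ∑ j, a i * a j * imat k C i j : ℤ) : ℝ) := by
    rw [sq_comb k hdim hH hB C hCinv]
    simp [qf]
  have horth : ∀ b : Fin r → ℝ, B x (∑ i, b i • c i) = 0 := fun b => by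
    simp [c, map_sum, map_smul, hxC]
  by_contra hge
  push Not at hge
  have hv0 : v = 0 := eq_zero_of_orth_pos k hdim hH hB hxx (by rw [hqv]; exact_mod_cast hge) (horth _)
  let p : Fin r → ℝ := fun i => max (a i : ℝ) 0
  let n : Fin r → ℝ := fun i => max (-(a i : ℝ)) 0
  have hpn : ∀ i, (a i : ℝ) = p i - n i := fun i => by
    simp only [p, n]
    rcases le_total (a i : ℝ) 0 with h | h
    · rw [max_eq_right h, max_eq_left (by linarith)]; ring
    · rw [max_eq_left h, max_eq_right (by linarith)]; ring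
  have hPN : ∑ i, p i • c i = ∑ i, n i • c i := by
    rw [← sub_eq_zero, ← hv0]
    simp only [v, hpn, sub_smul, Finset.sum_sub_distrib]
  have hmix : 0 ≤ B (∑ i, p i • c i) (∑ i, n i • c i) := by
    rw [sq_comb k hdim hH hB C hCinv]
    refine Finset.sum_nonneg fun i _ => Finset.sum_nonneg fun j _ => ?_
    by_cases hij : i = j
    · subst hij
      have : p i * n i = 0 := by
        simp only [p, n]
        rcases le_total (a i : ℝ) 0 with h | h
        · rw [max_eq_right h, zero_mul]
        · rw [max_eq_right (show -(a i : ℝ) ≤ 0 by linarith), mul_zero]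
      rw [this, zero_mul]
    · rw [← B_curves k hB C hCinv]
      exact mul_nonneg (mul_nonneg (le_max_right _ _) (le_max_right _ _)) (hcross i j hij)
  have hP0 : ∑ i, p i • c i = 0 :=
    eq_zero_of_orth_pos k hdim hH hB hxx (by nth_rewrite 2 [hPN]; exact hmix) (horth _)
  have hzero : ∀ b : Fin r → ℝ, (∀ i, 0 ≤ b i) → ∑ i, b i • c i = 0 → b = 0 := by
    intro b hb h0
    have h1 := congrArg (fun v => B v (NumR.clR k X H hH.1)) h0
    simp only [map_sum, map_smul, LinearMap.sum_apply, LinearMap.smul_apply, smul_eq_mul, map_zero,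
      LinearMap.zero_apply] at h1
    funext i
    have := (Finset.sum_eq_zero_iff_of_nonneg fun i _ => mul_nonneg (hb i) (hch i).le).1 h1 i (Finset.mem_univ i)
    exact (mul_eq_zero.1 this).resolve_right (hch i).ne'
  have h1 := hzero p (fun i => le_max_right _ _) hP0
  have h2 := hzero n (fun i => le_max_right _ _) (hPN.symm.trans hP0)
  refine ha (funext fun i => ?_)
  have := hpn i
  rw [h1, h2] at this
  simpa using this

include hdim hH hB hC hCd hCi hCinv in
/-- Negative definite curves are contracted by a nef class of positive square. -/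
theorem exists_orth_of_negDef [Module.Finite ℝ (NumR.N1R k X)]
    (hneg : ∀ a : Fin r → ℤ, a ≠ 0 → ∑ i, ∑ j, a i * a j * imat k C i j < 0) :
    ∃ x : NumR.N1R k X, x ∈ closure (NumR.ampleCone k X : Set (NumR.N1R k X)) ∧
      x ∈ NumR.posCone k X B H hH.1 ∧ ∀ i, x ∈ NumR.wall k X B (C i) (hCinv i) := by
  obtain ⟨hcross, hch⟩ := curves_facts k hdim hH hB C hC hCi hCd hCinv
  have hQs := imat_symm k hdim hH hB C hCinv
  let c : Fin r → NumR.N1R k X := fun i => NumR.curveCl k X (C i) (hCinv i)
  obtain ⟨h, hh⟩ : ∃ h, h = NumR.clR k X H hH.1 := ⟨_, rfl⟩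
  let M : (Fin r → ℝ) →ₗ[ℝ] (Fin r → ℝ) := Matrix.mulVecLin ((imat k C).map fun x : ℤ => (x : ℝ))
  have hM : ∀ (b : Fin r → ℝ) j, M b j = B (∑ i, b i • c i) (c j) := fun b j => by
    simp only [M, Matrix.mulVecLin_apply, Matrix.mulVec, dotProduct, Matrix.map_apply, map_sum, map_smul,
      LinearMap.sum_apply, LinearMap.smul_apply, smul_eq_mul, c, B_curves k hB C hCinv]
    exact Finset.sum_congr rfl fun i _ => by rw [hQs j i, mul_comm]
  have hinj : Function.Injective M := (injective_iff_map_eq_zero M).2 fun b hb => by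
    by_contra hne
    have h1 := qf_neg_of_int _ hQs hneg hne
    rw [← sq_comb k hdim hH hB C hCinv] at h1
    refine h1.ne ?_
    rw [map_sum]
    refine Finset.sum_eq_zero fun j _ => ?_
    rw [map_smul, ← hM, hb, Pi.zero_apply, smul_zero]
  obtain ⟨b, hb⟩ := LinearMap.injective_iff_surjective.1 hinj (fun j => -B h (c j))
  have hbj : ∀ j, B (∑ i, b i • c i) (c j) = -B h (c j) := fun j => (hM b j).symm.trans (congrFun hb j)
  have hhc : ∀ j, 0 < B h (c j) := fun j => by rw [hh, B_symm k hdim hH hB]; exact hch j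
  have hb0 : ∀ i, 0 ≤ b i := by
    let m : Fin r → ℝ := fun i => max (-(b i)) 0
    let p : Fin r → ℝ := fun i => max (b i) 0
    have hbp : b = p - m := funext fun i => by
      simp only [p, m, Pi.sub_apply]
      rcases le_total (b i) 0 with h | h
      · rw [max_eq_right h, max_eq_left (by linarith)]; ring
      · rw [max_eq_left h, max_eq_right (by linarith)]; ring
    have h1 : B (∑ i, b i • c i) (∑ i, m i • c i) ≤ 0 := by
      rw [map_sum]
      refine Finset.sum_nonpos fun j _ => ?_
      rw [map_smul, hbj, smul_eq_mul]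
      exact mul_nonpos_of_nonneg_of_nonpos (le_max_right _ _) (neg_nonpos.2 (hhc j).le)
    have h2 : 0 ≤ qf (imat k C) p m := by
      refine Finset.sum_nonneg fun i _ => Finset.sum_nonneg fun j _ => ?_
      by_cases hij : i = j
      · subst hij
        have : p i * m i = 0 := by
          simp only [p, m]
          rcases le_total (b i) 0 with h | h
          · rw [max_eq_right h, zero_mul]
          · rw [max_eq_right (show -(b i) ≤ 0 by linarith), mul_zero]
        rw [this, zero_mul]
      · rw [← B_curves k hB C hCinv]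
        exact mul_nonneg (mul_nonneg (le_max_right _ _) (le_max_right _ _)) (hcross i j hij)
    rw [sq_comb k hdim hH hB C hCinv] at h1
    have h3 : qf (imat k C) b m = qf (imat k C) p m - qf (imat k C) m m := by
      simp only [qf, hbp, Pi.sub_apply, ← Finset.sum_sub_distrib]
      exact Finset.sum_congr rfl fun i _ => Finset.sum_congr rfl fun j _ => by ring
    have hm0 : m = 0 := by
      by_contra hne
      have h4 := qf_neg_of_int _ hQs hneg hne
      linarith
    intro i
    have h4 : max (-(b i)) 0 = 0 := congrFun hm0 i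
    linarith [le_max_left (-(b i)) 0]
  let x := h + ∑ i, b i • c i
  have hxC : ∀ j, B x (c j) = 0 := fun j => by
    simp only [x, map_add, LinearMap.add_apply, hbj, add_neg_cancel]
  have hxnef : ∀ y, IsTop 1 y → 0 ≤ B x (cc k y) := by
    intro y hy
    by_cases hj : ∃ j, c j = cc k y
    · obtain ⟨j, hj⟩ := hj
      rw [← hj, hxC]
    simp only [x, map_add, map_sum, map_smul, LinearMap.add_apply, LinearMap.sum_apply, LinearMap.smul_apply, smul_eq_mul]
    refine add_nonneg (hh ▸ (ample_cc_pos k hdim hH hB hH hy).le) (Finset.sum_nonneg fun i _ => mul_nonneg (hb0 i) ?_)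
    haveI := hCi i
    have hne : y ≠ (C i).subschemeι (genericPoint (C i).subscheme) := by
      rintro rfl
      exact hj ⟨i, (cc_eq k hdim (C i) (hCinv i)).symm⟩
    simp only [c, ← cc_eq k hdim (C i) (hCinv i)]
    exact cc_cc_nonneg k hdim hH hB hy (isTop_of_curve k (hCd i)) hne
  have hxh : 0 < B x h := by
    simp only [x, map_add, map_sum, map_smul, LinearMap.add_apply, LinearMap.sum_apply, LinearMap.smul_apply, smul_eq_mul]
    refine add_pos_of_pos_of_nonneg (hh ▸ B_hh_pos k hdim hH hB) (Finset.sum_nonneg fun i _ => mul_nonneg (hb0 i) ?_)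
    rw [hh]
    exact (hch i).le
  refine ⟨x, ?_, ⟨?_, hh ▸ hxh⟩, fun i => hxC i⟩
  · rw [closure_ampleCone_eq k hdim hH hB]
    exact hxnef
  · have : B x x = B x h := by
      conv_lhs => arg 2; simp only [x]
      rw [map_add, map_sum]
      simp [map_smul, hxC]
    rw [this]
    exact hxh

end GrothLib.HodgeIndex
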