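import Groth.Agent.Lib.Goodman.Degree
import Groth.Agent.Lib.Goodman.Divisor

/-!
# The module of a product of invertible ideals
-/

set_option autoImplicit false
set_option backward.isDefEq.respectTransparency false
set_option linter.all false

universe u

open CategoryTheory CategoryTheory.Limits AlgebraicGeometry TopologicalSpace

noncomputable section

namespace GrothLib.HodgeIndex

open GrothLib.QCoh (stalkLin)
open GrothLib.Cube (clsMod)
open GrothLib.OmegaBC (sval)

variable {X : Scheme.{u}}

theorem stalkLin_comp_apply {A B C : X.Modules} (f : A ⟶ B) (g : B ⟶ C) (x : X) (v : A.presheaf.stalk x) :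
    stalkLin (f ≫ g) x v = stalkLin g x (stalkLin f x v) := by
  obtain ⟨U, hU, a, rfl⟩ := TopCat.Presheaf.exists_germ_eq A.presheaf v
  rw [QCoh.stalkLin_germ, QCoh.stalkLin_germ, QCoh.stalkLin_germ]
  rfl

/-- Two submodules of `O` with the same stalks are isomorphic. -/
theorem nonempty_iso_of_range_eq {M N : X.Modules} (f : M ⟶ Coh.structureModule X) (g : N ⟶ Coh.structureModule X)
    (hg : Mono g) (hf : ∀ x, Function.Injective (stalkLin f x))
    (h : ∀ x, LinearMap.range (stalkLin f x) = LinearMap.range (stalkLin g x)) : Nonempty (M ≅ N) := by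
  let S : ShortComplex X.Modules := ShortComplex.mk g (cokernel.π g) (cokernel.condition g)
  have hS : S.Exact := ShortComplex.exact_of_g_is_cokernel _ (cokernelIsCokernel _)
  haveI : Mono S.f := hg
  have hz : f ≫ cokernel.π g = 0 := by
    refine Scheme.Modules.hom_ext _ _ fun U => AddCommGrpCat.ext fun s => ?_
    refine QCoh.section_eq_zero_of_germ (cokernel g) _ fun x hx => ?_
    have e := QCoh.stalkLin_germ (f ≫ cokernel.π g) hx s
    rw [stalkLin_comp_apply] at e
    refine e.symm.trans ?_
    obtain ⟨w, hw⟩ : stalkLin f x (M.presheaf.germ U x hx s) ∈ LinearMap.range (stalkLin g x) := by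
      rw [← h x]; exact LinearMap.mem_range_self _ _
    rw [← hw, ← stalkLin_comp_apply, cokernel.condition, Kodaira.stalkLin_zero_apply]
  let l : M ⟶ N := hS.lift f hz
  have hl : l ≫ g = f := hS.lift_f f hz
  haveI : IsIso l := (OX.isIso_iff l).2 fun x => (ConcreteCategory.isIso_iff_bijective _).2 ⟨fun a b hab => hf x ?_, fun w => ?_⟩
  · exact ⟨asIso l⟩
  · have hab' : stalkLin l x a = stalkLin l x b := hab
    rw [← hl, stalkLin_comp_apply, stalkLin_comp_apply, hab']
  · obtain ⟨v, hv⟩ : stalkLin g x w ∈ LinearMap.range (stalkLin f x) := by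
      rw [h x]; exact LinearMap.mem_range_self _ _
    refine ⟨v, QCoh.stalkLin_injective g x ?_⟩
    rw [← hv, ← hl, stalkLin_comp_apply]
    rfl

theorem range_idealModι (I : X.IdealSheafData) (x : X) :
    LinearMap.range (stalkLin (ClSub.idealModι I) x) = Submodule.map (HomSh.unitStalk x).toLinearMap (Goodman.st I x) := by
  ext w
  constructor
  · rintro ⟨v, rfl⟩
    exact ⟨sval I x v, LinearMap.mem_range_self _ v, (Goodman.stalkLin_idealModι I x v).symm⟩
  · rintro ⟨a, ⟨v, rfl⟩, rfl⟩
    exact ⟨v, Goodman.stalkLin_idealModι I x v⟩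

/-- The module of a product of invertible ideals is the tensor product. -/
theorem nonempty_idealMod_mul {I J : X.IdealSheafData} (hI : PicF.IsInvertible (ClSub.idealMod I))
    (hJ : PicF.IsInvertible (ClSub.idealMod J)) :
    Nonempty (CohB1.tensorMod (ClSub.idealMod I) (ClSub.idealMod J) ≅ ClSub.idealMod (I * J)) := by
  haveI hm : ∀ K : X.IdealSheafData, Mono (ClSub.idealModι K) :=
    fun K => inferInstanceAs (Mono (kernel.ι (ClSub.toSubscheme K)))
  let g := ((DCoh.tensorBi (X := X)).obj (ClSub.idealMod I)).map (ClSub.idealModι J)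
  let e := Euler.tFUnitIso (ClSub.idealMod I)
  let f : CohB1.tensorMod (ClSub.idealMod I) (ClSub.idealMod J) ⟶ Coh.structureModule X :=
    g ≫ e.hom ≫ ClSub.idealModι I
  have main : ∀ x : X, Function.Injective (stalkLin f x) ∧
      LinearMap.range (stalkLin f x) = LinearMap.range (stalkLin (ClSub.idealModι (I * J)) x) := by
    intro x
    obtain ⟨tI, htI⟩ := Ref1.exists_gen_of_isInvertible hI x
    obtain ⟨tJ, htJ⟩ := Ref1.exists_gen_of_isInvertible hJ x
    let b := sval J x tJ
    have hgen : ∀ v : (ClSub.idealMod I).presheaf.stalk x,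
        stalkLin f x (Ref1.tmulStalk _ _ x v tJ) =
          b • stalkLin (ClSub.idealModι I) x (stalkLin e.hom x
            (Ref1.tmulStalk (ClSub.idealMod I) (Coh.structureModule X) x v (HomSh.unitStalk x 1))) := fun v => by
      rw [show stalkLin f x (Ref1.tmulStalk _ _ x v tJ) = _ from stalkLin_comp_apply g (e.hom ≫ ClSub.idealModι I) x _,
        stalkLin_comp_apply, show stalkLin g x (Ref1.tmulStalk _ _ x v tJ) = _ from Goodman.stalkLin_tensor_tmul _ _ x v tJ,
        Goodman.stalkLin_idealModι J x tJ, show HomSh.unitStalk x b = b • HomSh.unitStalk x 1 by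
          rw [← map_smul, smul_eq_mul, mul_one], map_smul, map_smul, map_smul]
      rfl
    let θ : (ClSub.idealMod I).presheaf.stalk x → (ClSub.idealMod I).presheaf.stalk x := fun v =>
      stalkLin e.hom x (Ref1.tmulStalk (ClSub.idealMod I) (Coh.structureModule X) x v (HomSh.unitStalk x 1))
    have hθ : Function.Bijective θ := by
      refine Function.Bijective.comp ?_ (TensorGen.bijective_tmulStalk _ _ (Ref1.gen_unitStalk x))
      exact (ConcreteCategory.isIso_iff_bijective ((OX.stalk x).map e.hom)).1 inferInstance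
    have hb0 : ∀ c : X.presheaf.stalk x, c * b = 0 → c = 0 := fun c hc => by
      have h' : c • tJ = (0 : X.presheaf.stalk x) • tJ := OmegaBC.sval_injective J x (by
        rw [zero_smul]
        exact ((sval J x).map_smul c tJ).trans (hc.trans (map_zero _).symm))
      exact htJ.1 h'
    constructor
    · intro p q hpq
      obtain ⟨v, rfl⟩ := (TensorGen.bijective_tmulStalk _ _ htJ).2 p
      obtain ⟨v', rfl⟩ := (TensorGen.bijective_tmulStalk _ _ htJ).2 q
      dsimp only at hpq ⊢
      rw [hgen, hgen, Goodman.stalkLin_idealModι, Goodman.stalkLin_idealModι, ← (HomSh.unitStalk x).map_smul, ← (HomSh.unitStalk x).map_smul,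
        (HomSh.unitStalk x).injective.eq_iff, smul_eq_mul, smul_eq_mul, ← sub_eq_zero, ← mul_sub, mul_comm] at hpq
      have := sub_eq_zero.1 (hb0 _ hpq)
      rw [hθ.1 (OmegaBC.sval_injective I x this)]
    · have hJx : Goodman.st J x = Ideal.span {b} := le_antisymm (by
        rintro _ ⟨w, rfl⟩
        obtain ⟨c, rfl⟩ := htJ.2 w
        exact Ideal.mem_span_singleton'.2 ⟨c, ((sval J x).map_smul c tJ).symm⟩)
        ((Ideal.span_singleton_le_iff_mem _).2 (LinearMap.mem_range_self _ tJ))
      rw [range_idealModι, Goodman.st_mul, hJx]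
      ext w
      constructor
      · rintro ⟨p, rfl⟩
        obtain ⟨v, rfl⟩ := (TensorGen.bijective_tmulStalk _ _ htJ).2 p
        dsimp only
        rw [hgen, Goodman.stalkLin_idealModι, ← (HomSh.unitStalk x).map_smul, smul_eq_mul, mul_comm]
        refine ⟨_, ?_, rfl⟩
        first
          | exact Ideal.mul_mem_mul (LinearMap.mem_range_self _ _) (Ideal.mem_span_singleton_self b)
          | exact Ideal.mul_mem_mul_rev (Ideal.mem_span_singleton_self b) (LinearMap.mem_range_self _ _)
          | exact Ideal.mul_mem_mul (Ideal.mem_span_singleton_self b) (LinearMap.mem_range_self _ _)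
      · rintro ⟨a, ha, rfl⟩
        obtain ⟨a', ⟨v', rfl⟩, rfl⟩ := Ideal.mem_mul_span_singleton.1 ha
        obtain ⟨v, rfl⟩ := hθ.2 v'
        refine ⟨Ref1.tmulStalk _ _ x v tJ, ?_⟩
        rw [hgen, Goodman.stalkLin_idealModι, ← (HomSh.unitStalk x).map_smul, smul_eq_mul, mul_comm]
        rfl
  exact nonempty_iso_of_range_eq f (ClSub.idealModι (I * J)) (hm _) (fun x => (main x).1) fun x => (main x).2

theorem cls_idealMod_mul {I J : X.IdealSheafData} (h : PicF.IsInvertible (ClSub.idealMod (I * J)))
    (hI : PicF.IsInvertible (ClSub.idealMod I)) (hJ : PicF.IsInvertible (ClSub.idealMod J)) :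
    clsMod h = clsMod hI * clsMod hJ := by
  rw [← Cube.clsMod_tensorMod hI hJ, eq_comm, Cube.clsMod_eq_iff]
  exact nonempty_idealMod_mul hI hJ

end GrothLib.HodgeIndex
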