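import Groth.Agent.Lib.HodgeIndex.NegCurves
import Groth.Agent.Lib.Goodman.Effective
import Groth.Agent.Lib.OmegaBC.Section
import Groth.Agent.Lib.Euler.TensorSupport
import Groth.Agent.Lib.BlowUp.UFD
import Groth.Agent.Lib.GrpSchField.DimStalk
import Groth.Agent.Lib.CurveMult.PointQuot
import Groth.Agent.Lib.Snapper.PushTop

/-!
# Pullbacks of invertible modules from a curve to a surface
-/

set_option autoImplicit false
set_option backward.isDefEq.respectTransparency false
set_option linter.all false

universe u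

open CategoryTheory CategoryTheory.Limits AlgebraicGeometry TopologicalSpace

noncomputable section

namespace GrothLib.HodgeIndex

open GrothLib.Snapper (IsTop phi mixed ptMod)
open GrothLib.Cube (Pic clsMod)
open GrothLib.OmegaBC (sval ouni toStalk pullι)

variable {X Y : Scheme.{u}}

/-- A closed point is not a curve. -/
theorem not_isTop_of_isClosed {p : Y} (hp : IsClosed ({p} : Set Y)) : ¬ IsTop 1 p := fun h => by
  have h0 : topologicalKrullDim (closure ({p} : Set Y)) ≤ 0 := by
    rw [hp.closure_eq]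
    exact topologicalKrullDim_zero_of_discreteTopology ({p} : Set Y)
  rw [show topologicalKrullDim (closure ({p} : Set Y)) = ((1 : ℕ) : WithBot ℕ∞) from h] at h0
  norm_cast at h0

theorem st_comap (f : X ⟶ Y) (I : Y.IdealSheafData) (x : X) :
    Goodman.st (I.comap f) x = (Goodman.st I (f x)).map (f.stalkMap x).hom := by
  obtain ⟨U, hU, hxU, -⟩ := exists_isAffineOpen_mem_and_subset (x := f x) (U := ⊤) trivial
  obtain ⟨V, hV, hxV, hVU⟩ := exists_isAffineOpen_mem_and_subset (x := x) (U := f ⁻¹ᵁ U) hxU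
  rw [Goodman.st_eq _ ⟨V, hV⟩ hxV, Goodman.st_eq _ ⟨U, hU⟩ hxU,
    BlowUp.ideal_comap_eq_map I f ⟨U, hU⟩ ⟨V, hV⟩ hVU, Ideal.map_map, Ideal.map_map]
  congr 1
  refine RingHom.ext fun a => ?_
  show X.presheaf.germ V x hxV (f.appLE U V hVU a) = (f.stalkMap x) (Y.presheaf.germ U (f x) hxU a)
  rw [Scheme.Hom.germ_stalkMap_apply]
  exact TopCat.Presheaf.germ_res_apply X.presheaf (homOfLE hVU) x hxV _

/-- An epimorphism of invertible modules is an isomorphism. -/
theorem isIso_of_epi_inv {M N : X.Modules} (hM : PicF.IsInvertible M) (hN : PicF.IsInvertible N)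
    (φ : M ⟶ N) [Epi φ] : IsIso φ := by
  refine (OX.isIso_iff φ).2 fun x => (ConcreteCategory.isIso_iff_bijective _).2 ?_
  obtain ⟨D, e, hx, he⟩ := FinCov.exists_frame_nhd_of_rank (Euler.isFinLocFreeOfRank_one' hM) x
  obtain ⟨b⟩ := Euler.stalk_basis_of_frame he hx
  obtain ⟨D', e', hx', he'⟩ := FinCov.exists_frame_nhd_of_rank (Euler.isFinLocFreeOfRank_one' hN) x
  obtain ⟨b'⟩ := Euler.stalk_basis_of_frame he' hx'
  have hs : Function.Surjective (QCoh.stalkLin φ x) := QCoh.stalkLin_surjective φ x
  let ψ := (b'.equivFun.trans b.equivFun.symm).toLinearMap ∘ₗ QCoh.stalkLin φ x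
  have hψ : Function.Surjective ψ := (b'.equivFun.trans b.equivFun.symm).surjective.comp hs
  haveI : Module.Finite (X.presheaf.stalk x) (M.presheaf.stalk x) := Module.Finite.of_basis b
  have hi := OrzechProperty.injective_of_surjective_endomorphism ψ hψ
  exact ⟨Function.Injective.of_comp (f := b'.equivFun.trans b.equivFun.symm) hi, hs⟩

/-- The module of the inverse image of an ideal is the inverse image of its module, when both are invertible. -/
theorem nonempty_pullback_idealMod {Z Z' : Scheme.{u}} (i : Z ⟶ Y) [QuasiCompact i] (i' : Z' ⟶ X) [QuasiCompact i']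
    (g : Z' ⟶ Z) (f : X ⟶ Y) (hk : i' ≫ f = g ≫ i) (hker : i'.ker = i.ker.comap f)
    (hI : PicF.IsInvertible (ClSub.idealMod i.ker)) (hJ : PicF.IsInvertible (ClSub.idealMod i'.ker)) :
    Nonempty ((Scheme.Modules.pullback f).obj (ClSub.idealMod i.ker) ≅ ClSub.idealMod i'.ker) := by
  let α := OmegaBC.pullIdeal i i' g f hk
  have hα : α ≫ ClSub.idealModι i'.ker = pullι f i.ker := kernel.lift_ι _ _ _
  have hs : ∀ x : X, Function.Surjective ((OX.stalk x).map α).hom := by
    intro x
    letI := (f.stalkMap x).hom.toAlgebra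
    let T := (toStalk f (ClSub.idealMod i.ker) x ≫ (OX.stalk x).map α).hom
    obtain ⟨v, hvu, hv⟩ := OmegaBC.exists_unit_pullι f i.ker x
    have hT : ∀ n, ∃ t, sval i'.ker x (T t) = v * (f.stalkMap x) (sval i.ker (f x) n) := fun n => by
      refine ⟨(1 : X.presheaf.stalk x) ⊗ₜ[Y.presheaf.stalk (f x)] n, Eq.trans ?_ (hv n)⟩
      rw [← hα, Functor.map_comp]
      rfl
    have hle : Goodman.st i'.ker x ≤ LinearMap.range ((sval i'.ker x).comp T) := by
      have hst : Goodman.st i'.ker x = (Goodman.st i.ker (f x)).map (f.stalkMap x).hom := by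
        rw [hker, st_comap]
      rw [hst]
      refine Ideal.map_le_iff_le_comap.2 ?_
      rintro a ⟨n, rfl⟩
      obtain ⟨t, ht⟩ := hT n
      obtain ⟨w, hw⟩ := hvu.exists_left_inv
      refine ⟨w • t, ?_⟩
      rw [map_smul, LinearMap.comp_apply, ht, smul_eq_mul, ← mul_assoc, hw, one_mul]
    intro z
    obtain ⟨t, ht⟩ := hle (show sval i'.ker x z ∈ Goodman.st i'.ker x from ⟨z, rfl⟩)
    exact ⟨(toStalk f (ClSub.idealMod i.ker) x).hom t, OmegaBC.sval_injective i'.ker x ht⟩
  haveI : Epi α := (OX.epi_iff α).2 fun x => (ModuleCat.epi_iff_surjective _).2 (hs x)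
  haveI := isIso_of_epi_inv (Kleiman.isInv_pullback f hI) hJ α
  exact ⟨asIso α⟩

/-- A closed point of a regular curve is an effective Cartier divisor. -/
theorem isInvertible_point {k : Type u} [Field k] {C : Scheme.{u}} [C.Over (Spec (CommRingCat.of k))]
    [IsProper (C ↘ Spec (CommRingCat.of k))] [Smooth (C ↘ Spec (CommRingCat.of k))] [IsIntegral C]
    (hdim : topologicalKrullDim C = 1) {p : C} (hp : IsClosed ({p} : Set C)) :
    PicF.IsInvertible (ClSub.idealMod (C.fromSpecResidueField p).ker) := by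
  haveI := Euler.isNoetherian_of_proper (X := C) k
  refine IdealModSec.isInvertible_of_isEffCartier fun x => ?_
  haveI := regular_of_smooth (X := C) k x
  haveI : UniqueFactorizationMonoid (C.presheaf.stalk x) := RegUFD.ufd_of_isRegularLocalRing _
  have hcod : ∀ z : (C.fromSpecResidueField p).ker.subscheme,
      Curv2.IsWeakAssPoint (Coh.structureModule (C.fromSpecResidueField p).ker.subscheme) z →
      ringKrullDim (C.presheaf.stalk ((C.fromSpecResidueField p).ker.subschemeι z)) = 1 := fun z _ => by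
    have hs : ((C.fromSpecResidueField p).ker.support : Set C) = {p} := by
      rw [Scheme.Hom.support_ker, Scheme.range_fromSpecResidueField, hp.closure_eq]
    have hz : (C.fromSpecResidueField p).ker.subschemeι z ∈ ({p} : Set C) := by
      rw [← hs, ← Scheme.IdealSheafData.range_subschemeι]
      exact ⟨z, rfl⟩
    rw [show (C.fromSpecResidueField p).ker.subschemeι z = p from hz,
      GrpSchField.ringKrullDim_stalk_eq_of_isClosed (C ↘ Spec (CommRingCat.of k)) isClosed_univ isOpen_univ
        (IrreducibleSpace.isIrreducible_univ C) (Set.mem_univ p) hp]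
    exact (IsHomeomorph.topologicalKrullDim_eq _ (Homeomorph.Set.univ C).isHomeomorph).trans hdim
  obtain ⟨U, hxU, hU⟩ := BlowUp.exists_cartierOn_of_ufd (C.fromSpecResidueField p).ker hcod x
  exact ⟨U, hxU, hU⟩

/-- The class of an invertible fibre is pulled back from the point. -/
theorem cls_fibre (f : X ⟶ Y) {p : Y} (hp : IsClosed ({p} : Set Y))
    (hI : PicF.IsInvertible (ClSub.idealMod (Y.fromSpecResidueField p).ker))
    (hJ : PicF.IsInvertible (ClSub.idealMod (f.fiberι p).ker)) :
    clsMod hJ = clsMod (Kleiman.isInv_pullback f hI) := by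
  haveI := isClosed_singleton_iff_isClosedImmersion.1 hp
  haveI : IsClosedImmersion (f.fiberι p) := MorphismProperty.pullback_fst _ _ inferInstance
  rw [eq_comm, Cube.clsMod_eq_iff]
  exact nonempty_pullback_idealMod (Y.fromSpecResidueField p) (f.fiberι p) (f.fiberToSpecResidueField p) f
    (f.fiber_fac p) (Scheme.IdealSheafData.ker_fst_of_isClosedImmersion (Y.fromSpecResidueField p) f) hI hJ

variable (k : Type u) [Field k] [X.Over (Spec (CommRingCat.of k))] [IsProper (X ↘ Spec (CommRingCat.of k))]
  [Y.Over (Spec (CommRingCat.of k))] [IsProper (Y ↘ Spec (CommRingCat.of k))]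
  (g : X ⟶ Y) (hg : g ≫ Y ↘ Spec (CommRingCat.of k) = X ↘ Spec (CommRingCat.of k))

include hg in
/-- Degrees of pullbacks: zero on contracted curves, a positive multiple of the degree on the image otherwise. -/
theorem deg_pullback {M : Y.Modules} (hM : PicF.IsInvertible M) {y : X} (hy : IsTop 1 y) :
    (¬ IsTop 1 (g y) → deg k y (clsMod (Kleiman.isInv_pullback g hM)) = 0) ∧
      (IsTop 1 (g y) → ∃ r : ℕ, 0 < r ∧
        deg k y (clsMod (Kleiman.isInv_pullback g hM)) = r * mixed 1 (phi k 1 (fun _ => M) (ptMod (g y)))) := by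
  let I := Scheme.IdealSheafData.vanishingIdeal (⟨closure ({y} : Set X), isClosed_closure⟩ : Closeds X)
  letI : I.subscheme.Over (Spec (CommRingCat.of k)) := ⟨I.subschemeι ≫ X ↘ Spec (CommRingCat.of k)⟩
  haveI : IsProper (I.subscheme ↘ Spec (CommRingCat.of k)) :=
    inferInstanceAs (IsProper (I.subschemeι ≫ X ↘ Spec (CommRingCat.of k)))
  haveI : IsIntegral I.subscheme := Snapper.isIntegral_pt y
  have hd : topologicalKrullDim I.subscheme = ((1 : ℕ) : WithBot ℕ∞) := by
    refine (IsHomeomorph.topologicalKrullDim_eq _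
      I.subschemeι.isClosedEmbedding.isEmbedding.toHomeomorph.isHomeomorph).trans ?_
    rw [Snapper.range_pt]
    exact hy
  have hgp : I.subschemeι (genericPoint I.subscheme) = y := (inseparable_iff_closure_eq.2
    ((QCoh.closure_singleton_eq_range I.subschemeι).trans (Snapper.range_pt y))).eq
  have hp : (I.subschemeι ≫ g) ≫ Y ↘ Spec (CommRingCat.of k) = I.subscheme ↘ Spec (CommRingCat.of k) := by
    rw [Category.assoc, hg]
    rfl
  have hgy : (I.subschemeι ≫ g) (genericPoint I.subscheme) = g y :=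
    (Scheme.Hom.comp_apply _ _ _).trans (congrArg g hgp)
  have he : phi k 1 (fun _ => (Scheme.Modules.pullback g).obj M) (ptMod y) =
      phi k 1 (fun _ => (Scheme.Modules.pullback (I.subschemeι ≫ g)).obj M) (Coh.structureModule I.subscheme) := by
    have hA := Kleiman.isInv_pullback I.subschemeι (Kleiman.isInv_pullback g hM)
    have hB := Kleiman.isInv_pullback (I.subschemeι ≫ g) hM
    refine Eq.trans ?_ (funext fun n => Kleiman.phi_eq_of_cls k (fun _ : Fin 1 => hA) (fun _ : Fin 1 => hB) _
      (n := n) (n' := n) (by rw [(Cube.clsMod_eq_iff hA hB).2 ⟨(Scheme.Modules.pullbackComp I.subschemeι g).app M⟩]))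
    funext n
    refine (Snapper.phi_push k I.subschemeι rfl (fun _ => Kleiman.isInv_pullback g hM) n).trans ?_
    exact congrArg Int.cast (Euler.euler_of_iso k (OX.tensorUnitLeftIso _).symm)
  have h := Snapper.mixed_eq_zero (Snapper.phi_pullback_sub_mem (k := k) (g := I.subschemeι ≫ g) hp hd (r := 1)
    (L := fun _ => M) (fun _ => hM))
  rw [map_sub, map_nsmul, sub_eq_zero, nsmul_eq_mul, ← he, ← deg_eq_mixed k (Kleiman.isInv_pullback g hM), hgy] at h
  refine ⟨fun hn => ?_, fun hT => ⟨_, ?_, h⟩⟩
  · rw [h, Snapper.residueDegree_eq_zero (k := k) (g := I.subschemeι ≫ g) hp hd (hgy ▸ hn), Nat.cast_zero, zero_mul]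
  · letI := ((I.subschemeι ≫ g).residueFieldMap (genericPoint I.subscheme)).hom.toAlgebra
    haveI : Module.Finite (Y.residueField ((I.subschemeι ≫ g) (genericPoint I.subscheme)))
        (I.subscheme.residueField (genericPoint I.subscheme)) :=
      (Snapper.isTop_iff_finite (k := k) (g := I.subschemeι ≫ g) hp hd).1 (hgy.symm ▸ hT)
    exact Module.finrank_pos

end GrothLib.HodgeIndex
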