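import Groth.Agent.Lib.HodgeIndex.Deg
import Groth.Agent.Lib.IdealModSec.Basic

/-!
# Inclusions of ideals as monomorphisms of ideal modules
-/

set_option autoImplicit false
set_option backward.isDefEq.respectTransparency false
set_option linter.all false

universe u

open CategoryTheory CategoryTheory.Limits AlgebraicGeometry TopologicalSpace

noncomputable section

namespace GrothLib.HodgeIndex

open GrothLib.Cube (Pic clsMod)
open GrothLib.Kodaira (PLe)

variable {X : Scheme.{u}}

theorem comp_toSubscheme_zero {I J : X.IdealSheafData} (h : I ≤ J) :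
    ClSub.idealModι I ≫ ClSub.toSubscheme J = 0 := by
  refine Scheme.Modules.hom_ext _ _ fun W => AddCommGrpCat.ext fun m => ?_
  show J.subschemeι.app W (IdealModSec.val I W m) = 0
  have hi := Scheme.IdealSheafData.inclusion_subschemeι h
  rw [← hi, Scheme.Hom.comp_app]
  show (Scheme.IdealSheafData.inclusion h).app _ (I.subschemeι.app W (IdealModSec.val I W m)) = 0
  rw [IdealModSec.app_val I W m]
  exact map_zero _

/-- The map of ideal modules of an inclusion. -/
def idealIncl {I J : X.IdealSheafData} (h : I ≤ J) : ClSub.idealMod I ⟶ ClSub.idealMod J :=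
  kernel.lift (ClSub.toSubscheme J) (ClSub.idealModι I) (comp_toSubscheme_zero h)

theorem mono_idealIncl {I J : X.IdealSheafData} (h : I ≤ J) : Mono (idealIncl h) := by
  haveI : Mono (idealIncl h ≫ kernel.ι (ClSub.toSubscheme J)) := by
    rw [idealIncl, kernel.lift_ι]
    exact inferInstanceAs (Mono (kernel.ι (ClSub.toSubscheme I)))
  exact mono_of_mono (idealIncl h) (kernel.ι (ClSub.toSubscheme J))

theorem pLe_idealMod {I J : X.IdealSheafData} (h : I ≤ J) (hI : PicF.IsInvertible (ClSub.idealMod I))
    (hJ : PicF.IsInvertible (ClSub.idealMod J)) : PLe (clsMod hI) (clsMod hJ) :=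
  (Kodaira.pLe_iff hI hJ).2 ⟨idealIncl h, mono_idealIncl h⟩

theorem isIso_idealModι_top : IsIso (ClSub.idealModι (⊤ : X.IdealSheafData)) := by
  have h : ∀ x ∈ (⊤ : X.Opens), Function.Bijective (QCoh.stalkLin (ClSub.idealModι (⊤ : X.IdealSheafData)) x) :=
    fun x _ => stalk_bijective_idealModι _ (by simp)
  exact (OX.isIso_iff _).2 fun x => (ConcreteCategory.isIso_iff_bijective _).2 (h x trivial)

theorem cls_idealMod_top (h : PicF.IsInvertible (ClSub.idealMod (⊤ : X.IdealSheafData))) :
    clsMod h = 1 := by
  haveI := isIso_idealModι_top (X := X)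
  exact (Cube.clsMod_eq_one_iff h).2 ⟨asIso (ClSub.idealModι (⊤ : X.IdealSheafData))⟩

end GrothLib.HodgeIndex
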