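import Groth.Agent.Lib.HodgeIndex.Vanish
import Groth.Agent.Lib.Kleiman.Kleiman

/-!
# The intersection form on classes of invertible modules of a surface
-/

set_option autoImplicit false
set_option backward.isDefEq.respectTransparency false
set_option linter.all false

universe u

open CategoryTheory CategoryTheory.Limits AlgebraicGeometry TopologicalSpace

noncomputable section

namespace GrothLib.HodgeIndex

open GrothLib.Euler (tF)
open GrothLib.Snapper (DimLT IsTop phi mixed polyLT invPows)
open GrothLib.Cube (Pic clsMod)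

variable {X : Scheme.{u}} (k : Type u) [Field k] [X.Over (Spec (CommRingCat.of k))]

/-- A module of the given class. -/
def rep (x : Pic X) : X.Modules := (Kodaira.exists_rep x).choose

theorem isInv_rep (x : Pic X) : PicF.IsInvertible (rep x) := (Kodaira.exists_rep x).choose_spec.choose

theorem cls_rep (x : Pic X) : clsMod (isInv_rep x) = x := (Kodaira.exists_rep x).choose_spec.choose_spec

/-- The Euler characteristic of a class. -/
def chi (x : Pic X) : ℤ := Curv2.euler k X (rep x)

theorem euler_eq_chi {L : X.Modules} (hL : PicF.IsInvertible L) : Curv2.euler k X L = chi k (clsMod hL) := by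
  obtain ⟨e⟩ := (Cube.clsMod_eq_iff hL (isInv_rep _)).1 (cls_rep (clsMod hL)).symm
  exact Euler.euler_of_iso k e

theorem chi_one : chi k (1 : Pic X) = Curv2.euler k X (Coh.structureModule X) := by
  rw [← (Cube.clsMod_eq_one_iff (Euler.isInvertible_structure (X := X))).2 ⟨Iso.refl _⟩, euler_eq_chi]

/-- The intersection number of two classes. -/
def isect (x y : Pic X) : ℤ := chi k (1 : Pic X) - chi k x - chi k y + chi k (x * y)

theorem isect_comm (x y : Pic X) : isect k x y = isect k y x := by
  rw [isect, isect, mul_comm x y]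
  ring

theorem phi_eq_chi {r : ℕ} (x : Fin r → Pic X) (n : Fin r → ℕ) :
    phi k r (fun i => rep (x i)) (Coh.structureModule X) n = (chi k (∏ i, x i ^ n i) : ℚ) := by
  have h := Kleiman.cls_invPows r (fun i => rep (x i)) (fun i => isInv_rep _) n
  simp only [cls_rep] at h
  rw [← h, ← euler_eq_chi]
  exact congrArg Int.cast (Euler.euler_of_iso k (OX.tensorUnitLeftIso _))

variable [IsProper (X ↘ Spec (CommRingCat.of k))]

include k in
theorem support_structure_dimLT {d : ℕ} (hd : topologicalKrullDim X ≤ (d : WithBot ℕ∞)) :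
    DimLT (CohB1.support (Coh.structureModule X)) (d + 1) :=
  (Kleiman.dimLT_univ hd).mono fun _ _ => trivial

theorem mixed_two (f : (Fin 2 → ℕ) → ℚ) : mixed 2 f = f ![1, 1] - f ![1, 0] - f ![0, 1] + f ![0, 0] := by
  show ∑ S : Finset (Fin 2), (-1 : ℚ) ^ (2 - S.card) * f (Snapper.ind S) = _
  have h : ∀ S : Finset (Fin 2), Snapper.ind S = ![if 0 ∈ S then 1 else 0, if 1 ∈ S then 1 else 0] := fun S => by
    funext i; fin_cases i <;> rfl
  simp only [h]
  rw [show (Finset.univ : Finset (Finset (Fin 2))) = {∅, {0}, {1}, {0, 1}} by decide,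
    Finset.sum_insert (by decide), Finset.sum_insert (by decide), Finset.sum_insert (by decide), Finset.sum_singleton]
  simp
  ring

theorem mixed_three (f : (Fin 3 → ℕ) → ℚ) : mixed 3 f =
    f ![1, 1, 1] - f ![1, 1, 0] - f ![1, 0, 1] - f ![0, 1, 1] + f ![1, 0, 0] + f ![0, 1, 0] + f ![0, 0, 1]
      - f ![0, 0, 0] := by
  show ∑ S : Finset (Fin 3), (-1 : ℚ) ^ (3 - S.card) * f (Snapper.ind S) = _
  have h : ∀ S : Finset (Fin 3), Snapper.ind S =
      ![if 0 ∈ S then 1 else 0, if 1 ∈ S then 1 else 0, if 2 ∈ S then 1 else 0] := fun S => by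
    funext i; fin_cases i <;> rfl
  simp only [h]
  rw [show (Finset.univ : Finset (Finset (Fin 3))) = {∅, {0}, {1}, {2}, {0, 1}, {0, 2}, {1, 2}, {0, 1, 2}} by decide,
    Finset.sum_insert (by decide), Finset.sum_insert (by decide), Finset.sum_insert (by decide),
    Finset.sum_insert (by decide), Finset.sum_insert (by decide), Finset.sum_insert (by decide),
    Finset.sum_insert (by decide), Finset.sum_singleton]
  simp
  ring

variable (hd : topologicalKrullDim X ≤ ((2 : ℕ) : WithBot ℕ∞))

include hd in
theorem isect_mul_left (x y z : Pic X) : isect k (x * y) z = isect k x z + isect k y z := by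
  have hm := Snapper.phi_mem_polyLT k (L := fun i => rep (![x, y, z] i)) (fun i => isInv_rep _) 3
    (Coh.structureModule X) (Kleiman.isCoh_O k) (support_structure_dimLT k hd)
  have h := Snapper.mixed_eq_zero hm
  rw [mixed_three] at h
  simp [phi_eq_chi, Fin.prod_univ_three] at h
  have h' : ((chi k (x * y * z) - chi k (x * y) - chi k (x * z) - chi k (y * z) + chi k x + chi k y + chi k z
      - chi k (1 : Pic X) : ℤ) : ℚ) = 0 := by push_cast; linarith
  have h'' : chi k (x * y * z) - chi k (x * y) - chi k (x * z) - chi k (y * z) + chi k x + chi k y + chi k z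
      - chi k (1 : Pic X) = 0 := by exact_mod_cast h'
  simp only [isect]
  linarith

include hd in
theorem isect_one_left (z : Pic X) : isect k 1 z = 0 := by
  simp [isect]

include hd in
theorem isect_inv_left (x z : Pic X) : isect k x⁻¹ z = - isect k x z := by
  have h := isect_mul_left k hd x⁻¹ x z
  rw [inv_mul_cancel, isect_one_left k hd] at h
  linarith

include hd in
theorem isect_pow_left (x z : Pic X) (n : ℕ) : isect k (x ^ n) z = n * isect k x z := by
  induction n with
  | zero => simp [isect]
  | succ n ih => rw [pow_succ, isect_mul_left k hd, ih]; push_cast; ring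

include hd in
theorem isect_mul_right (z x y : Pic X) : isect k z (x * y) = isect k z x + isect k z y := by
  rw [isect_comm, isect_mul_left k hd, isect_comm k x, isect_comm k y]

include hd in
theorem isect_inv_right (z x : Pic X) : isect k z x⁻¹ = - isect k z x := by
  rw [isect_comm, isect_inv_left k hd, isect_comm]

include hd in
theorem isect_pow_right (z x : Pic X) (n : ℕ) : isect k z (x ^ n) = n * isect k z x := by
  rw [isect_comm, isect_pow_left k hd, isect_comm]

include hd in
/-- Riemann–Roch along the powers of a class. -/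
theorem two_chi_pow (x : Pic X) (n : ℕ) :
    2 * chi k (x ^ n) = 2 * chi k (1 : Pic X) + 2 * n * (chi k x - chi k (1 : Pic X)) + n * ((n : ℤ) - 1) * isect k x x := by
  induction n with
  | zero => simp
  | succ n ih =>
    have h : isect k (x ^ n) x = chi k (1 : Pic X) - chi k (x ^ n) - chi k x + chi k (x ^ (n + 1)) := by rw [isect, pow_succ]
    rw [isect_pow_left k hd] at h
    push_cast
    linarith

include hd in
theorem mixed_rep_const (x : Pic X) :
    mixed 2 (phi k 2 (fun _ => rep x) (Coh.structureModule X)) = (isect k x x : ℚ) := by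
  rw [mixed_two]
  have h : ∀ n : Fin 2 → ℕ, phi k 2 (fun _ => rep x) (Coh.structureModule X) n = (chi k (x ^ n 0 * x ^ n 1) : ℚ) :=
    fun n => (phi_eq_chi k (fun _ : Fin 2 => x) n).trans (by rw [Fin.prod_univ_two])
  simp [h, isect]
  ring

include hd in
theorem isect_self_pos [IsIntegral X] (hdim : topologicalKrullDim X = ((2 : ℕ) : WithBot ℕ∞)) {A : X.Modules}
    (hA : CohB1.IsAmple A) : 0 < isect k (clsMod hA.1) (clsMod hA.1) := by
  obtain ⟨e⟩ := (Cube.clsMod_eq_iff (isInv_rep _) hA.1).1 (cls_rep (clsMod hA.1))
  have h := Snapper.mixed_pos k 2 X (rep (clsMod hA.1)) ((Ample.isAmple_iff_of_iso e).2 hA) (Coh.structureModule X)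
    (Kleiman.isCoh_O k) (support_structure_dimLT k hd)
    ⟨genericPoint X, Kleiman.mem_support_structure _, Kleiman.isTop_genericPoint hdim⟩
  rw [mixed_rep_const k hd] at h
  exact_mod_cast h

end GrothLib.HodgeIndex
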