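import Groth.Agent.Lib.Kodaira.Big
import Groth.Agent.Lib.SerreVanish.Ample

/-!
# Cohomology vanishes above the dimension of the support; sections of negative twists are bounded
-/

set_option autoImplicit false
set_option backward.isDefEq.respectTransparency false
set_option linter.all false

universe u

open CategoryTheory CategoryTheory.Limits AlgebraicGeometry TopologicalSpace

noncomputable section

namespace GrothLib.HodgeIndex

open GrothLib.Euler (tF)
open GrothLib.Snapper (DimLT)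
open GrothLib.QCoh (stalkLin TorsFreeAt)
open GrothLib.Kodaira (IsoOn h0)

variable {X : Scheme.{u}} (k : Type u) [Field k] [X.Over (Spec (CommRingCat.of k))]
  [IsProper (X ↘ Spec (CommRingCat.of k))]

include k in
theorem isCoh_push_piece {Z : Scheme.{u}} (i : Z ⟶ X) [IsClosedImmersion i] {N : Z.Modules} (hN : Coh.IsCoh N) :
    Coh.IsCoh ((Coh.push i).obj N) := by
  haveI := Euler.isNoetherian_of_proper (X := X) k
  haveI := hN.1
  haveI : IsLocallyNoetherian Z := LocallyOfFiniteType.isLocallyNoetherian i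
  exact ⟨QCoh.isQuasicoherent_pushforward i N, QCoh.isFiniteType_pushforward i N hN.2⟩

theorem torsFreeAt_piece {Z : Scheme.{u}} (i : Z ⟶ X) [IsClosedImmersion i] [IsIntegral Z] {N : Z.Modules}
    (ι : N ⟶ Coh.structureModule Z) [Mono ι] : TorsFreeAt ((Coh.push i).obj N) (i (genericPoint Z)) := by
  haveI : Mono ((Coh.push i).map ι) := (inferInstance : Mono ((Scheme.Modules.pushforward i).map ι))
  exact Kodaira.torsFreeAt_of_mono ((Coh.push i).map ι) (QCoh.pushUnit_torsFreeAt i)

include k in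
/-- A torsion-free piece maps injectively to its twists, with smaller cokernel. -/
theorem exists_piece_seq {M : X.Modules} (hM : PicF.IsInvertible M) {P : X.Modules} (hP : Coh.IsCoh P) {η : X}
    (hPt : TorsFreeAt P η) (hPs : CohB1.support P ⊆ closure ({η} : Set X)) {d : ℕ}
    (hd : DimLT (closure ({η} : Set X)) (d + 1)) {U : X.Opens} (hηU : η ∈ U) {τ : Coh.structureModule X ⟶ M}
    (hτ : IsoOn U τ) :
    ∃ S : ShortComplex X.Modules, S.ShortExact ∧ Coh.IsCoh S.X₃ ∧ DimLT (CohB1.support S.X₃) d ∧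
      Nonempty (S.X₁ ≅ P) ∧ Nonempty (S.X₂ ≅ (tF M).obj P) := by
  let f : P ⟶ (tF M).obj P := (Euler.tFUnitIso P).inv ≫ ((DCoh.tensorBi (X := X)).obj P).map τ
  have hf : IsoOn U f := (Kodaira.isoOn_of_iso U _).comp (hτ.tensor_left P)
  haveI : Mono f := Kodaira.mono_of_stalk_injective f hPt (hf.stalk_bijective hηU).1
  have hM' : Coh.IsCoh ((tF M).obj P) :=
    haveI := Euler.isNoetherian_of_proper (X := X) k
    Euler.isCoh_tF hP (Euler.isFinLocFree_of_isInvertible hM)
  let S : ShortComplex X.Modules := ShortComplex.mk f (cokernel.π f) (cokernel.condition f)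
  have hS : S.ShortExact :=
    haveI : Mono S.f := ‹Mono f›
    haveI : Epi S.g := inferInstanceAs (Epi (cokernel.π f))
    { exact := ShortComplex.exact_of_g_is_cokernel _ (cokernelIsCokernel _) }
  haveI := Euler.isNoetherian_of_proper (X := X) k
  refine ⟨S, hS, QCoh.isCoh_cokernel f hP hM', ?_, ⟨Iso.refl _⟩, ⟨Iso.refl _⟩⟩
  refine (Snapper.dimLT_of_notMem hd (T := closure ({η} : Set X) ∩ (U : Set X)ᶜ) Set.inter_subset_left
    fun h => h.2 hηU).mono fun x hx => ⟨?_, fun hxU => ?_⟩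
  · exact hPs ((Euler.support_tF_subset (Euler.isFinLocFreeOfRank_one' hM))
      (QCoh.support_subset_of_epi (cokernel.π f) hx))
  · exact QCoh.notMem_support_cokernel_of_surjective f (hf.stalk_bijective hxU).2 hx

include k in
/-- Grothendieck vanishing on a projective scheme. -/
theorem subsingleton_HH_of_dimLT {A : X.Modules} (hA : CohB1.IsAmple A) : ∀ (d : ℕ) (F : X.Modules),
    Coh.IsCoh F → DimLT (CohB1.support F) d → ∀ i, d ≤ i → Subsingleton (Coh.HH X F i) := by
  haveI := Euler.isNoetherian_of_proper (X := X) k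
  intro d
  induction d with
  | zero =>
    intro F hF hd i _
    exact Cohom.subsingleton_HH_of_isZero (Hilb20.isZero_of_support_eq_empty (Snapper.eq_empty_of_dimLT_zero hd)) i
  | succ d ih =>
    intro F hF hd
    refine QCoh.coh_induction (fun M => ∀ i, d + 1 ≤ i → Subsingleton (Coh.HH X M i)) ?_ ?_ ?_ F hF ?_
    · rintro M N ⟨e⟩ h i hi
      haveI := h i hi
      exact (Euler.hhEquiv (A := k) e i).toEquiv.symm.subsingleton
    · exact fun M hM i _ => Cohom.subsingleton_HH_of_isZero hM i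
    · intro S hS _ _ _ h₁ h₃ i hi
      haveI := h₁ i hi
      haveI := h₃ i hi
      refine subsingleton_of_forall_eq 0 fun x => ?_
      obtain ⟨w, rfl⟩ := (Cohom.exact₂ (A := k) hS i x).1 (Subsingleton.elim _ _)
      rw [Subsingleton.elim w 0, map_zero]
    intro Z j hj hZ N ι hι hN hN0 hsub i hi
    let P := (Coh.push j).obj N
    have hP : Coh.IsCoh P := isCoh_push_piece k j hN
    have hPs : CohB1.support P ⊆ closure ({j (genericPoint Z)} : Set X) := by
      rw [QCoh.closure_singleton_eq_range j]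
      exact QCoh.support_pushforward_subset_range j N
    have hdη : DimLT (closure ({j (genericPoint Z)} : Set X)) (d + 1) :=
      (hd.mono hsub).mono ((QCoh.isClosed_support_of_isCoh hP).closure_subset_iff.2
        (Set.singleton_subset_iff.2 (QCoh.genericPoint_mem_support_push j N ι hN0)))
    obtain ⟨j₀, hj₀⟩ := Kodaira.exists_hom_isoOn hA (Euler.isInvertible_structure (X := X))
    obtain ⟨n₀, hn₀⟩ := SerreVanish.exists_forall_subsingleton k hA hP
    let n := max j₀ n₀
    obtain ⟨U, τ, hηU, hτ⟩ := hj₀ n (le_max_left _ _) (j (genericPoint Z))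
    obtain ⟨S, hS, hQ, hQd, ⟨e₁⟩, ⟨e₂⟩⟩ := exists_piece_seq k (Ample.isInvertible_tensorPow hA.1 n) hP
      (torsFreeAt_piece j ι) hPs hdη hηU hτ
    haveI : Subsingleton (Coh.HH X ((tF (CohB1.tensorPow A n)).obj P) i) := hn₀ n (le_max_right _ _) i (by omega)
    haveI : Subsingleton (Coh.HH X S.X₂ i) := (Euler.hhEquiv (A := k) e₂ i).toEquiv.subsingleton
    obtain ⟨i', rfl⟩ : ∃ i', i = i' + 1 := ⟨i - 1, by omega⟩
    haveI := ih S.X₃ hQ hQd i' (by omega)
    suffices h : Subsingleton (Coh.HH X S.X₁ (i' + 1)) from (Euler.hhEquiv (A := k) e₁ _).toEquiv.symm.subsingleton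
    refine subsingleton_of_forall_eq 0 fun x => ?_
    obtain ⟨w, rfl⟩ := (Cohom.exact₁ (A := k) hS i' x).1 (Subsingleton.elim _ _)
    rw [Subsingleton.elim w 0, map_zero]

theorem nonempty_tF_tF (P : X.Modules) {A B C : X.Modules} (e : CohB1.tensorMod A B ≅ C) :
    Nonempty ((tF B).obj ((tF A).obj P) ≅ (tF C).obj P) :=
  ⟨OX.tensorAssoc P A B ≪≫ ((DCoh.tensorBi (X := X)).obj P).mapIso e⟩

include k in
theorem h0_neg_step {H T : X.Modules} (hH : PicF.IsInvertible H) (hT : PicF.IsInvertible T)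
    (hTH : Cube.clsMod hT * Cube.clsMod hH = 1) {U : X.Opens} {σ : Coh.structureModule X ⟶ H} (hσ : IsoOn U σ)
    {η : X} (hηU : η ∈ U) {P : X.Modules} (hP : Coh.IsCoh P) (hPt : TorsFreeAt P η) (n : ℕ) :
    h0 k ((tF (CohB1.tensorPow T (n + 1))).obj P) ≤ h0 k ((tF (CohB1.tensorPow T n)).obj P) := by
  haveI := Euler.isNoetherian_of_proper (X := X) k
  have hTn := Ample.isInvertible_tensorPow hT (n + 1)
  obtain ⟨e⟩ : Nonempty (CohB1.tensorMod (CohB1.tensorPow T (n + 1)) H ≅ CohB1.tensorPow T n) := by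
    refine (Cube.clsMod_eq_iff (Ample.isInvertible_tensorMod hTn hH) (Ample.isInvertible_tensorPow hT n)).1 ?_
    rw [Cube.clsMod_tensorMod hTn hH, Cube.clsMod_tensorPow hT, Cube.clsMod_tensorPow hT, pow_succ, mul_assoc, hTH,
      mul_one]
  have hQc : Coh.IsCoh ((tF (CohB1.tensorPow T (n + 1))).obj P) := Snapper.isCoh_twist k hT hP _
  have hQt : TorsFreeAt ((tF (CohB1.tensorPow T (n + 1))).obj P) η := Kodaira.torsFreeAt_tensor hTn hPt
  obtain ⟨g⟩ := nonempty_tF_tF P e
  revert hQc hQt g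
  generalize (tF (CohB1.tensorPow T n)).obj P = R
  generalize (tF (CohB1.tensorPow T (n + 1))).obj P = Q
  intro hQc hQt g
  let f : Q ⟶ (tF H).obj Q := (Euler.tFUnitIso Q).inv ≫ ((DCoh.tensorBi (X := X)).obj Q).map σ
  have hf : IsoOn U f := (Kodaira.isoOn_of_iso U _).comp (hσ.tensor_left Q)
  haveI : Mono f := Kodaira.mono_of_stalk_injective f hQt (hf.stalk_bijective hηU).1
  exact le_trans (Kodaira.h0_le_of_mono k f (Euler.isCoh_tF hQc (Euler.isFinLocFree_of_isInvertible hH)))
    (Kodaira.h0_of_iso k g).le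

include k in
/-- Sections of the negative twists of a coherent module are bounded. -/
theorem h0_neg_bound {H T : X.Modules} (hH : PicF.IsInvertible H) (hT : PicF.IsInvertible T)
    (hTH : Cube.clsMod hT * Cube.clsMod hH = 1)
    (hgg : ∀ x : X, ∃ (U : X.Opens) (σ : Coh.structureModule X ⟶ H), x ∈ U ∧ IsoOn U σ)
    {F : X.Modules} (hF : Coh.IsCoh F) :
    ∃ C : ℕ, ∀ n : ℕ, h0 k ((tF (CohB1.tensorPow T n)).obj F) ≤ C := by
  haveI := Euler.isNoetherian_of_proper (X := X) k
  refine QCoh.coh_induction (fun M => ∃ C : ℕ, ∀ n : ℕ, h0 k ((tF (CohB1.tensorPow T n)).obj M) ≤ C)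
    ?_ ?_ ?_ F hF ?_
  · rintro M N ⟨e⟩ ⟨C, hC⟩
    exact ⟨C, fun n => (Kodaira.h0_of_iso k ((tF _).mapIso e)).symm.le.trans (hC n)⟩
  · intro M hM
    exact ⟨0, fun n => (Kodaira.h0_of_isZero k ((tF _).map_isZero hM)).le⟩
  · rintro S hS a b c ⟨C₁, h₁⟩ ⟨C₃, h₃⟩
    exact ⟨C₁ + C₃, fun n => (Kodaira.h0_X₂_le k (Snapper.shortExact_twist hT n hS) (Snapper.isCoh_twist k hT a n)
      (Snapper.isCoh_twist k hT b n) (Snapper.isCoh_twist k hT c n)).trans (Nat.add_le_add (h₁ n) (h₃ n))⟩
  intro Z j hj hZ N ι hι hN hN0 hsub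
  let P := (Coh.push j).obj N
  have hP : Coh.IsCoh P := isCoh_push_piece k j hN
  have hPt : TorsFreeAt P (j (genericPoint Z)) := torsFreeAt_piece j ι
  obtain ⟨U, σ, hηU, hσ⟩ := hgg (j (genericPoint Z))
  refine ⟨h0 k P, fun n => ?_⟩
  induction n with
  | zero => exact (Kodaira.h0_of_iso k (Euler.tFUnitIso P)).le
  | succ n ih =>
    exact (h0_neg_step k hH hT hTH hσ hηU hP hPt n).trans ih

end GrothLib.HodgeIndex
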