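import Groth.Agent.Lib.HodgeIndex.Walls
import Groth.Agent.Lib.NefGrowth.Growth

/-!
# Degrees on curves at the level of the Picard group of a surface
-/

set_option autoImplicit false
set_option backward.isDefEq.respectTransparency false
set_option linter.all false

universe u

open CategoryTheory CategoryTheory.Limits AlgebraicGeometry TopologicalSpace

noncomputable section

namespace GrothLib.HodgeIndex

open GrothLib.Euler (tF)
open GrothLib.Cube (Pic clsMod)
open GrothLib.Kodaira (IsoOn PLe)
open GrothLib.Snapper (IsTop DimLT mixed phi ptMod)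
open GrothLib.QCoh (stalkLin)

variable {X : Scheme.{u}} (k : Type u) [Field k] [X.Over (Spec (CommRingCat.of k))]

/-- The degree of a class on the curve with generic point `y`. -/
def deg (y : X) (x : Pic X) : ℚ := mixed 1 (phi k 1 (fun _ => rep x) (ptMod y))

theorem deg_eq_mixed {y : X} {L : X.Modules} (hL : PicF.IsInvertible L) :
    deg k y (clsMod hL) = mixed 1 (phi k 1 (fun _ => L) (ptMod y)) := by
  obtain ⟨x, hx⟩ : ∃ x, x = clsMod hL := ⟨_, rfl⟩
  rw [← hx, deg]
  have e : phi k 1 (fun _ => rep x) (ptMod y) = phi k 1 (fun _ => L) (ptMod y) := funext fun n =>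
    Kleiman.phi_eq_of_cls k (L := fun _ => rep x) (L' := fun _ => L) (fun _ => isInv_rep x) (fun _ => hL) (ptMod y)
      (n := n) (n' := n) (by simp only [cls_rep, hx])
  rw [e]

/-- The Euler form of the degree. -/
theorem euler_sub_eq_mixed {L : X.Modules} (hL : PicF.IsInvertible L) (F : X.Modules) :
    ((Curv2.euler k X (CohB1.tensorMod F L) - Curv2.euler k X F : ℤ) : ℚ) =
      mixed 1 (phi k 1 (fun _ => L) F) := by
  rw [mixed_one, Snapper.phi_const_eq, Snapper.phi_const_eq]
  have h : ∀ (n : ℕ) (M : X.Modules) (hM : PicF.IsInvertible M), clsMod hM = clsMod hL ^ n →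
      Curv2.euler k X ((tF (CohB1.tensorPow L n)).obj F) = Curv2.euler k X ((tF M).obj F) := fun n M hM hc => by
    obtain ⟨e⟩ := (Cube.clsMod_eq_iff (Ample.isInvertible_tensorPow hL n) hM).1
      (by rw [Cube.clsMod_tensorPow hL, hc])
    exact Euler.euler_of_iso k (((DCoh.tensorBi (X := X)).obj F).mapIso e)
  simp only [Fin.sum_univ_one]
  rw [h 1 L hL (pow_one _).symm, h 0 (Coh.structureModule X) Euler.isInvertible_structure
    (((Cube.clsMod_eq_one_iff _).2 ⟨Iso.refl _⟩).trans (pow_zero _).symm), Euler.euler_of_iso k (Euler.tFUnitIso F)]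
  push_cast
  rfl

variable [IsProper (X ↘ Spec (CommRingCat.of k))] [IsIntegral X]
  (hdim : topologicalKrullDim X = ((2 : ℕ) : WithBot ℕ∞))

include hdim in
/-- An effective class is a non-negative combination of curves. -/
theorem eff_decomp_pic {z : Pic X} (hz : PLe (1 : Pic X) z) :
    ∃ (s : Coh.structureModule X ⟶ rep z) (_ : Mono s) (T : Finset X) (m : X → ℕ),
      (∀ y ∈ T, IsTop 1 y ∧ y ∈ CohB1.support (cokernel s)) ∧
      ∀ x : Pic X, (isect k x z : ℚ) = ∑ y ∈ T, (m y : ℚ) * deg k y x := by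
  haveI := Euler.isNoetherian_of_proper (X := X) k
  rw [← (Cube.clsMod_eq_one_iff (Euler.isInvertible_structure (X := X))).2 ⟨Iso.refl _⟩, ← cls_rep z] at hz
  obtain ⟨s, hs'⟩ := (Kodaira.pLe_iff _ (isInv_rep z)).1 hz
  haveI := hs'
  have hs : s ≠ 0 := Kodaira.exists_ne_zero_of_mono Euler.isInvertible_structure s
  let Q := cokernel s
  have hQ : Coh.IsCoh Q := QCoh.isCoh_cokernel s (Kleiman.isCoh_O k) (Euler.isCoh_of_isInvertible (isInv_rep z))
  have hQd : DimLT (CohB1.support Q) (1 + 1) := dimLT_coker k hdim (isInv_rep z) s hs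
  have hTf : {y : X | IsTop 1 y ∧ y ∈ CohB1.support Q}.Finite :=
    Snapper.finite_of_maximal (QCoh.isClosed_support_of_isCoh hQ) (fun y hy => hy.2) fun x hx y hy hyx =>
      hx.1.eq_of_specializes hyx (hQd.mono ((QCoh.isClosed_support_of_isCoh hQ).closure_subset_iff.2
        (Set.singleton_subset_iff.2 hy)))
  refine ⟨s, hs', hTf.toFinset, fun y => Snapper.mult Q y, fun y hy => hTf.mem_toFinset.1 hy, fun x => ?_⟩
  have hsum := Snapper.mixed_eq_zero
    (Snapper.phi_sub_sum_mem k (L := fun _ : Fin 1 => rep x) (fun _ => isInv_rep x) hQ hQd)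
  rw [finsum_eq_sum_of_support_subset _ (s := hTf.toFinset) (fun y hy => by
    rw [Set.Finite.coe_toFinset]
    by_contra hc
    exact hy (Snapper.topTerm_eq_zero _ fun ht hm => hc ⟨ht, hm⟩)), map_sub, sub_eq_zero, map_sum,
    isect_coker k hdim z s (isInv_rep x), cls_rep] at hsum
  rw [hsum]
  refine Finset.sum_congr rfl fun y hy => ?_
  rw [Snapper.topTerm_of _ (hTf.mem_toFinset.1 hy).1, map_nsmul, nsmul_eq_mul]
  rfl

include hdim in
/-- A class of non-negative degree on all curves is nef. -/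
theorem isNef_of_deg {L : X.Modules} (hL : PicF.IsInvertible L) (h : ∀ y, IsTop 1 y → 0 ≤ deg k y (clsMod hL)) :
    NumR.IsNef k X L := by
  intro Y i hi hY hd
  haveI := hY
  have hmem := exists_curveDeg_eq k i hd.le hL {q : ℚ | 0 ≤ q}
    (fun y hy => by rw [Set.mem_setOf_eq, ← deg_eq_mixed k hL]; exact h y hy) (le_refl (0 : ℚ))
    (fun a ha b hb => show (0 : ℚ) ≤ a + b from add_nonneg ha hb)
  have h0 : (0 : ℚ) ≤
      ((Pic13.curveDeg k (i ≫ X ↘ Spec (CommRingCat.of k)) ((Scheme.Modules.pullback i).obj L) : ℤ) : ℚ) := hmem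
  exact_mod_cast h0

include hdim in
/-- The square of a class of non-negative degree on all curves is non-negative. -/
theorem sq_nonneg_of_deg {H : X.Modules} (hH : CohB1.IsAmple H) {x : Pic X}
    (h : ∀ y, IsTop 1 y → 0 ≤ deg k y x) : 0 ≤ isect k x x := by
  have hn := isNef_of_deg k hdim (isInv_rep x) (by rw [cls_rep]; exact h)
  have hO := Kleiman.isCoh_O (X := X) k
  have hd : DimLT (CohB1.support (Coh.structureModule X)) (2 + 1) := support_structure_dimLT k hdim.le
  have h0 := Kleiman.tc_nonneg k (isInv_rep x) hn hH hO hd le_rfl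
  have h1 := NefGrowth.mixed_eq_tc k (isInv_rep x) hH.1 hO hd
  rw [mixed_rep_const k hdim.le] at h1
  have h2 : (0 : ℚ) ≤ (isect k x x : ℚ) := by rw [h1]; positivity
  exact_mod_cast h2

include hdim in
/-- Non-negative functionals on curves are non-negative on effective classes. -/
theorem sum_isect_nonneg {ι : Type} [Fintype ι] (c : ι → ℚ) (x : ι → Pic X)
    (h : ∀ y, IsTop 1 y → 0 ≤ ∑ i, c i * deg k y (x i)) {z : Pic X} (hz : PLe (1 : Pic X) z) :
    0 ≤ ∑ i, c i * (isect k (x i) z : ℚ) := by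
  obtain ⟨s, hs, T, m, hT, hd⟩ := eff_decomp_pic k hdim hz
  simp only [hd, Finset.mul_sum]
  rw [Finset.sum_comm]
  refine Finset.sum_nonneg fun y hy => ?_
  have e : ∑ i, c i * ((m y : ℚ) * deg k y (x i)) = (m y : ℚ) * ∑ i, c i * deg k y (x i) := by
    rw [Finset.mul_sum]
    exact Finset.sum_congr rfl fun i _ => by ring
  rw [e]
  exact mul_nonneg (Nat.cast_nonneg _) (h y (hT y hy).1)

include hdim in
/-- A class orthogonal to a class of positive square has non-positive square. -/
theorem sq_nonpos_of_orth_pic {H : X.Modules} (hH : CohB1.IsAmple H) {d z : Pic X} (hdd : 0 < isect k d d)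
    (hz : isect k d z = 0) : isect k z z ≤ 0 := by
  have hd := hdim.le
  obtain ⟨h, hh⟩ : ∃ h, h = clsMod hH.1 := ⟨_, rfl⟩
  have hne : isect k d h ≠ 0 := fun h0 => (hodge k hdim hH (x := d) (hh ▸ h0)).not_gt hdd
  suffices key : ∀ d : Pic X, 0 < isect k d d → isect k d z = 0 → 0 < isect k d h → isect k z z ≤ 0 by
    rcases hne.lt_or_gt with hlt | hgt
    · refine key d⁻¹ (by rwa [isect_inv_left k hd, isect_inv_right k hd, neg_neg])
        (by rw [isect_inv_left k hd, hz, neg_zero]) (by rw [isect_inv_left k hd]; linarith)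
    · exact key d hdd hz hgt
  intro d hdd hz hdh
  by_contra hzz
  push Not at hzz
  obtain ⟨a, ha⟩ : ∃ a : ℕ, isect k d h = a := ⟨_, (Int.toNat_of_nonneg hdh.le).symm⟩
  rcases le_total 0 (isect k z h) with hzh | hzh
  all_goals
    obtain ⟨b, hb⟩ : ∃ b : ℕ, |isect k z h| = b := ⟨_, (Int.toNat_of_nonneg (abs_nonneg _)).symm⟩
  · rw [abs_of_nonneg hzh] at hb
    have := hodge k hdim hH (x := z ^ a * (d ^ b)⁻¹) (by
      rw [← hh, isect_mul_left k hd, isect_inv_left k hd, isect_pow_left k hd, isect_pow_left k hd, ha, hb]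
      ring)
    simp only [isect_mul_left k hd, isect_mul_right k hd, isect_inv_left k hd, isect_inv_right k hd,
      isect_pow_left k hd, isect_pow_right k hd, isect_comm k z d, hz] at this
    have ha0 : (0 : ℤ) < a := by rw [← ha]; exact hdh
    nlinarith [mul_pos (mul_pos ha0 ha0) hzz, mul_nonneg (mul_nonneg (Nat.cast_nonneg (α := ℤ) b) (Nat.cast_nonneg (α := ℤ) b)) hdd.le]
  · rw [abs_of_nonpos hzh] at hb
    have := hodge k hdim hH (x := z ^ a * d ^ b) (by
      rw [← hh, isect_mul_left k hd, isect_pow_left k hd, isect_pow_left k hd, ha,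
        show isect k z h = -(b : ℤ) by linarith]
      ring)
    simp only [isect_mul_left k hd, isect_mul_right k hd, isect_pow_left k hd, isect_pow_right k hd,
      isect_comm k z d, hz] at this
    have ha0 : (0 : ℤ) < a := by rw [← ha]; exact hdh
    nlinarith [mul_pos (mul_pos ha0 ha0) hzz, mul_nonneg (mul_nonneg (Nat.cast_nonneg (α := ℤ) b) (Nat.cast_nonneg (α := ℤ) b)) hdd.le]

include hdim in
/-- A class of square zero orthogonal to a class of positive square is numerically trivial. -/
theorem isect_eq_zero_of_orth {H : X.Modules} (hH : CohB1.IsAmple H) {d z : Pic X} (hdd : 0 < isect k d d)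
    (hdz : isect k d z = 0) (hzz : 0 ≤ isect k z z) (x : Pic X) : isect k z x = 0 := by
  have hd := hdim.le
  have hz0 : isect k z z = 0 := le_antisymm (sq_nonpos_of_orth_pic k hdim hH hdd hdz) hzz
  obtain ⟨a, ha⟩ : ∃ a : ℕ, isect k d d = a := ⟨_, (Int.toNat_of_nonneg hdd.le).symm⟩
  obtain ⟨v, hdv, hzv⟩ : ∃ v : Pic X, isect k d v = 0 ∧ isect k z v = a * isect k z x := by
    rcases le_total 0 (isect k d x) with h | h
    · obtain ⟨b, hb⟩ : ∃ b : ℕ, isect k d x = b := ⟨_, (Int.toNat_of_nonneg h).symm⟩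
      refine ⟨x ^ a * (d ^ b)⁻¹, ?_, ?_⟩ <;>
        simp only [isect_mul_right k hd, isect_inv_right k hd, isect_pow_right k hd, isect_comm k z d, hdz, ha, hb] <;>
        ring
    · obtain ⟨b, hb⟩ : ∃ b : ℕ, -isect k d x = b := ⟨_, (Int.toNat_of_nonneg (by linarith)).symm⟩
      refine ⟨x ^ a * d ^ b, ?_, ?_⟩ <;>
        simp only [isect_mul_right k hd, isect_pow_right k hd, isect_comm k z d, hdz, ha,
          show isect k d x = -(b : ℤ) by linarith] <;> ring
  have key : ∀ n : ℕ, 2 * n * isect k z v + isect k v v ≤ 0 ∧ -(2 * n * isect k z v) + isect k v v ≤ 0 := by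
    intro n
    have h1 := sq_nonpos_of_orth_pic k hdim hH (z := z ^ n * v) hdd
      (by rw [isect_mul_right k hd, isect_pow_right k hd, hdz, hdv]; ring)
    have h2 := sq_nonpos_of_orth_pic k hdim hH (z := (z ^ n)⁻¹ * v) hdd
      (by rw [isect_mul_right k hd, isect_inv_right k hd, isect_pow_right k hd, hdz, hdv]; ring)
    simp only [isect_mul_left k hd, isect_mul_right k hd, isect_inv_left k hd, isect_inv_right k hd,
      isect_pow_left k hd, isect_pow_right k hd, hz0, isect_comm k v z] at h1 h2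
    constructor <;> linarith
  have hzv0 : isect k z v = 0 := by
    obtain ⟨n, hn⟩ : ∃ n : ℕ, n = (isect k v v).natAbs + 1 := ⟨_, rfl⟩
    obtain ⟨k1, k2⟩ := key n
    have hn' : (n : ℤ) = |isect k v v| + 1 := by rw [hn]; push_cast; rfl
    rw [hn'] at k1 k2
    have hv1 := neg_abs_le (isect k v v)
    have hv2 := abs_nonneg (isect k v v)
    rcases lt_trichotomy (isect k z v) 0 with h | h | h
    · have := mul_le_mul_of_nonneg_left (show (1 : ℤ) ≤ -isect k z v by omega)
        (show (0 : ℤ) ≤ 2 * (|isect k v v| + 1) by linarith)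
      linarith
    · exact h
    · have := mul_le_mul_of_nonneg_left (show (1 : ℤ) ≤ isect k z v by omega)
        (show (0 : ℤ) ≤ 2 * (|isect k v v| + 1) by linarith)
      linarith
  rw [hzv0] at hzv
  exact (mul_eq_zero.1 hzv.symm).resolve_left (by rw [← ha]; exact hdd.ne')

variable [Smooth (X ↘ Spec (CommRingCat.of k))]

include hdim in
theorem deg_eq_isect {y : X} (hy : IsTop 1 y) (x : Pic X) :
    deg k y x = (isect k x (clsMod (inv_curveIdeal k hdim hy))⁻¹ : ℚ) := by
  rw [deg, deg_ptMod k hdim hy (isInv_rep x), cls_rep]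

include hdim in
/-- The degree on an integral curve given by its ideal. -/
theorem euler_sub_eq_deg {L : X.Modules} (hL : PicF.IsInvertible L) (C : X.IdealSheafData)
    [IsIntegral C.subscheme] :
    ((Curv2.euler k X (CohB1.tensorMod (ClSub.quotMod C) L) - Curv2.euler k X (ClSub.quotMod C) : ℤ) : ℚ) =
      deg k (C.subschemeι (genericPoint C.subscheme)) (clsMod hL) := by
  rw [euler_sub_eq_mixed k hL, deg_eq_mixed k hL]
  show _ = mixed 1 (phi k 1 (fun _ => L) (ClSub.quotMod (curveIdeal (C.subschemeι (genericPoint C.subscheme)))))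
  rw [curveIdeal_eq]

include hdim in
/-- Nefness tested on ideals of integral curves. -/
theorem deg_nonneg_of_curves {L : X.Modules} (hL : PicF.IsInvertible L)
    (h : ∀ C : X.IdealSheafData, IsIntegral C.subscheme → topologicalKrullDim (C.support : Set X) = 1 →
      0 ≤ Curv2.euler k X (CohB1.tensorMod (ClSub.quotMod C) L) - Curv2.euler k X (ClSub.quotMod C))
    {y : X} (hy : IsTop 1 y) : 0 ≤ deg k y (clsMod hL) := by
  have hs : topologicalKrullDim ((curveIdeal y).support : Set X) = 1 := by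
    rw [← (curveIdeal y).range_subschemeι, Snapper.range_pt y]
    exact hy
  have h0 := h (curveIdeal y) (Snapper.isIntegral_pt y) hs
  rw [deg_eq_mixed k hL, show ptMod y = ClSub.quotMod (curveIdeal y) from rfl, ← euler_sub_eq_mixed k hL]
  exact_mod_cast h0

include hdim in
/-- Distinct curves meet non-negatively. -/
theorem deg_curve_nonneg {y y' : X} (hy : IsTop 1 y) (hy' : IsTop 1 y') (hne : y ≠ y') :
    0 ≤ deg k y (clsMod (inv_curveIdeal k hdim hy'))⁻¹ := by
  haveI := Euler.isNoetherian_of_proper (X := X) k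
  let I := curveIdeal y'
  have hI : PicF.IsInvertible (ClSub.idealMod I) := inv_curveIdeal k hdim hy'
  obtain ⟨z, hz⟩ : ∃ z, z = (clsMod hI)⁻¹ := ⟨_, rfl⟩
  have hys : y ∉ (I.support : Set X) := by
    rw [← I.range_subschemeι, Snapper.range_pt y']
    intro h
    exact hne (hy.eq_of_specializes (specializes_iff_mem_closure.2 h) hy'.dimLT).symm
  obtain ⟨e⟩ : Nonempty (CohB1.tensorMod (ClSub.idealMod I) (rep z) ≅ Coh.structureModule X) :=
    (Cube.clsMod_eq_one_iff (Ample.isInvertible_tensorMod hI (isInv_rep z))).1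
      (by rw [Cube.clsMod_tensorMod hI (isInv_rep z), cls_rep, hz, mul_inv_cancel])
  let s : Coh.structureModule X ⟶ rep z :=
    e.inv ≫ (tF (rep z)).map (ClSub.idealModι I) ≫ (OX.tensorUnitLeftIso (rep z)).hom
  haveI : Mono (ClSub.idealModι I) := inferInstanceAs (Mono (kernel.ι (ClSub.toSubscheme I)))
  haveI : Mono ((tF (rep z)).map (ClSub.idealModι I)) := Kodaira.mono_tF_map (isInv_rep z) _
  haveI : Mono s := inferInstance
  let V : X.Opens := ⟨(I.support : Set X)ᶜ, I.support.isClosed.isOpen_compl⟩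
  have hiso : IsoOn V s := (Kodaira.isoOn_of_iso V e.inv).comp
    (((isoOn_of_bijective _ V fun x hx => stalk_bijective_idealModι I hx).tensor_right (rep z)).comp
      (Kodaira.isoOn_of_iso V _))
  rw [show (clsMod (inv_curveIdeal k hdim hy'))⁻¹ = z from hz.symm]
  exact degree_nonneg_of_section k hdim (isInv_rep z) s hy
    (QCoh.notMem_support_cokernel_of_surjective s (hiso.stalk_bijective (show y ∈ V from hys)).2)

include hdim in
/-- Ample classes are positive on curves. -/
theorem deg_ample_pos {A : X.Modules} (hA : CohB1.IsAmple A) {y : X} (hy : IsTop 1 y) :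
    0 < deg k y (clsMod hA.1) := by
  rw [deg_eq_mixed k hA.1]
  haveI := Euler.isNoetherian_of_proper (X := X) k
  exact Snapper.mixed_pos k 1 X A hA (ptMod y) (Snapper.isCoh_ptMod y) (hy.dimLT.mono (Snapper.support_ptMod y))
    ⟨y, Kleiman.mem_support_ptMod k y, hy⟩

end GrothLib.HodgeIndex
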