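import Groth.Agent.Lib.HodgeIndex.Form
import Groth.Agent.Lib.BlowUp.UFD
import Groth.Agent.Lib.RegUFD.Basic
import Groth.Agent.Lib.WeilExt.Extend

/-!
# Curves on a regular surface and intersection numbers
-/

set_option autoImplicit false
set_option backward.isDefEq.respectTransparency false
set_option linter.all false

universe u

open CategoryTheory CategoryTheory.Limits AlgebraicGeometry TopologicalSpace

noncomputable section

namespace GrothLib.HodgeIndex

open GrothLib.Euler (tF)
open GrothLib.Snapper (DimLT IsTop phi mixed ptMod)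
open GrothLib.Cube (Pic clsMod)

variable {X : Scheme.{u}}

theorem mixed_one (f : (Fin 1 → ℕ) → ℚ) : mixed 1 f = f (fun _ => 1) - f (fun _ => 0) := by
  show ∑ S : Finset (Fin 1), (-1 : ℚ) ^ (1 - S.card) * f (Snapper.ind S) = _
  have h0 : Snapper.ind (∅ : Finset (Fin 1)) = fun _ => 0 := funext fun i => by simp [Snapper.ind]
  have h1 : Snapper.ind ({0} : Finset (Fin 1)) = fun _ => 1 := funext fun i => by
    simp [Snapper.ind, Fin.fin_one_eq_zero i]
  rw [show (Finset.univ : Finset (Finset (Fin 1))) = {∅, {0}} by decide, Finset.sum_pair (by decide), h0, h1]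
  simp
  ring

theorem ringKrullDim_stalk_eq_one (hdim : topologicalKrullDim X ≤ ((2 : ℕ) : WithBot ℕ∞)) [IsIntegral X] {y : X}
    (hy : IsTop 1 y) (hyη : y ≠ genericPoint X) : ringKrullDim (X.presheaf.stalk y) = 1 := by
  rw [ringKrullDim_stalk_eq_coheight]
  refine le_antisymm ?_ ?_
  · refine WithBot.coe_le_coe.2 (Order.coheight_le fun p hp => ?_)
    by_contra hlen
    push Not at hlen
    obtain ⟨l, hl, hl1⟩ := hy.exists_series
    have hlen' : 2 ≤ p.length := by exact_mod_cast (show (2 : ℕ∞) ≤ p.length from Order.add_one_le_of_lt hlen)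
    have hl0 : l 0 < y := by
      refine lt_of_le_not_ge (specializes_iff_mem_closure.2 (hl 0)) fun h => ?_
      have h1 : l.last ≤ y := specializes_iff_mem_closure.2 (hl _)
      exact (lt_of_le_of_lt (h1.trans h) (l.strictMono (show (0 : Fin (l.length + 1)) < Fin.last l.length from by
        simp [Fin.lt_def]; omega))).false
    let q : LTSeries X := (RelSeries.singleton _ (l 0)).snoc (p 0) (lt_of_lt_of_eq hl0 hp.symm)
    have hq : q.last = p 0 := RelSeries.last_snoc _ _ _
    let r := q.smash p hq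
    have := (Kleiman.dimLT_univ hdim) r fun _ => trivial
    simp [r, q] at this
    omega
  · have hlt : y < genericPoint X := lt_of_le_not_ge (genericPoint_specializes y) fun h =>
      hyη (Specializes.antisymm (genericPoint_specializes y) h).eq.symm
    have := Order.length_le_coheight (x := y) (p := (RelSeries.singleton _ y).snoc (genericPoint X) hlt)
      (le_of_eq ((RelSeries.head_snoc _ _ _).trans (RelSeries.head_singleton _)).symm)
    exact_mod_cast this

theorem isTop_ne_genericPoint [IsIntegral X] (hdim : topologicalKrullDim X = ((2 : ℕ) : WithBot ℕ∞)) {y : X}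
    (hy : IsTop 1 y) : y ≠ genericPoint X := by
  rintro rfl
  have h : ((1 : ℕ) : WithBot ℕ∞) = ((2 : ℕ) : WithBot ℕ∞) := hy.symm.trans (Kleiman.isTop_genericPoint hdim)
  norm_cast at h

/-- Integral curves on a regular surface are effective Cartier divisors. -/
theorem isEffCartier_curve [IsLocallyNoetherian X] [IsIntegral X]
    (hdim : topologicalKrullDim X = ((2 : ℕ) : WithBot ℕ∞))
    (hreg : ∀ x : X, IsRegularLocalRing (X.presheaf.stalk x)) (I : X.IdealSheafData) [IsIntegral I.subscheme]
    (hI : IsTop 1 (I.subschemeι (genericPoint I.subscheme))) : BlowUp.IsEffCartierIdeal I := by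
  intro x
  haveI := hreg x
  haveI : UniqueFactorizationMonoid (X.presheaf.stalk x) := RegUFD.ufd_of_isRegularLocalRing _
  have hcod : ∀ z : I.subscheme, Curv2.IsWeakAssPoint (Coh.structureModule I.subscheme) z →
      ringKrullDim (X.presheaf.stalk (I.subschemeι z)) = 1 := fun z hz => by
    rw [WeakAss.isWeakAssPoint_structure_iff] at hz
    obtain rfl : genericPoint I.subscheme = z := hz _ (genericPoint_specializes z)
    exact ringKrullDim_stalk_eq_one hdim.le hI (isTop_ne_genericPoint hdim hI)
  obtain ⟨U, hxU, hU⟩ := BlowUp.exists_cartierOn_of_ufd I hcod x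
  exact ⟨U, hxU, hU⟩

theorem regular_of_smooth (k : Type u) [Field k] [X.Over (Spec (CommRingCat.of k))]
    [Smooth (X ↘ Spec (CommRingCat.of k))] (x : X) : IsRegularLocalRing (X.presheaf.stalk x) :=
  WeilExt.isRegularLocalRing_stalk_of_smooth (X ↘ Spec (CommRingCat.of k))
    (fun s => WeilExt.isRegularLocalRing_stalk_spec k s) x

variable (k : Type u) [Field k] [X.Over (Spec (CommRingCat.of k))] [IsProper (X ↘ Spec (CommRingCat.of k))]

include k in
theorem isTop_of_curve {I : X.IdealSheafData} [IsIntegral I.subscheme]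
    (h : topologicalKrullDim (I.support : Set X) = 1) : IsTop 1 (I.subschemeι (genericPoint I.subscheme)) := by
  show topologicalKrullDim _ = _
  rw [QCoh.closure_singleton_eq_range I.subschemeι, I.range_subschemeι, h]
  rfl

include k in
/-- The intersection number with a curve. -/
theorem isect_curve (hdim : topologicalKrullDim X = ((2 : ℕ) : WithBot ℕ∞)) [IsIntegral X] {L : X.Modules}
    (hL : PicF.IsInvertible L) {I : X.IdealSheafData} (hI : BlowUp.IsEffCartierIdeal I)
    (hIv : PicF.IsInvertible (ClSub.idealMod I)) :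
    mixed 1 (phi k 1 (fun _ => L) (ClSub.quotMod I)) = (isect k (clsMod hL) (clsMod hIv)⁻¹ : ℚ) := by
  haveI := Euler.isNoetherian_of_proper (X := X) k
  obtain ⟨e⟩ : Nonempty (CohB1.tensorMod (rep (clsMod hIv)⁻¹) (ClSub.idealMod I) ≅ Coh.structureModule X) :=
    (Cube.clsMod_eq_one_iff (Ample.isInvertible_tensorMod (isInv_rep _) hIv)).1
      (by rw [Cube.clsMod_tensorMod (isInv_rep _) hIv, cls_rep, inv_mul_cancel])
  have hv : ∀ j, PicF.IsInvertible (![rep (clsMod hIv)⁻¹, L] j) := Kleiman.inv_two (isInv_rep _) hL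
  have h := Snapper.mixed_effCartier k (e := 1) (by rw [hdim]) hI hv ⟨e⟩
  rw [mixed_two] at h
  refine h.symm.trans ?_
  have hval : ∀ a b : ℕ, phi k 2 ![rep (clsMod hIv)⁻¹, L] (Coh.structureModule X) ![a, b] =
      (chi k ((clsMod hIv)⁻¹ ^ a * clsMod hL ^ b) : ℚ) := fun a b => by
    refine (Kleiman.phi_eq_of_cls k hv (L' := fun i => rep (![(clsMod hIv)⁻¹, clsMod hL] i))
      (fun _ => isInv_rep _) _ (n' := ![a, b]) (by simp [Fin.prod_univ_two, cls_rep])).trans ?_
    rw [phi_eq_chi k ![(clsMod hIv)⁻¹, clsMod hL]]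
    simp [Fin.prod_univ_two]
  rw [hval, hval, hval, hval, isect_comm]
  simp [isect]
  ring

theorem mixed_push {Y : Scheme.{u}} (i : Y ⟶ X) [IsClosedImmersion i] {L : X.Modules} (hL : PicF.IsInvertible L)
    (hd : topologicalKrullDim Y ≤ 1) :
    mixed 1 (phi k 1 (fun _ => L) ((Coh.push i).obj (Coh.structureModule Y))) =
      (Pic13.curveDeg k (i ≫ X ↘ Spec (CommRingCat.of k)) ((Scheme.Modules.pullback i).obj L) : ℚ) := by
  letI : Y.Over (Spec (CommRingCat.of k)) := ⟨i ≫ X ↘ Spec (CommRingCat.of k)⟩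
  haveI : IsProper (Y ↘ Spec (CommRingCat.of k)) := inferInstanceAs (IsProper (i ≫ X ↘ Spec (CommRingCat.of k)))
  show _ = (Pic13.curveDeg k (Y ↘ Spec (CommRingCat.of k)) _ : ℚ)
  rw [mixed_one, Snapper.phi_push k i rfl (fun _ => hL), Snapper.phi_push k i rfl (fun _ => hL),
    Kleiman.curveDeg_eq_euler k hd (Kleiman.isInv_pullback i hL)]
  have hp : PicF.IsInvertible ((Scheme.Modules.pullback i).obj L) := Kleiman.isInv_pullback i hL
  rw [euler_eq_chi k (Snapper.isInvertible_invPows 1 _ (fun _ => hp) _),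
    euler_eq_chi k (Snapper.isInvertible_invPows 1 _ (fun _ => hp) _), euler_eq_chi k hp,
    Kleiman.cls_invPows 1 _ (fun _ => hp), Kleiman.cls_invPows 1 _ (fun _ => hp), ← chi_one]
  simp

include k in
theorem isCoh_push_O {Y : Scheme.{u}} (i : Y ⟶ X) [IsClosedImmersion i] :
    Coh.IsCoh ((Coh.push i).obj (Coh.structureModule Y)) := by
  haveI := Euler.isNoetherian_of_proper (X := X) k
  exact QCoh.pushUnit_isCoh i

/-- Degrees on arbitrary integral curves are non-negative combinations of degrees on point modules. -/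
theorem exists_curveDeg_eq {Y : Scheme.{u}} (i : Y ⟶ X) [IsClosedImmersion i] (hd : topologicalKrullDim Y ≤ 1)
    {L : X.Modules} (hL : PicF.IsInvertible L) (S : Set ℚ)
    (hS : ∀ y, IsTop 1 y → mixed 1 (phi k 1 (fun _ => L) (ptMod y)) ∈ S) (h0 : (0 : ℚ) ∈ S)
    (hadd : ∀ a ∈ S, ∀ b ∈ S, a + b ∈ S) :
    (Pic13.curveDeg k (i ≫ X ↘ Spec (CommRingCat.of k)) ((Scheme.Modules.pullback i).obj L) : ℚ) ∈ S := by
  haveI := Euler.isNoetherian_of_proper (X := X) k
  rw [← mixed_push k i hL hd]
  let F := (Coh.push i).obj (Coh.structureModule Y)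
  have hF : Coh.IsCoh F := isCoh_push_O k i
  have hd2 : DimLT (CohB1.support F) (1 + 1) := by
    refine (Snapper.dimLT_of_dim_le (S := Set.range i) ?_).mono (QCoh.support_pushforward_subset_range i _)
    rw [← IsHomeomorph.topologicalKrullDim_eq _ i.isClosedEmbedding.isEmbedding.toHomeomorph.isHomeomorph]
    exact_mod_cast hd
  have hfin := Snapper.finite_support_topTerm (phi k 1 (fun _ : Fin 1 => L)) (QCoh.isClosed_support_of_isCoh hF) hd2
    (Set.Subset.refl (CohB1.support F))
  have h := Snapper.mixed_eq_zero (Snapper.phi_sub_sum_mem k (L := fun _ : Fin 1 => L) (fun _ => hL) hF hd2)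
  rw [map_sub, sub_eq_zero, map_finsum (mixed 1) hfin] at h
  rw [h]
  refine finsum_induction (p := fun a => a ∈ S) h0 (fun a b ha hb => hadd a ha b hb) fun y => ?_
  by_cases hy : IsTop 1 y
  · rw [Snapper.topTerm_of _ hy, map_nsmul]
    induction Snapper.mult F y with
    | zero => rwa [zero_smul]
    | succ n ih => rw [succ_nsmul]; exact hadd _ ih _ (hS y hy)
  · rw [Snapper.topTerm_eq_zero _ (fun h' => absurd h' hy), map_zero]
    exact h0

end GrothLib.HodgeIndex
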