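import Groth.Agent.Lib.HodgeIndex.Real
import Groth.Agent.Lib.Chow.Prod
import Groth.Agent.Lib.Ample.ProjAmple
import Groth.Agent.Lib.CMReg.ProjSpace
import Groth.Agent.Lib.Ample.RelAmple

/-!
# A surface given inside projective space is proper and carries an ample module
-/

set_option autoImplicit false
set_option backward.isDefEq.respectTransparency false
set_option linter.all false

universe u

open CategoryTheory CategoryTheory.Limits AlgebraicGeometry

noncomputable section

namespace GrothLib.HodgeIndex

variable {k : Type u} [Field k] {X : Scheme.{u}} [X.Over (Spec (CommRingCat.of k))] {n : ℕ}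

theorem isProper_of_proj (ι : X ⟶ CohB1.ProjSpace n k) [IsClosedImmersion ι]
    (hι : ι ≫ CohB1.ProjSpace.toSpec n k = X ↘ Spec (CommRingCat.of k)) :
    IsProper (X ↘ Spec (CommRingCat.of k)) := by
  haveI := Chow.isProper_toSpec n k
  rw [← hι]
  infer_instance

theorem isAmple_hyperplane (ι : X ⟶ CohB1.ProjSpace n k) [IsClosedImmersion ι] :
    CohB1.IsAmple ((Scheme.Modules.pullback ι).obj (Twist.twistProjSpace n k 1)) := by
  haveI : AlgebraicGeometry.IsNoetherian (CohB1.ProjSpace n k) := CMReg.isNoetherian_projSpace
  exact Ample.isAmple_pullback_of_isAffineHom (Y := X) (X := CohB1.ProjSpace n k) ι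
    (Ample.isAmple_twistProjSpace_one n k)

end GrothLib.HodgeIndex
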