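import Groth.Agent.Lib.HodgeIndex.Main
import Groth.Agent.Lib.HodgeIndex.Curves
import Groth.Agent.Lib.Kodaira.Cones

/-!
# The intersection form on `N¹(X)_ℝ` of a projective surface
-/

set_option autoImplicit false
set_option backward.isDefEq.respectTransparency false
set_option linter.all false

universe u

open CategoryTheory CategoryTheory.Limits AlgebraicGeometry TopologicalSpace

noncomputable section

namespace GrothLib.HodgeIndex

open GrothLib.Cube (Pic clsMod)
open GrothLib.Snapper (IsTop mixed phi ptMod)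

variable {X : Scheme.{u}} (k : Type u) [Field k] [X.Over (Spec (CommRingCat.of k))]

/-- The four terms of the pairing. -/
theorem intNum_two (L M F : X.Modules) :
    FGA.intNum k X 2 ![L, M] F =
      FGA.eulerCharLE k X (CohB1.tensorMod (Coh.structureModule X) F) 2
        - FGA.eulerCharLE k X (CohB1.tensorMod (CohB1.tensorMod L (Coh.structureModule X)) F) 2
        - FGA.eulerCharLE k X (CohB1.tensorMod (CohB1.tensorMod M (Coh.structureModule X)) F) 2
        + FGA.eulerCharLE k X (CohB1.tensorMod (CohB1.tensorMod L (CohB1.tensorMod M (Coh.structureModule X))) F) 2 := by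
  have h0 : (∅ : Finset (Fin 2)).sort (· ≤ ·) = [] := Finset.sort_empty _
  have h1 : ({0} : Finset (Fin 2)).sort (· ≤ ·) = [0] := Finset.sort_singleton _ _
  have h2 : ({1} : Finset (Fin 2)).sort (· ≤ ·) = [1] := Finset.sort_singleton _ _
  have h3 : ({0, 1} : Finset (Fin 2)).sort (· ≤ ·) = [0, 1] := by
    rw [Finset.sort_insert (r := (· ≤ ·)) (by simp) (by decide)]
    simp
  rw [FGA.intNum, show (Finset.univ : Finset (Finset (Fin 2))) = {∅, {0}, {1}, {0, 1}} by decide,
    Finset.sum_insert (by decide), Finset.sum_insert (by decide), Finset.sum_insert (by decide), Finset.sum_singleton,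
    h0, h1, h2, h3]
  simp [FGA.tensorList]
  ring

variable [IsProper (X ↘ Spec (CommRingCat.of k))]

/-- The pairing of the statements is `isect`. -/
theorem intNum_eq_isect (hdim : topologicalKrullDim X ≤ ((2 : ℕ) : WithBot ℕ∞)) {A : X.Modules}
    (hA : CohB1.IsAmple A) {L M : X.Modules} (hL : PicF.IsInvertible L) (hM : PicF.IsInvertible M) :
    FGA.intNum k X 2 ![L, M] (Coh.structureModule X) = isect k (clsMod hL) (clsMod hM) := by
  haveI := Euler.isNoetherian_of_proper (X := X) k
  have hO := Euler.isInvertible_structure (X := X)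
  have hO1 : clsMod hO = 1 := (Cube.clsMod_eq_one_iff hO).2 ⟨Iso.refl _⟩
  have hle : ∀ (E : X.Modules) (hE : PicF.IsInvertible E), FGA.eulerCharLE k X E 2 = chi k (clsMod hE) := by
    intro E hE
    rw [← euler_eq_chi k hE, Euler.euler_eq_sum k E (N := 3) fun i hi =>
      subsingleton_HH_of_dimLT k hA 3 E (Euler.isCoh_of_isInvertible hE) ((Kleiman.dimLT_univ hdim).mono fun _ _ => trivial) i hi]
    rfl
  have i1 := Ample.isInvertible_tensorMod hO hO
  have iL := Ample.isInvertible_tensorMod hL hO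
  have iM := Ample.isInvertible_tensorMod hM hO
  have iLM := Ample.isInvertible_tensorMod hL iM
  rw [intNum_two, hle _ i1, hle _ (Ample.isInvertible_tensorMod iL hO), hle _ (Ample.isInvertible_tensorMod iM hO),
    hle _ (Ample.isInvertible_tensorMod iLM hO)]
  simp only [Cube.clsMod_tensorMod hO hO, Cube.clsMod_tensorMod iL hO, Cube.clsMod_tensorMod iM hO,
    Cube.clsMod_tensorMod iLM hO, Cube.clsMod_tensorMod hL hO, Cube.clsMod_tensorMod hM hO,
    Cube.clsMod_tensorMod hL iM, hO1, mul_one, isect]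

variable [PicGrp.Law X]

/-- A class some positive multiple of which is the class of an invertible module. -/
def RatPt (v : NumR.N1R k X) : Prop :=
  ∃ (D : ℕ) (L : X.Modules) (hL : PicF.IsInvertible L), 0 < D ∧ (D : ℝ) • v = NumR.clR k X L hL

omit [IsProper (X ↘ Spec (CommRingCat.of k))] in
theorem RatPt.of_cls {L : X.Modules} (hL : PicF.IsInvertible L) : RatPt k (NumR.clR k X L hL) :=
  ⟨1, L, hL, one_pos, by rw [Nat.cast_one, one_smul]⟩

omit [IsProper (X ↘ Spec (CommRingCat.of k))] in
theorem RatPt.zero : RatPt k (0 : NumR.N1R k X) :=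
  ⟨1, _, Ample.isInvertible_tensorPow (Euler.isInvertible_structure (X := X)) 0, one_pos, by
    rw [Kodaira.clR_pow (Euler.isInvertible_structure (X := X)), Nat.cast_zero, zero_smul, smul_zero]⟩

omit [IsProper (X ↘ Spec (CommRingCat.of k))] in
theorem RatPt.add {v w : NumR.N1R k X} (hv : RatPt k v) (hw : RatPt k w) : RatPt k (v + w) := by
  obtain ⟨a, L, hL, ha, hv⟩ := hv
  obtain ⟨b, M, hM, hb, hw⟩ := hw
  refine ⟨a * b, _, Ample.isInvertible_tensorMod (Ample.isInvertible_tensorPow hL b) (Ample.isInvertible_tensorPow hM a),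
    Nat.mul_pos ha hb, ?_⟩
  rw [Kodaira.clR_tensor (Ample.isInvertible_tensorPow hL b) (Ample.isInvertible_tensorPow hM a),
    Kodaira.clR_pow hL, Kodaira.clR_pow hM, ← hv, ← hw, smul_add, smul_smul, smul_smul, Nat.cast_mul]
  congr 2 <;> ring

omit [IsProper (X ↘ Spec (CommRingCat.of k))] in
theorem RatPt.neg {v : NumR.N1R k X} (hv : RatPt k v) : RatPt k (-v) := by
  obtain ⟨a, L, hL, ha, hv⟩ := hv
  obtain ⟨T, hT, hTL⟩ := Kodaira.exists_inverse hL
  exact ⟨a, T, hT, ha, by rw [Kodaira.clR_inverse hL hT hTL, smul_neg, hv]⟩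

omit [IsProper (X ↘ Spec (CommRingCat.of k))] in
theorem RatPt.ratSmul {v : NumR.N1R k X} (hv : RatPt k v) (r : ℚ) : RatPt k ((r : ℝ) • v) := by
  have key : ∀ n d : ℕ, 0 < d → RatPt k (((n : ℝ) / d) • v) := by
    intro n d hd
    obtain ⟨a, L, hL, ha, hv⟩ := hv
    refine ⟨a * d, _, Ample.isInvertible_tensorPow hL n, Nat.mul_pos ha hd, ?_⟩
    rw [Kodaira.clR_pow hL, ← hv, smul_smul, smul_smul]
    congr 1
    push_cast
    field_simp
  have hr : (r : ℝ) = (r.num : ℝ) / (r.den : ℝ) := by exact_mod_cast (Rat.num_div_den r).symm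
  rcases Int.eq_nat_or_neg r.num with ⟨n, hn | hn⟩
  · rw [hr, hn, Int.cast_natCast]; exact key n r.den r.den_pos
  · rw [hr, hn, Int.cast_neg, Int.cast_natCast, neg_div, neg_smul]; exact RatPt.neg k (key n r.den r.den_pos)

omit [IsProper (X ↘ Spec (CommRingCat.of k))] in
theorem RatPt.sum {ι : Type*} (s : Finset ι) (f : ι → NumR.N1R k X) (hf : ∀ i ∈ s, RatPt k (f i)) :
    RatPt k (∑ i ∈ s, f i) :=
  Finset.sum_induction f (RatPt k) (fun _ _ => RatPt.add k) (RatPt.zero k) hf

omit [IsProper (X ↘ Spec (CommRingCat.of k))] in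
/-- Every class is a real combination of classes of invertible modules. -/
theorem exists_comb (v : NumR.N1R k X) :
    ∃ (n : ℕ) (r : Fin n → ℝ) (e : Fin n → NumR.N1R k X), (∀ i, RatPt k (e i)) ∧ v = ∑ i, r i • e i := by
  have hv : v ∈ Submodule.span ℝ {x : NumR.N1R k X | ∃ (L : X.Modules) (hL : PicF.IsInvertible L), x = NumR.clR k X L hL} := by
    rw [NumR.span_clR]; trivial
  obtain ⟨n, f, g, hsum⟩ := Submodule.mem_span_set'.1 hv
  refine ⟨n, f, fun i => (g i : NumR.N1R k X), fun i => ?_, hsum.symm⟩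
  obtain ⟨L, hL, h⟩ := (g i).2
  dsimp only
  rw [h]
  exact RatPt.of_cls k hL

omit [IsProper (X ↘ Spec (CommRingCat.of k))] in
/-- Rational classes are dense. -/
theorem dense_ratPt : Dense {v : NumR.N1R k X | RatPt k v} := by
  intro v
  obtain ⟨n, r, e, he, rfl⟩ := exists_comb k v
  have hF : Continuous fun r : Fin n → ℝ => ∑ i, r i • e i := by fun_prop
  have hd : DenseRange (fun q : Fin n → ℚ => fun i => (q i : ℝ)) :=
    DenseRange.piMap fun _ => Rat.denseRange_cast
  refine closure_mono ?_ (image_closure_subset_closure_image hF ⟨r, hd r, rfl⟩)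
  rintro _ ⟨_, ⟨q, rfl⟩, rfl⟩
  exact RatPt.sum k _ _ fun i _ => (he i).ratSmul k (q i)

omit [IsProper (X ↘ Spec (CommRingCat.of k))] in
/-- A point of an open set is a convex combination of rational points of the set. -/
theorem mem_of_open {U : Set (NumR.N1R k X)} (hU : IsOpen U) {C : Set (NumR.N1R k X)} (hC : Convex ℝ C)
    (h : ∀ v ∈ U, RatPt k v → v ∈ C) {p : NumR.N1R k X} (hp : p ∈ U) : p ∈ C := by
  obtain ⟨n, r, e, he, rfl⟩ := exists_comb k p
  let F : (Fin n → ℝ) → NumR.N1R k X := fun r => ∑ i, r i • e i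
  have hF : Continuous F := by fun_prop
  obtain ⟨η, hη, hball⟩ := Metric.isOpen_iff.1 (hU.preimage hF) r hp
  obtain ⟨δ, hδ0, hδ⟩ := exists_rat_btwn (show (0 : ℝ) < η / 2 by linarith)
  have hN : (0 : ℝ) < (n : ℝ) + 1 := by positivity
  choose q hq1 hq2 using fun i => exists_rat_btwn (show r i - (δ : ℝ) / ((n : ℝ) + 1) < r i by
    have := div_pos hδ0 hN; linarith)
  have hqr : ∀ i, |(q i : ℝ) - r i| ≤ δ := fun i => by
    have : (δ : ℝ) / ((n : ℝ) + 1) ≤ δ := div_le_self hδ0.le (by linarith [Nat.cast_nonneg (α := ℝ) n])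
    rw [abs_le]
    constructor <;> linarith [hq1 i, hq2 i]
  let z : Option (Fin n) → (Fin n → ℝ) := fun o =>
    o.elim (fun i => (q i : ℝ)) (fun j i => (q i : ℝ) + if i = j then (δ : ℝ) else 0)
  have hz : ∀ o, F (z o) ∈ C := by
    intro o
    refine h _ (hball ?_) ?_
    · rw [Metric.mem_ball, dist_pi_lt_iff hη]
      intro i
      rw [Real.dist_eq]
      rcases o with _ | j
      · simp only [z, Option.elim]; linarith [hqr i]
      · simp only [z, Option.elim]
        split_ifs
        · have := abs_add_le ((q i : ℝ) - r i) (δ : ℝ)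
          rw [abs_of_pos hδ0] at this
          rw [show (q i : ℝ) + δ - r i = (q i : ℝ) - r i + δ by ring]
          linarith [hqr i]
        · rw [add_zero]; linarith [hqr i]
    · refine RatPt.sum k _ _ fun i _ => ?_
      rcases o with _ | j
      · exact (he i).ratSmul k (q i)
      · have : z (some j) i = ((q i + if i = j then δ else 0 : ℚ) : ℝ) := by
          simp only [z, Option.elim]; split_ifs <;> push_cast <;> ring
        rw [this]
        exact (he i).ratSmul k _
  let w : Option (Fin n) → ℝ := fun o =>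
    o.elim (1 - ∑ i, (r i - q i) / δ) (fun i => (r i - q i) / δ)
  have hw : ∀ o ∈ (Finset.univ : Finset (Option (Fin n))), 0 ≤ w o := by
    rintro (_ | i) -
    · simp only [w, Option.elim]
      have h1 : ∑ i, (r i - (q i : ℝ)) / δ ≤ ∑ _i : Fin n, 1 / ((n : ℝ) + 1) := by
        refine Finset.sum_le_sum fun i _ => ?_
        rw [div_le_div_iff₀ hδ0 hN]
        have h3 : r i - (q i : ℝ) ≤ (δ : ℝ) / ((n : ℝ) + 1) := by linarith [hq1 i]
        rw [le_div_iff₀ hN] at h3
        linarith
      have h2 : ∑ _i : Fin n, 1 / ((n : ℝ) + 1) ≤ 1 := by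
        rw [Finset.sum_const, Finset.card_univ, Fintype.card_fin, nsmul_eq_mul, ← mul_div_assoc, mul_one,
          div_le_one hN]
        linarith
      linarith
    · simp only [w, Option.elim]
      exact div_nonneg (by linarith [hq2 i]) hδ0.le
  have hw1 : ∑ o, w o = 1 := by rw [Fintype.sum_option]; simp [w]
  have := hC.sum_mem hw hw1 (fun o _ => hz o)
  convert this using 1
  rw [Fintype.sum_option]
  simp only [w, z, F, Option.elim, Finset.smul_sum, smul_smul]
  rw [← Finset.sum_comm, ← Finset.sum_add_distrib]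
  refine Finset.sum_congr rfl fun i _ => ?_
  rw [← Finset.sum_smul, ← add_smul]
  congr 1
  have : ∀ j, (r j - q j) / (δ : ℝ) * ((q i : ℝ) + if i = j then (δ : ℝ) else 0) =
      (r j - q j) / (δ : ℝ) * (q i : ℝ) + (if i = j then r j - q j else 0) := fun j => by
    split_ifs
    · field_simp
    · ring
  rw [Finset.sum_congr rfl fun j _ => this j, Finset.sum_add_distrib, Finset.sum_ite_eq, if_pos (Finset.mem_univ _),
    ← Finset.sum_mul]
  ring

end GrothLib.HodgeIndex
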