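import Groth.Agent.Lib.HodgeIndex.Main
import Groth.Agent.Lib.NefGrowth.Growth

/-!
# Vanishing of `H²` for classes of large degree, and numerical invariance of `χ`, without duality
-/

set_option autoImplicit false
set_option backward.isDefEq.respectTransparency false
set_option linter.all false

universe u

open CategoryTheory CategoryTheory.Limits AlgebraicGeometry TopologicalSpace

noncomputable section

namespace GrothLib.HodgeIndex

open GrothLib.Cube (Pic clsMod)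
open GrothLib.Kodaira (h0 PLe IsoOn)

variable {X : Scheme.{u}} (k : Type u) [Field k] [X.Over (Spec (CommRingCat.of k))]
  [IsProper (X ↘ Spec (CommRingCat.of k))] [IsIntegral X]
  (hdim : topologicalKrullDim X = ((2 : ℕ) : WithBot ℕ∞))

theorem hh_rep_eq {L : X.Modules} (hL : PicF.IsInvertible L) {x : Pic X} (h : clsMod hL = x) (i : ℕ) :
    hh k L i = hh k (rep x) i := by
  obtain ⟨e⟩ := (Cube.clsMod_eq_iff hL (isInv_rep x)).1 (h.trans (cls_rep x).symm)
  exact hh_of_iso k e i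

include hdim in
/-- `χ(x ⊗ y)`. -/
theorem chi_mul (x y : Pic X) : chi k (x * y) = chi k x + chi k y - chi k (1 : Pic X) + isect k x y := by
  rw [isect]; ring

include hdim in
/-- If `H²` of `l` is non-zero, the degree of `l` is bounded. -/
theorem degree_le_of_h2_ne_zero {H : X.Modules} (hH : CohB1.IsAmple H) :
    ∃ n₀ : ℤ, ∀ l : Pic X, n₀ < isect k l (clsMod hH.1) → hh k (rep l) 2 = 0 := by
  haveI := Euler.isNoetherian_of_proper (X := X) k
  have hd := hdim.le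
  obtain ⟨j, hA, hc, hgg⟩ := exists_gg_power hdim hH
  obtain ⟨h, hh'⟩ : ∃ h, h = clsMod hH.1 ^ (j + 1) := ⟨_, rfl⟩
  rw [← hh'] at hc hgg
  obtain ⟨B, hB⟩ := h1_neg_bound k h hgg
  obtain ⟨N, hN⟩ : ∃ N : ℕ, (B : ℤ) + |chi k h⁻¹ - chi k h| ≤ N := ⟨_, Int.self_le_toNat _⟩
  refine ⟨N, fun l hl => by_contra fun hne => ?_⟩
  have hlh : ((N : ℤ) + 1) ≤ isect k l h := by
    rw [hh', isect_pow_right k hd]
    have h2 : (1 : ℤ) ≤ ((j + 1 : ℕ) : ℤ) := by exact_mod_cast j.succ_pos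
    nlinarith [Nat.cast_nonneg (α := ℤ) N]
  let L := rep l
  have hL : PicF.IsInvertible L := isInv_rep l
  obtain ⟨s₀, hs₀⟩ := SerreVanish.exists_forall_subsingleton k hA (Euler.isCoh_of_isInvertible hL)
  let T := rep h⁻¹
  have hT : PicF.IsInvertible T := isInv_rep _
  obtain ⟨s, hs1, hs2⟩ : ∃ s : ℕ, s₀ ≤ s ∧ chi k (1 : Pic X) - chi k l + B < s :=
    ⟨s₀ + (chi k (1 : Pic X) - chi k l + B).toNat + 1, by omega, by
      push_cast; linarith [Int.self_le_toNat (chi k (1 : Pic X) - chi k l + B), Nat.cast_nonneg (α := ℤ) s₀]⟩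
  let E := CohB1.tensorMod L (CohB1.tensorPow (CohB1.tensorPow H (j + 1)) s)
  have hE : PicF.IsInvertible E := Ample.isInvertible_tensorMod hL (Ample.isInvertible_tensorPow hA.1 s)
  have hEc : clsMod hE = l * h ^ s := by
    rw [Cube.clsMod_tensorMod hL (Ample.isInvertible_tensorPow hA.1 s), cls_rep, Cube.clsMod_tensorPow hA.1, hc]
  have key := h0_le_h2 k hd hH hE hL (Ample.isInvertible_tensorPow hT s) (by
    rw [Cube.clsMod_tensorPow hT, hEc, cls_rep, cls_rep, inv_pow, mul_comm l, ← mul_assoc, inv_mul_cancel, one_mul]) hne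
  have e1 := euler_eq_three k hd hH (Euler.isCoh_of_isInvertible hE)
  have hz : ∀ i, 1 ≤ i → hh k E i = 0 := fun i hi => by
    haveI := hs₀ s hs1 i hi
    exact Module.finrank_zero_of_subsingleton
  rw [euler_eq_chi k hE, hEc, hz 1 le_rfl, hz 2 (by omega), chi_mul k hdim, isect_pow_right k hd] at e1
  have e2 := euler_eq_three k hd hH (Euler.isCoh_of_isInvertible (Ample.isInvertible_tensorPow hT s))
  rw [euler_eq_chi k (Ample.isInvertible_tensorPow hT s), Cube.clsMod_tensorPow hT, cls_rep] at e2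
  have e3 := two_chi_pow k hd h s
  have e4 := two_chi_pow k hd h⁻¹ s
  rw [isect_inv_left k hd, isect_inv_right k hd, neg_neg] at e4
  have e5 : (hh k (CohB1.tensorPow T s) 1 : ℤ) ≤ (B : ℤ) * ((s : ℤ) + 1) := by exact_mod_cast hB s
  have key' : (h0 k E : ℤ) ≤ hh k (CohB1.tensorPow T s) 2 := by exact_mod_cast key
  have hh0 : (hh k E 0 : ℤ) = h0 k E := rfl
  have hp : (0 : ℤ) ≤ hh k (CohB1.tensorPow T s) 0 := Nat.cast_nonneg _
  have hs0 : (0 : ℤ) ≤ s := Nat.cast_nonneg _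
  have b1 := mul_le_mul_of_nonneg_left (le_abs_self (chi k h⁻¹ - chi k h)) hs0
  have b2 := mul_le_mul_of_nonneg_left hlh hs0
  have b3 := mul_le_mul_of_nonneg_left hN hs0
  push_cast at e1
  nlinarith

include hdim in
theorem chi_le_of_numTriv {H : X.Modules} (hH : CohB1.IsAmple H) {x : Pic X}
    (hx : ∀ y : Pic X, isect k x y = 0) : chi k x ≤ chi k (1 : Pic X) := by
  haveI := Euler.isNoetherian_of_proper (X := X) k
  have hd := hdim.le
  by_contra hlt
  push Not at hlt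
  obtain ⟨h, hh'⟩ : ∃ h, h = clsMod hH.1 := ⟨_, rfl⟩
  have hpos : 0 < isect k h h := hh' ▸ isect_self_pos k hd hdim hH
  obtain ⟨n₀, hn₀⟩ := degree_le_of_h2_ne_zero k hdim hH
  obtain ⟨s, hs⟩ : ∃ s : ℕ, n₀ < (s : ℤ) * isect k h h :=
    ⟨n₀.toNat + 1, by push_cast; nlinarith [Int.self_le_toNat n₀, Nat.cast_nonneg (α := ℤ) n₀.toNat]⟩
  obtain ⟨K, hK⟩ : ∃ K : ℕ, 2 * |chi k (1 : Pic X)| + 2 * |chi k h⁻¹ - chi k (1 : Pic X)| + isect k h h ≤ (K : ℤ) :=
    ⟨_, Int.self_le_toNat _⟩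
  obtain ⟨m, hm⟩ : ∃ m : ℕ, m = K + 1 := ⟨_, rfl⟩
  have hchim : 0 < chi k (h⁻¹ ^ m) := by
    have e4 := two_chi_pow k hd h⁻¹ m
    rw [isect_inv_left k hd, isect_inv_right k hd, neg_neg] at e4
    have hm' : (m : ℤ) = K + 1 := by exact_mod_cast hm
    have hK0 : (0 : ℤ) ≤ K := Nat.cast_nonneg _
    have hm0 : (0 : ℤ) ≤ m := Nat.cast_nonneg _
    have b1 := mul_le_mul_of_nonneg_left (neg_abs_le (chi k h⁻¹ - chi k (1 : Pic X))) (by positivity : (0 : ℤ) ≤ 2 * m)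
    have b2 := mul_le_mul_of_nonneg_left hK hm0
    have b3 := mul_le_mul_of_nonneg_left (show (1 : ℤ) ≤ isect k h h by omega) (by positivity : (0 : ℤ) ≤ (m : ℤ) * K)
    have b4 : |chi k (1 : Pic X)| ≤ (m : ℤ) * |chi k (1 : Pic X)| :=
      le_mul_of_one_le_left (abs_nonneg _) (by linarith)
    rw [show (m : ℤ) - 1 = K by linarith] at e4
    nlinarith [neg_abs_le (chi k (1 : Pic X)), abs_nonneg (chi k (1 : Pic X)), mul_pos (show (0 : ℤ) < m by linarith) hpos]
  have hpow : ∀ (n : ℕ) (y : Pic X), isect k (x ^ n) y = 0 := fun n y => by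
    rw [isect_pow_left k hd, hx, mul_zero]
  have hchin : ∀ n : ℕ, chi k (x ^ n) = chi k (1 : Pic X) + n * (chi k x - chi k (1 : Pic X)) := fun n => by
    have e := two_chi_pow k hd x n
    rw [hx x, mul_zero, add_zero] at e
    linarith
  obtain ⟨C, hC⟩ : ∃ C : ℕ, C = hh k (rep (h⁻¹ ^ (m + s))) 2 := ⟨_, rfl⟩
  obtain ⟨n, hn⟩ : ∃ n : ℕ, (C : ℤ) - chi k (h ^ s) < n :=
    ⟨((C : ℤ) - chi k (h ^ s)).toNat + 1, by push_cast; linarith [Int.self_le_toNat ((C : ℤ) - chi k (h ^ s))]⟩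
  have hFh0 : hh k (rep (x ^ n * h⁻¹ ^ m)) 0 = 0 := by
    by_contra hne
    have h1 := isect_nonneg_of_pLe k hdim hH (NefGrowth.pLe_of_h0_pos k (x := x ^ n * h⁻¹ ^ m) (Nat.pos_of_ne_zero hne))
    rw [← hh', isect_mul_left k hd, hpow, isect_pow_left k hd, isect_inv_left k hd] at h1
    have hm' : (1 : ℤ) ≤ m := by exact_mod_cast (show 1 ≤ m by omega)
    nlinarith
  have hFne : hh k (rep (x ^ n * h⁻¹ ^ m)) 2 ≠ 0 := by
    intro h2
    have e := euler_eq_three k hd hH (Euler.isCoh_of_isInvertible (isInv_rep (x ^ n * h⁻¹ ^ m)))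
    rw [hFh0, h2, euler_eq_chi k (isInv_rep _), cls_rep, chi_mul k hdim, hpow, hchin] at e
    push_cast at e
    have := Nat.cast_nonneg (α := ℤ) (hh k (rep (x ^ n * h⁻¹ ^ m)) 1)
    nlinarith [Nat.cast_nonneg (α := ℤ) n]
  have key := h0_le_h2 k hd hH (isInv_rep (x ^ n * h ^ s)) (isInv_rep (x ^ n * h⁻¹ ^ m))
    (isInv_rep (h⁻¹ ^ (m + s))) (by
      rw [cls_rep, cls_rep, cls_rep, pow_add, inv_pow h s, mul_comm (x ^ n) (h ^ s), mul_assoc,
        inv_mul_cancel_left, mul_comm]) hFne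
  have hE2 : hh k (rep (x ^ n * h ^ s)) 2 = 0 := hn₀ _ (by
    rw [← hh', isect_mul_left k hd, hpow, isect_pow_left k hd, zero_add]; exact hs)
  have e := euler_eq_three k hd hH (Euler.isCoh_of_isInvertible (isInv_rep (x ^ n * h ^ s)))
  rw [hE2, euler_eq_chi k (isInv_rep _), cls_rep, chi_mul k hdim, hpow, hchin] at e
  push_cast at e
  have key' : (hh k (rep (x ^ n * h ^ s)) 0 : ℤ) ≤ C := by rw [hC]; exact_mod_cast key
  have := Nat.cast_nonneg (α := ℤ) (hh k (rep (x ^ n * h ^ s)) 1)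
  nlinarith [Nat.cast_nonneg (α := ℤ) n]

include hdim in
/-- Numerically trivial classes have `χ = χ(O)`. -/
theorem chi_eq_of_numTriv {H : X.Modules} (hH : CohB1.IsAmple H) {x : Pic X}
    (hx : ∀ y : Pic X, isect k x y = 0) : chi k x = chi k (1 : Pic X) := by
  refine le_antisymm (chi_le_of_numTriv k hdim hH hx) ?_
  have h1 := chi_le_of_numTriv k hdim hH (x := x⁻¹) fun y => by rw [isect_inv_left k hdim.le, hx, neg_zero]
  have h2 := chi_mul k hdim x x⁻¹
  rw [mul_inv_cancel, hx] at h2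
  linarith

end GrothLib.HodgeIndex

namespace GrothLib.HodgeIndex

open GrothLib.Cube (Pic clsMod)

variable {X : Scheme.{u}} (k : Type u) [Field k] [X.Over (Spec (CommRingCat.of k))]
  [IsProper (X ↘ Spec (CommRingCat.of k))] [IsIntegral X]
  (hdim : topologicalKrullDim X = ((2 : ℕ) : WithBot ℕ∞))

include hdim in
/-- Classes of positive square and positive degree have quadratically many sections. -/
theorem h0_pow_growth {H : X.Modules} (hH : CohB1.IsAmple H) {x : Pic X}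
    (hxh : 0 < isect k x (clsMod hH.1)) (hxx : 0 < isect k x x) :
    ∃ c : ℚ, 0 < c ∧ ∃ N : ℕ, ∀ n : ℕ, N ≤ n → c * (n : ℚ) ^ 2 < (hh k (rep (x ^ n)) 0 : ℚ) := by
  have hd := hdim.le
  obtain ⟨n₀, hn₀⟩ := degree_le_of_h2_ne_zero k hdim hH
  obtain ⟨K, hK⟩ : ∃ K : ℕ, 2 * |chi k x - chi k (1 : Pic X)| + isect k x x + 2 * |chi k (1 : Pic X)| ≤ (K : ℤ) :=
    ⟨_, Int.self_le_toNat _⟩
  refine ⟨(isect k x x : ℚ) / 4, div_pos (by exact_mod_cast hxx) (by norm_num), n₀.toNat + 2 * K + 1, fun n hn => ?_⟩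
  have hn' : (n₀.toNat : ℤ) + 2 * K + 1 ≤ n := by exact_mod_cast hn
  have hK0 : (0 : ℤ) ≤ K := Nat.cast_nonneg _
  have ht : (0 : ℤ) ≤ n₀.toNat := Nat.cast_nonneg _
  have e1 := euler_eq_three k hd hH (Euler.isCoh_of_isInvertible (isInv_rep (x ^ n)))
  rw [hn₀ _ (by rw [isect_pow_left k hd]; nlinarith [Int.self_le_toNat n₀]), euler_eq_chi k (isInv_rep _), cls_rep] at e1
  push_cast at e1
  have e2 := two_chi_pow k hd x n
  have hp : (0 : ℤ) ≤ n := Nat.cast_nonneg _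
  have b1 := mul_le_mul_of_nonneg_left (neg_abs_le (chi k x - chi k (1 : Pic X))) (by positivity : (0 : ℤ) ≤ 2 * n)
  have b3 := mul_le_mul_of_nonneg_left hK hp
  have b4 : |chi k (1 : Pic X)| ≤ (n : ℤ) * |chi k (1 : Pic X)| := le_mul_of_one_le_left (abs_nonneg _) (by linarith)
  have b5 : (2 * (K : ℤ) + 1) * n ≤ isect k x x * n * n := by
    have := mul_le_mul_of_nonneg_left (show (1 : ℤ) ≤ isect k x x by omega) (by positivity : (0 : ℤ) ≤ (n : ℤ) * n)
    nlinarith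
  have hp1 : (0 : ℤ) ≤ hh k (rep (x ^ n)) 1 := Nat.cast_nonneg _
  have h6 : isect k x x * n * n < 4 * (hh k (rep (x ^ n)) 0 : ℤ) := by
    nlinarith [neg_abs_le (chi k (1 : Pic X))]
  have h8 : (isect k x x : ℚ) * n * n < 4 * (hh k (rep (x ^ n)) 0 : ℚ) := by exact_mod_cast h6
  nlinarith

end GrothLib.HodgeIndex
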