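import Groth.Agent.Lib.HodgeIndex.Deg
import Groth.Agent.Lib.Goodman.Effective
import Groth.Agent.Lib.HodgeIndex.ProjConv

/-!
# Negative definite configurations of curves, at the level of the Picard group
-/

set_option autoImplicit false
set_option backward.isDefEq.respectTransparency false
set_option linter.all false

universe u

open CategoryTheory CategoryTheory.Limits AlgebraicGeometry TopologicalSpace

noncomputable section

namespace GrothLib.HodgeIndex

open GrothLib.Cube (Pic clsMod)
open GrothLib.Snapper (IsTop)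
open GrothLib.QCoh (stalkLin)

section IntMatrix

variable {r : ℕ} (Q : Matrix (Fin r) (Fin r) ℤ)

/-- The integer quadratic form. -/
def iqf (a b : Fin r → ℤ) : ℤ := ∑ i, ∑ j, a i * b j * Q i j

/-- Solutions of `Q s ≤ 0` are non-negative when `Q` is negative definite with non-negative off-diagonal entries. -/
theorem nonneg_of_mul_nonpos (hQ : ∀ i j, Q i j = Q j i) (hoff : ∀ i j, i ≠ j → 0 ≤ Q i j)
    (hneg : ∀ a : Fin r → ℤ, a ≠ 0 → iqf Q a a < 0) (s : Fin r → ℤ) (hs : ∀ j, ∑ i, s i * Q i j ≤ 0) (i : Fin r) :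
    0 ≤ s i := by
  let m : Fin r → ℤ := fun i => max (-(s i)) 0
  let p : Fin r → ℤ := fun i => max (s i) 0
  have hsp : ∀ i, s i = p i - m i := fun i => by simp only [p, m]; omega
  have h1 : iqf Q s m ≤ 0 := by
    rw [iqf, Finset.sum_comm]
    refine Finset.sum_nonpos fun j _ => ?_
    have e : ∑ i, s i * m j * Q i j = m j * ∑ i, s i * Q i j := by
      rw [Finset.mul_sum]; exact Finset.sum_congr rfl fun i _ => by ring
    rw [e]
    exact mul_nonpos_of_nonneg_of_nonpos (le_max_right _ _) (hs j)
  have h2 : 0 ≤ iqf Q p m := by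
    refine Finset.sum_nonneg fun a _ => Finset.sum_nonneg fun b _ => ?_
    by_cases hab : a = b
    · subst hab
      have : p a * m a = 0 := by
        simp only [p, m]
        rcases le_total (s a) 0 with h | h
        · rw [max_eq_right h, zero_mul]
        · rw [max_eq_right (show -(s a) ≤ 0 by omega), mul_zero]
      rw [this, zero_mul]
    · exact mul_nonneg (mul_nonneg (le_max_right _ _) (le_max_right _ _)) (hoff a b hab)
  have h3 : iqf Q s m = iqf Q p m - iqf Q m m := by
    simp only [iqf, ← Finset.sum_sub_distrib]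
    exact Finset.sum_congr rfl fun a _ => Finset.sum_congr rfl fun b _ => by rw [hsp a]; ring
  have hm0 : m = 0 := by
    by_contra hne
    linarith [hneg m hne]
  have h4 : max (-(s i)) 0 = 0 := congrFun hm0 i
  omega

/-- An integer matrix that is negative definite on integer vectors is invertible over `ℚ`. -/
theorem det_ne_zero (hneg : ∀ a : Fin r → ℤ, a ≠ 0 → iqf Q a a < 0) : Q.det ≠ 0 := by
  intro hdet
  obtain ⟨v, hv, hQv⟩ := Matrix.exists_mulVec_eq_zero_iff.2 hdet
  refine (hneg v hv).ne (Finset.sum_eq_zero fun i _ => ?_)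
  have h2 := congrFun hQv i
  simp only [Matrix.mulVec, dotProduct, Pi.zero_apply] at h2
  rw [show ∑ j, v i * v j * Q i j = v i * ∑ j, Q i j * v j by
    rw [Finset.mul_sum]; exact Finset.sum_congr rfl fun j _ => by ring, h2, mul_zero]

/-- An integral solution of `b Q = -|det Q| v`. -/
theorem exists_mul_eq (hQ : ∀ i j, Q i j = Q j i) (v : Fin r → ℤ) :
    ∃ b : Fin r → ℤ, ∀ j, ∑ i, b i * Q i j = -|Q.det| * v j := by
  let e : ℤ := -(if 0 ≤ Q.det then 1 else -1)
  refine ⟨e • Q.adjugate.mulVec v, fun j => ?_⟩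
  have h : Q.mulVec (e • Q.adjugate.mulVec v) = (e * Q.det) • v := by
    rw [Matrix.mulVec_smul, Matrix.mulVec_mulVec, Matrix.mul_adjugate, Matrix.smul_mulVec, Matrix.one_mulVec, smul_smul]
  have h' := congrFun h j
  simp only [Matrix.mulVec, dotProduct, Pi.smul_apply, smul_eq_mul] at h'
  have hes : e * Q.det = -|Q.det| := by
    simp only [e]
    split
    · rename_i hd; rw [abs_of_nonneg hd]; ring
    · rename_i hd; rw [abs_of_neg (not_le.1 hd)]; ring
  rw [hes] at h'
  rw [← h']
  refine Finset.sum_congr rfl fun i _ => ?_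
  show e * (∑ l, Q.adjugate i l * v l) * Q i j = Q j i * (e * ∑ l, Q.adjugate i l * v l)
  rw [hQ j i]
  ring

end IntMatrix

variable {X : Scheme.{u}}

/-- The ideal inclusion is not surjective on the support. -/
theorem not_surjective_idealModι (I : X.IdealSheafData) {x : X} (hx : x ∈ I.support) :
    ¬ Function.Surjective (stalkLin (ClSub.idealModι I) x) := by
  obtain ⟨V, hV, hxV, -⟩ := exists_isAffineOpen_mem_and_subset (show x ∈ (⊤ : X.Opens) from trivial)
  rw [Scheme.IdealSheafData.mem_support_iff_of_mem (U := ⟨V, hV⟩) hxV, Scheme.mem_zeroLocus_iff] at hx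
  have hle : Goodman.st I x ≤ IsLocalRing.maximalIdeal (X.presheaf.stalk x) := by
    rw [Goodman.st_eq I ⟨V, hV⟩ hxV, Ideal.map_le_iff_le_comap]
    intro a ha hu
    exact hx a ha ((Scheme.mem_basicOpen _ a x hxV).2 hu)
  intro hs
  obtain ⟨v, hv⟩ := hs (HomSh.unitStalk x 1)
  rw [Goodman.stalkLin_idealModι, (HomSh.unitStalk x).injective.eq_iff] at hv
  exact (IsLocalRing.maximalIdeal.isMaximal (X.presheaf.stalk x)).ne_top
    ((Ideal.eq_top_iff_one _).2 (hle ⟨v, hv⟩))

theorem invertible_of_effCartier {F : X.IdealSheafData} (hF : FGA.IsEffCartier F) :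
    PicF.IsInvertible (ClSub.idealMod F) :=
  IdealModSec.isInvertible_of_isEffCartier fun y => by
    obtain ⟨U, hy, a, ha, hU⟩ := hF y
    exact ⟨U, hy, a, ha, hU⟩

variable (k : Type u) [Field k] [X.Over (Spec (CommRingCat.of k))] [IsProper (X ↘ Spec (CommRingCat.of k))]
  [IsIntegral X] (hdim : topologicalKrullDim X = ((2 : ℕ) : WithBot ℕ∞))

include k hdim in
theorem genericPoint_notMem_support {F : X.IdealSheafData} (hFi : PicF.IsInvertible (ClSub.idealMod F)) :
    genericPoint X ∉ (F.support : Set X) := fun h => by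
  haveI := Euler.isNoetherian_of_proper (X := X) k
  haveI : Mono (ClSub.idealModι F) := inferInstanceAs (Mono (kernel.ι (ClSub.toSubscheme F)))
  exact not_surjective_idealModι F h (Euler.stalkLin_genericPoint_bijective hFi Euler.isInvertible_structure
    (Kodaira.exists_ne_zero_of_mono hFi (ClSub.idealModι F))).2

include k hdim in
/-- An effective divisor is the unit ideal when its degree is not positive. -/
theorem eq_top_of_degree_nonpos {H : X.Modules} (hH : CohB1.IsAmple H) {F : X.IdealSheafData}
    (hFi : PicF.IsInvertible (ClSub.idealMod F)) (h : isect k (clsMod hH.1) (clsMod hFi)⁻¹ ≤ 0) : F = ⊤ := by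
  rw [← Scheme.IdealSheafData.support_eq_bot_iff]
  by_contra hne
  obtain ⟨x, hx⟩ : ∃ x, x ∈ F.support := by
    by_contra hem
    push Not at hem
    exact hne (SetLike.ext fun x => ⟨fun hx => absurd hx (hem x), fun hx => False.elim (show x ∈ (∅ : Set X) from hx)⟩)
  have hη := stalk_bijective_idealModι F (genericPoint_notMem_support k hdim hFi)
  obtain ⟨y, hy, -, hys⟩ := Goodman.exists_curve_not_surjective k hdim hFi (ClSub.idealModι F) hη.2
    (not_surjective_idealModι F hx)
  exact h.not_gt (Goodman.isect_pos_of_curve k hdim hFi (ClSub.idealModι F) hη hy hys _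
    fun w hw => Goodman.deg_ample_pos' k hdim hH hw)

include hdim in
/-- An effective divisor has non-negative degree on curves not contained in it. -/
theorem deg_effCartier_nonneg {F : X.IdealSheafData} (hFi : PicF.IsInvertible (ClSub.idealMod F)) {y : X}
    (hy : IsTop 1 y) (hyF : y ∉ (F.support : Set X)) : 0 ≤ deg k y (clsMod hFi)⁻¹ :=
  (Goodman.deg_inv_of_hom k hFi (ClSub.idealModι F) hy
    (QCoh.notMem_support_cokernel_of_surjective _ (stalk_bijective_idealModι F hyF).2)).1

variable [Smooth (X ↘ Spec (CommRingCat.of k))]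

/-- The class of the integral curve with ideal `C`. -/
def cCl (C : X.IdealSheafData) : Pic X :=
  haveI := Classical.propDecidable (PicF.IsInvertible (ClSub.idealMod C))
  if h : PicF.IsInvertible (ClSub.idealMod C) then (clsMod h)⁻¹ else 1

variable {C C' : X.IdealSheafData} (hCi : IsIntegral C.subscheme) (hCd : topologicalKrullDim (C.support : Set X) = 1)
  (hCi' : IsIntegral C'.subscheme) (hCd' : topologicalKrullDim (C'.support : Set X) = 1)

include k hdim hCi hCd in
theorem exists_curve_point : ∃ y : X, IsTop 1 y ∧ curveIdeal y = C ∧ y ∈ (C.support : Set X) := by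
  haveI := hCi
  refine ⟨_, isTop_of_curve k hCd, curveIdeal_eq C, ?_⟩
  rw [← C.range_subschemeι]
  exact Set.mem_range_self _

include k hdim hCi hCd in
theorem inv_curve : PicF.IsInvertible (ClSub.idealMod C) := by
  obtain ⟨y, hy, rfl, -⟩ := exists_curve_point k hdim hCi hCd
  exact inv_curveIdeal k hdim hy

include hdim hCi hCd in
theorem isect_cCl_eq_deg (x : Pic X) : ∃ y : X, IsTop 1 y ∧ curveIdeal y = C ∧ y ∈ (C.support : Set X) ∧
    (isect k x (cCl C) : ℚ) = deg k y x := by
  obtain ⟨y, hy, he, hyC⟩ := exists_curve_point k hdim hCi hCd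
  refine ⟨y, hy, he, hyC, ?_⟩
  subst he
  rw [cCl, dif_pos (inv_curveIdeal k hdim hy), deg_eq_isect k hdim hy x]

include hdim hCi hCd in
theorem intNum_curve {A : X.Modules} (hA : CohB1.IsAmple A) {M : X.Modules} (hM : PicF.IsInvertible M) :
    FGA.intNum k X 2 ![ClSub.idealMod C, M] (Coh.structureModule X) = -isect k (clsMod hM) (cCl C) := by
  rw [intNum_eq_isect k hdim.le hA (inv_curve k hdim hCi hCd) hM, cCl, dif_pos (inv_curve k hdim hCi hCd),
    isect_inv_right k hdim.le, neg_neg, isect_comm]

include hdim hCi hCd hCi' hCd' in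
theorem intNum_curves {A : X.Modules} (hA : CohB1.IsAmple A) :
    FGA.intNum k X 2 ![ClSub.idealMod C, ClSub.idealMod C'] (Coh.structureModule X) = isect k (cCl C) (cCl C') := by
  rw [intNum_eq_isect k hdim.le hA (inv_curve k hdim hCi hCd) (inv_curve k hdim hCi' hCd'), cCl, cCl,
    dif_pos (inv_curve k hdim hCi hCd), dif_pos (inv_curve k hdim hCi' hCd'),
    isect_inv_left k hdim.le, isect_inv_right k hdim.le, neg_neg]

include hdim hCi hCd hCi' hCd' in
theorem isect_curves_nonneg (hne : C ≠ C') : 0 ≤ isect k (cCl C) (cCl C') := by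
  obtain ⟨y, hy, hey, -⟩ := exists_curve_point k hdim hCi hCd
  obtain ⟨y', hy', he', -, h⟩ := isect_cCl_eq_deg k hdim hCi' hCd' (cCl C)
  have h1 : 0 ≤ deg k y' (clsMod (inv_curveIdeal k hdim hy))⁻¹ :=
    deg_curve_nonneg k hdim hy' hy fun e => hne (by rw [← hey, ← he', e])
  subst hey
  rw [cCl, dif_pos (inv_curveIdeal k hdim hy)] at h ⊢
  have h2 : (0 : ℚ) ≤ (isect k (clsMod (inv_curveIdeal k hdim hy))⁻¹ (cCl C') : ℚ) := h ▸ h1
  exact_mod_cast h2

include hdim hCi hCd in
/-- The degree on a curve as an intersection number. -/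
theorem euler_sub_eq_isect {L : X.Modules} (hL : PicF.IsInvertible L) :
    Curv2.euler k X (CohB1.tensorMod (ClSub.quotMod C) L) - Curv2.euler k X (ClSub.quotMod C) =
      isect k (clsMod hL) (cCl C) := by
  haveI := hCi
  have hy := isTop_of_curve k hCd
  have h := euler_sub_eq_deg k hdim hL C
  rw [deg_eq_isect k hdim hy] at h
  have e : cCl (curveIdeal (C.subschemeι (genericPoint C.subscheme))) =
      (clsMod (inv_curveIdeal k hdim hy))⁻¹ := by rw [cCl, dif_pos (inv_curveIdeal k hdim hy)]
  rw [← e, curveIdeal_eq C] at h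
  exact_mod_cast h

include hdim hCi hCd in
theorem isect_ample_curve_pos {H : X.Modules} (hH : CohB1.IsAmple H) : 0 < isect k (clsMod hH.1) (cCl C) := by
  obtain ⟨y, hy, -, -, h⟩ := isect_cCl_eq_deg k hdim hCi hCd (clsMod hH.1)
  have h1 := Goodman.deg_ample_pos' k hdim hH hy
  rw [← h] at h1
  exact_mod_cast h1

end GrothLib.HodgeIndex
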