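import Groth.Agent.Lib.HodgeIndex.Real

/-!
# The light cone of the intersection form on `N¹(X)_ℝ`
-/

set_option autoImplicit false
set_option backward.isDefEq.respectTransparency false
set_option linter.all false

universe u

open CategoryTheory CategoryTheory.Limits AlgebraicGeometry TopologicalSpace

noncomputable section

namespace GrothLib.HodgeIndex

open GrothLib.Cube (Pic clsMod)
open GrothLib.Kodaira (PLe)

variable {X : Scheme.{u}} (k : Type u) [Field k] [X.Over (Spec (CommRingCat.of k))]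
  [IsProper (X ↘ Spec (CommRingCat.of k))] [IsIntegral X] [PicGrp.Law X]
  (hdim : topologicalKrullDim X = ((2 : ℕ) : WithBot ℕ∞)) {H : X.Modules} (hH : CohB1.IsAmple H)
  {B : NumR.N1R k X →ₗ[ℝ] NumR.N1R k X →ₗ[ℝ] ℝ} (hB : NumR.IsIntForm₂ k X B)

include hdim hH hB in
theorem B_cls {L M : X.Modules} (hL : PicF.IsInvertible L) (hM : PicF.IsInvertible M) :
    B (NumR.clR k X L hL) (NumR.clR k X M hM) = (isect k (clsMod hL) (clsMod hM) : ℝ) := by
  rw [hB L M hL hM, intNum_eq_isect k hdim.le hH hL hM]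

include hdim hH hB in
theorem B_symm (v w : NumR.N1R k X) : B v w = B w v := by
  have h : B = B.flip := NumR.isIntForm₂_unique hB fun L M hL hM => by
    rw [LinearMap.flip_apply, B_cls k hdim hH hB hM hL, isect_comm, ← intNum_eq_isect k hdim.le hH hL hM]
  conv_lhs => rw [h]
  rfl

include hdim hH hB in
theorem B_hh_pos : 0 < B (NumR.clR k X H hH.1) (NumR.clR k X H hH.1) := by
  rw [B_cls k hdim hH hB]
  exact_mod_cast isect_self_pos k hdim.le hdim hH

omit [IsProper (X ↘ Spec (CommRingCat.of k))] [IsIntegral X] in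
theorem forall_of_closed {S : Set (NumR.N1R k X)}
    (hS : ∀ (n : ℕ) (e : Fin n → NumR.N1R k X), IsClosed {r : Fin n → ℝ | ∑ i, r i • e i ∈ S})
    (h : ∀ v, RatPt k v → v ∈ S) (v : NumR.N1R k X) : v ∈ S := by
  obtain ⟨n, r, e, he, rfl⟩ := exists_comb k v
  have hd : DenseRange (fun q : Fin n → ℚ => fun i => (q i : ℝ)) :=
    DenseRange.piMap fun _ => Rat.denseRange_cast
  refine (hS n e).closure_subset_iff.2 ?_ (hd r)
  rintro _ ⟨q, rfl⟩
  exact h _ (RatPt.sum k _ _ fun i _ => (he i).ratSmul k (q i))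

include hdim hH hB in
/-- The Hodge index inequality for real classes. -/
theorem sq_leR (v : NumR.N1R k X) :
    B v v * B (NumR.clR k X H hH.1) (NumR.clR k X H hH.1) ≤ B v (NumR.clR k X H hH.1) ^ 2 := by
  let S : Set (NumR.N1R k X) :=
    {v | B v v * B (NumR.clR k X H hH.1) (NumR.clR k X H hH.1) ≤ B v (NumR.clR k X H hH.1) ^ 2}
  refine forall_of_closed k (S := S) (fun n e => ?_) ?_ v
  · simp only [S, Set.mem_setOf_eq, map_sum, map_smul, LinearMap.sum_apply, LinearMap.smul_apply, smul_eq_mul]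
    exact isClosed_le (by fun_prop) (by fun_prop)
  · rintro w ⟨D, L, hL, hD, hw⟩
    show B w w * _ ≤ _
    have hq := sq_le k hdim hH (clsMod hL)
    have hq' : (isect k (clsMod hL) (clsMod hL) : ℝ) * (isect k (clsMod hH.1) (clsMod hH.1) : ℝ) ≤
        (isect k (clsMod hL) (clsMod hH.1) : ℝ) ^ 2 := by exact_mod_cast hq
    rw [← B_cls k hdim hH hB hL hL, ← B_cls k hdim hH hB hH.1 hH.1, ← B_cls k hdim hH hB hL hH.1, ← hw] at hq'
    simp only [map_smul, LinearMap.smul_apply, smul_eq_mul] at hq'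
    have hD' : (0 : ℝ) < (D : ℝ) ^ 2 := by positivity
    nlinarith

include hdim hH hB in
theorem sq_nonpos_of_orth {v : NumR.N1R k X} (h : B v (NumR.clR k X H hH.1) = 0) : B v v ≤ 0 := by
  have h1 := sq_leR k hdim hH hB v
  rw [h, zero_pow two_ne_zero] at h1
  exact nonpos_of_mul_nonpos_left h1 (B_hh_pos k hdim hH hB)

variable [Smooth (X ↘ Spec (CommRingCat.of k))]

include hdim hH in
/-- A class pairing to zero with everything is numerically trivial. -/
theorem isNumEquivZero_of_isect {L : X.Modules} (hL : PicF.IsInvertible L)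
    (h : ∀ x : Pic X, isect k (clsMod hL) x = 0) : Pic13.IsNumEquivZero k X L := by
  intro Y i hi hY hd
  haveI := Euler.isNoetherian_of_proper (X := X) k
  have hmem := exists_curveDeg_eq k i hd.le hL {0} (fun y hy => ?_) rfl (fun a ha b hb => by simp_all)
  · have h0 : ((Pic13.curveDeg k (i ≫ X ↘ Spec (CommRingCat.of k)) ((Scheme.Modules.pullback i).obj L) : ℤ) : ℚ) = 0 :=
      hmem
    exact_mod_cast h0
  · let I := Scheme.IdealSheafData.vanishingIdeal (⟨closure ({y} : Set X), isClosed_closure⟩ : Closeds X)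
    haveI : IsIntegral I.subscheme := Snapper.isIntegral_pt y
    have hs : topologicalKrullDim (I.support : Set X) = 1 := by
      rw [← I.range_subschemeι, Snapper.range_pt y]
      exact hy
    have hE := isEffCartier_curve hdim (regular_of_smooth k) I (isTop_of_curve k hs)
    show Snapper.mixed 1 (Snapper.phi k 1 (fun _ => L) (ClSub.quotMod I)) = 0
    rw [isect_curve k hdim hL hE (IdealModSec.isInvertible_of_isEffCartier hE), h, Int.cast_zero]

include hdim hH hB in
theorem eq_zero_of_forall_pair {v : NumR.N1R k X} (h : ∀ w, B v w = 0) : v = 0 := by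
  obtain ⟨n, r, e, he, rfl⟩ := exists_comb k v
  let V : Submodule ℚ ℝ := Submodule.span ℚ (Set.range r)
  haveI : FiniteDimensional ℚ V := FiniteDimensional.span_of_finite ℚ (Set.finite_range r)
  let b := Module.finBasis ℚ V
  let q : Fin n → Fin (Module.finrank ℚ V) → ℚ := fun i j => b.repr ⟨r i, Submodule.subset_span ⟨i, rfl⟩⟩ j
  have hr : ∀ i, r i = ∑ j, (q i j : ℝ) * (b j : ℝ) := fun i => by
    have := congrArg (Subtype.val (p := fun x => x ∈ V)) (b.sum_repr ⟨r i, Submodule.subset_span ⟨i, rfl⟩⟩)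
    simp only [AddSubmonoidClass.coe_finsetSum, Submodule.coe_smul, Rat.smul_def] at this
    exact this.symm
  have hv : ∑ i, r i • e i = ∑ j, (b j : ℝ) • ∑ i, (q i j : ℝ) • e i := by
    simp only [hr, Finset.sum_smul, Finset.smul_sum, smul_smul]
    rw [Finset.sum_comm]
    exact Finset.sum_congr rfl fun j _ => Finset.sum_congr rfl fun i _ => by rw [mul_comm]
  rw [hv] at h ⊢
  refine Finset.sum_eq_zero fun j _ => ?_
  obtain ⟨D, L, hL, hD, hw⟩ := RatPt.sum k Finset.univ _ fun i _ => (he i).ratSmul k (q i j)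
  suffices hL0 : ∀ x : Pic X, isect k (clsMod hL) x = 0 by
    have h0 : NumR.clR k X L hL = 0 := by
      rw [NumR.clR, NumR.cl_eq_zero hL (isNumEquivZero_of_isect k hdim hH hL hL0), map_zero]
    rw [h0, smul_eq_zero] at hw
    rcases hw with hw | hw
    · exact absurd hw (by positivity)
    · rw [hw, smul_zero]
  intro x
  have hM : PicF.IsInvertible (rep x) := isInv_rep x
  have hz := h (NumR.clR k X (rep x) hM)
  have hrat : ∀ j', ∃ a : ℚ, B (∑ i, (q i j' : ℝ) • e i) (NumR.clR k X (rep x) hM) = (a : ℝ) := fun j' => by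
    obtain ⟨D', L', hL', hD', hw'⟩ := RatPt.sum k Finset.univ _ fun i _ => (he i).ratSmul k (q i j')
    refine ⟨(isect k (clsMod hL') (clsMod hM) : ℚ) / D', ?_⟩
    push_cast
    rw [eq_div_iff (by positivity), ← B_cls k hdim hH hB hL' hM, ← hw', map_smul, LinearMap.smul_apply, smul_eq_mul,
      mul_comm]
  choose a ha using hrat
  simp only [map_sum, map_smul, LinearMap.sum_apply, LinearMap.smul_apply, smul_eq_mul] at hz
  have hsum : ∑ j', a j' • (b j' : V) = 0 := by
    refine Subtype.ext ?_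
    simp only [AddSubmonoidClass.coe_finsetSum, Submodule.coe_smul, Rat.smul_def, Submodule.coe_zero]
    rw [← hz]
    refine Finset.sum_congr rfl fun j' _ => ?_
    rw [← ha j', mul_comm]
    simp only [map_sum, map_smul, LinearMap.sum_apply, LinearMap.smul_apply, smul_eq_mul]
  have haj := Fintype.linearIndependent_iff.1 b.linearIndependent a hsum j
  have := ha j
  rw [haj, Rat.cast_zero] at this
  have hLx : B (NumR.clR k X L hL) (NumR.clR k X (rep x) hM) = 0 := by
    rw [← hw, map_smul, LinearMap.smul_apply, this, smul_zero]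
  rw [B_cls k hdim hH hB, cls_rep] at hLx
  exact_mod_cast hLx

include hdim hH hB in
/-- The form is negative definite on the orthogonal of an ample class. -/
theorem eq_zero_of_orth {v : NumR.N1R k X} (h : B v (NumR.clR k X H hH.1) = 0) (hv : 0 ≤ B v v) : v = 0 := by
  have hv0 : B v v = 0 := le_antisymm (sq_nonpos_of_orth k hdim hH hB h) hv
  refine eq_zero_of_forall_pair k hdim hH hB fun u => ?_
  obtain ⟨c, hc⟩ : ∃ c, c = B u (NumR.clR k X H hH.1) / B (NumR.clR k X H hH.1) (NumR.clR k X H hH.1) := ⟨_, rfl⟩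
  obtain ⟨w, hwdef⟩ : ∃ w, w = u - c • NumR.clR k X H hH.1 := ⟨_, rfl⟩
  have hpos := B_hh_pos k hdim hH hB
  have hw : B w (NumR.clR k X H hH.1) = 0 := by
    rw [hwdef, map_sub, map_smul, LinearMap.sub_apply, LinearMap.smul_apply, smul_eq_mul, hc, div_mul_cancel₀ _ hpos.ne',
      sub_self]
  have hvw : B v u = B v w := by
    rw [hwdef, map_sub, map_smul, h, smul_zero, sub_zero]
  rw [hvw]
  have hww := sq_nonpos_of_orth k hdim hH hB hw
  have key : ∀ t : ℝ, 2 * t * B v w + t ^ 2 * B w w ≤ 0 := fun t => by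
    have := sq_nonpos_of_orth k hdim hH hB (v := v + t • w) (by
      rw [map_add, map_smul, LinearMap.add_apply, LinearMap.smul_apply, h, hw, smul_zero, add_zero])
    simp only [map_add, map_smul, LinearMap.add_apply, LinearMap.smul_apply, smul_eq_mul, hv0,
      B_symm k hdim hH hB w v] at this
    linarith
  rcases lt_trichotomy (B v w) 0 with hlt | heq | hgt
  · have := key (B v w / (1 - B w w))
    have h1 : (0 : ℝ) < 1 - B w w := by linarith
    field_simp at this
    nlinarith [mul_pos (neg_pos.2 hlt) (neg_pos.2 hlt)]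
  · exact heq
  · have := key (B v w / (1 - B w w))
    have h1 : (0 : ℝ) < 1 - B w w := by linarith
    field_simp at this
    nlinarith [mul_pos hgt hgt]

variable {x y : NumR.N1R k X}

include hdim hH hB in
theorem pair_ne_zero_of_sq_pos (hx : 0 < B x x) : B x (NumR.clR k X H hH.1) ≠ 0 := fun h =>
  absurd (sq_nonpos_of_orth k hdim hH hB h) (not_le.2 hx)

include hdim hH hB in
theorem eq_zero_of_orth_pos (hx : 0 < B x x) (hy : 0 ≤ B y y) (hxy : B x y = 0) : y = 0 := by
  obtain ⟨a, ha⟩ : ∃ a, a = B x (NumR.clR k X H hH.1) := ⟨_, rfl⟩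
  obtain ⟨b, hb⟩ : ∃ b, b = B y (NumR.clR k X H hH.1) := ⟨_, rfl⟩
  have ha0 : a ≠ 0 := ha ▸ pair_ne_zero_of_sq_pos k hdim hH hB hx
  have hyx : B y x = 0 := (B_symm k hdim hH hB y x).trans hxy
  have h1 : B (a • y - b • x) (NumR.clR k X H hH.1) = 0 := by
    simp only [map_sub, map_smul, LinearMap.sub_apply, LinearMap.smul_apply, smul_eq_mul, ← ha, ← hb]
    ring
  have h2 : 0 ≤ B (a • y - b • x) (a • y - b • x) := by
    simp only [map_sub, map_smul, LinearMap.sub_apply, LinearMap.smul_apply, smul_eq_mul, hxy, hyx]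
    nlinarith [mul_nonneg (mul_self_nonneg a) hy, mul_nonneg (mul_self_nonneg b) hx.le]
  have h3 : a • y - b • x = 0 := eq_zero_of_orth k hdim hH hB h1 h2
  have h4 := congrArg (B x) h3
  simp only [map_sub, map_smul, smul_eq_mul, hxy, mul_zero, zero_sub, map_zero, neg_eq_zero, mul_eq_zero] at h4
  have hb0 : b = 0 := h4.resolve_right hx.ne'
  rw [hb0, zero_smul, sub_zero, smul_eq_zero] at h3
  exact h3.resolve_left ha0

include hdim hH hB in
theorem pair_pos (hx : x ∈ NumR.posCone k X B H hH.1) (hy : 0 ≤ B y y) (hyH : 0 < B y (NumR.clR k X H hH.1)) :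
    0 < B x y := by
  obtain ⟨hx1, hx2⟩ : 0 < B x x ∧ 0 < B x (NumR.clR k X H hH.1) := hx
  obtain ⟨a, ha⟩ : ∃ a, a = B x (NumR.clR k X H hH.1) := ⟨_, rfl⟩
  obtain ⟨b, hb⟩ : ∃ b, b = B y (NumR.clR k X H hH.1) := ⟨_, rfl⟩
  rw [← ha] at hx2
  rw [← hb] at hyH
  have h1 : B (a • y - b • x) (NumR.clR k X H hH.1) = 0 := by
    simp only [map_sub, map_smul, LinearMap.sub_apply, LinearMap.smul_apply, smul_eq_mul, ← ha, ← hb]
    ring
  have h2 := sq_nonpos_of_orth k hdim hH hB h1
  simp only [map_sub, map_smul, LinearMap.sub_apply, LinearMap.smul_apply, smul_eq_mul, B_symm k hdim hH hB y x] at h2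
  by_contra h
  push Not at h
  nlinarith [mul_nonneg (mul_self_nonneg a) hy, mul_pos (mul_pos hyH hyH) hx1,
    mul_nonneg (mul_pos hx2 hyH).le (neg_nonneg.2 h)]

include hdim hH hB in
theorem convex_posCone : Convex ℝ (NumR.posCone k X B H hH.1) := by
  intro x hx y hy a b ha hb hab
  have hxy := pair_pos k hdim hH hB hx hy.1.le hy.2
  obtain ⟨hx1, hx2⟩ : 0 < B x x ∧ 0 < B x (NumR.clR k X H hH.1) := hx
  obtain ⟨hy1, hy2⟩ : 0 < B y y ∧ 0 < B y (NumR.clR k X H hH.1) := hy
  show 0 < B _ _ ∧ 0 < B _ _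
  simp only [map_add, map_smul, LinearMap.add_apply, LinearMap.smul_apply, smul_eq_mul, B_symm k hdim hH hB y x]
  have hb' : b = 1 - a := by linarith
  constructor
  · rcases ha.eq_or_lt with rfl | ha'
    · rw [show b = 1 by linarith]; linarith
    · nlinarith [mul_pos (mul_pos ha' ha') hx1, mul_nonneg (mul_nonneg ha hb) hxy.le, mul_nonneg (mul_nonneg hb hb) hy1.le]
  · rcases ha.eq_or_lt with rfl | ha'
    · rw [show b = 1 by linarith]; linarith
    · nlinarith [mul_pos ha' hx2, mul_nonneg hb hy2.le]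

include hdim hH hB in
theorem isOpen_posCone [Module.Finite ℝ (NumR.N1R k X)] : IsOpen (NumR.posCone k X B H hH.1) := by
  have h1 : Continuous fun v : NumR.N1R k X => B v v :=
    (IsModuleTopology.continuous_bilinear_of_finite_left B).comp (continuous_id.prodMk continuous_id)
  have h2 : Continuous fun v : NumR.N1R k X => B v (NumR.clR k X H hH.1) :=
    IsModuleTopology.continuous_of_linearMap (B.flip (NumR.clR k X H hH.1))
  exact (isOpen_lt continuous_const h1).inter (isOpen_lt continuous_const h2)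

include hdim hH hB in
/-- The ample cone lies in the positive cone. -/
theorem ampleCone_subset_posCone : (NumR.ampleCone k X : Set (NumR.N1R k X)) ⊆ NumR.posCone k X B H hH.1 := by
  let S : ConvexCone ℝ (NumR.N1R k X) :=
    { carrier := NumR.posCone k X B H hH.1
      smul_mem' := fun c hc v hv => by
        obtain ⟨h1, h2⟩ : 0 < B v v ∧ 0 < B v (NumR.clR k X H hH.1) := hv
        show 0 < B _ _ ∧ 0 < B _ _
        simp only [map_smul, LinearMap.smul_apply, smul_eq_mul]
        exact ⟨mul_pos hc (mul_pos hc h1), mul_pos hc h2⟩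
      add_mem' := fun v hv w hw => by
        have hvw := pair_pos k hdim hH hB hv hw.1.le hw.2
        obtain ⟨h1, h2⟩ : 0 < B v v ∧ 0 < B v (NumR.clR k X H hH.1) := hv
        obtain ⟨h3, h4⟩ : 0 < B w w ∧ 0 < B w (NumR.clR k X H hH.1) := hw
        show 0 < B _ _ ∧ 0 < B _ _
        simp only [map_add, LinearMap.add_apply, B_symm k hdim hH hB w v]
        constructor <;> linarith }
  refine (ConvexCone.hull_min (C := S) ?_ : NumR.ampleCone k X ≤ S)
  rintro _ ⟨A, hA, hAmp, rfl⟩
  show 0 < B _ _ ∧ 0 < B _ _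
  rw [B_cls k hdim hH hB, B_cls k hdim hH hB]
  have h1 := isect_self_pos k hdim.le hdim hAmp
  refine ⟨by exact_mod_cast h1, ?_⟩
  obtain ⟨j, hj⟩ := Kodaira.exists_pLe_pow hAmp (1 : Pic X)
  have h2 := isect_nonneg_of_pLe k hdim hH (hj (j + 1) (Nat.le_succ _))
  rw [isect_pow_left k hdim.le] at h2
  have h3 : 0 ≤ isect k (clsMod hA) (clsMod hH.1) :=
    nonneg_of_mul_nonneg_right h2 (by exact_mod_cast j.succ_pos)
  exact_mod_cast isect_pos_of_sq_pos k hdim hH h3 h1

end GrothLib.HodgeIndex
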