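import Groth.Agent.Lib.HodgeIndex.Light

/-!
# Curve classes and effective classes on a surface
-/

set_option autoImplicit false
set_option backward.isDefEq.respectTransparency false
set_option linter.all false

universe u

open CategoryTheory CategoryTheory.Limits AlgebraicGeometry TopologicalSpace

noncomputable section

namespace GrothLib.HodgeIndex

open GrothLib.Euler (tF)
open GrothLib.Cube (Pic clsMod)
open GrothLib.Kodaira (PLe IsoOn)
open GrothLib.Snapper (DimLT IsTop mixed phi ptMod)

variable {X : Scheme.{u}}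

/-- The reduced ideal of the closure of a point. -/
abbrev curveIdeal (y : X) : X.IdealSheafData :=
  Scheme.IdealSheafData.vanishingIdeal (⟨closure ({y} : Set X), isClosed_closure⟩ : Closeds X)

theorem curveIdeal_eq (I : X.IdealSheafData) [IsIntegral I.subscheme] :
    curveIdeal (I.subschemeι (genericPoint I.subscheme)) = I :=
  (Nakai.vanishingIdeal_eq_ker I.subschemeι).trans I.ker_subschemeι

theorem mem_support_structure_ne_zero [IsIntegral X] {L : X.Modules} (s : Coh.structureModule X ⟶ L) (hs : s ≠ 0)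
    (hL : PicF.IsInvertible L) : genericPoint X ∉ CohB1.support (cokernel s) :=
  QCoh.notMem_support_cokernel_of_surjective s
    (Euler.stalkLin_genericPoint_bijective Euler.isInvertible_structure hL hs).2

variable (k : Type u) [Field k] [X.Over (Spec (CommRingCat.of k))] [IsProper (X ↘ Spec (CommRingCat.of k))]
  [IsIntegral X] (hdim : topologicalKrullDim X = ((2 : ℕ) : WithBot ℕ∞))

include k hdim in
theorem dimLT_coker {L : X.Modules} (hL : PicF.IsInvertible L) (s : Coh.structureModule X ⟶ L) (hs : s ≠ 0) :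
    DimLT (CohB1.support (cokernel s)) 2 :=
  (Snapper.dimLT_of_notMem (Kleiman.isTop_genericPoint hdim).dimLT Set.inter_subset_left
    (T := closure {genericPoint X} ∩ CohB1.support (cokernel s))
    fun h => mem_support_structure_ne_zero s hs hL h.2).mono fun x hx =>
      ⟨by rw [show closure ({genericPoint X} : Set X) = Set.univ from (genericPoint_spec X).def]; trivial, hx⟩

include hdim in
/-- An effective class pairs with any class through the cokernel of its section. -/
theorem isect_coker (z : Pic X) (s : Coh.structureModule X ⟶ rep z) [Mono s] {M : X.Modules}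
    (hM : PicF.IsInvertible M) :
    mixed 1 (phi k 1 (fun _ => M) (cokernel s)) = (isect k (clsMod hM) z : ℚ) := by
  haveI := Euler.isNoetherian_of_proper (X := X) k
  have hO : Coh.IsCoh (Coh.structureModule X) := Kleiman.isCoh_O k
  have hZc : Coh.IsCoh (rep z) := Euler.isCoh_of_isInvertible (isInv_rep z)
  have hQ : Coh.IsCoh (cokernel s) := QCoh.isCoh_cokernel s hO hZc
  let S : ShortComplex X.Modules := ShortComplex.mk s (cokernel.π s) (cokernel.condition s)
  have hS : S.ShortExact :=
    haveI : Mono S.f := ‹Mono s›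
    haveI : Epi S.g := inferInstanceAs (Epi (cokernel.π s))
    { exact := ShortComplex.exact_of_g_is_cokernel _ (cokernelIsCokernel _) }
  have hadd := Snapper.phi_additive k (r := 1) (L := fun _ => M) (fun _ => hM) hS hO hZc hQ
  simp only [S] at hadd
  have hQphi : phi k 1 (fun _ => M) (cokernel s) =
      phi k 1 (fun _ => M) (rep z) - phi k 1 (fun _ => M) (Coh.structureModule X) := by rw [hadd]; simp
  have hOv : ∀ n : Fin 1 → ℕ, phi k 1 (fun _ => M) (Coh.structureModule X) n =
      (chi k (clsMod hM ^ n 0) : ℚ) := fun n => by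
    refine (Kleiman.phi_eq_of_cls k (fun _ => hM) (L' := fun _ : Fin 1 => rep (clsMod hM))
      (fun _ => isInv_rep _) _ (n' := n) (by simp [cls_rep])).trans ?_
    rw [phi_eq_chi k (fun _ => clsMod hM), Fin.prod_univ_one]
  have hZv : ∀ n : Fin 1 → ℕ, phi k 1 (fun _ => M) (rep z) n = (chi k (z * clsMod hM ^ n 0) : ℚ) := fun n => by
    have e : rep z ≅ (tF (rep z)).obj (Coh.structureModule X) := (OX.tensorUnitLeftIso (rep z)).symm
    rw [Snapper.phi_of_iso k _ e]
    obtain ⟨g⟩ := nonempty_tF_tF (Coh.structureModule X)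
      (Iso.refl (CohB1.tensorMod (rep z) (Snapper.invPows 1 (fun _ => M) n)))
    have hP := Snapper.isInvertible_invPows 1 (fun _ => M) (fun _ => hM) n
    refine congrArg Int.cast ((Euler.euler_of_iso k (g ≪≫ OX.tensorUnitLeftIso _)).trans ?_)
    rw [euler_eq_chi k (Ample.isInvertible_tensorMod (isInv_rep z) hP), Cube.clsMod_tensorMod (isInv_rep z) hP,
      cls_rep, Kleiman.cls_invPows 1 (fun _ => M) (fun _ => hM) n, Fin.prod_univ_one]
  rw [hQphi, map_sub, isect_comm]
  simp [mixed_one, hOv, hZv, isect]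
  ring

include hdim in
/-- A section not vanishing identically on a curve has non-negative degree on it. -/
theorem degree_nonneg_of_section {L : X.Modules} (hL : PicF.IsInvertible L) (s : Coh.structureModule X ⟶ L) [Mono s]
    {y : X} (hy : IsTop 1 y) (hys : y ∉ CohB1.support (cokernel s)) :
    0 ≤ mixed 1 (phi k 1 (fun _ => L) (ptMod y)) := by
  haveI := Euler.isNoetherian_of_proper (X := X) k
  have hO : Coh.IsCoh (Coh.structureModule X) := Kleiman.isCoh_O k
  have hP := Snapper.isCoh_ptMod y
  let V : X.Opens := ⟨(CohB1.support (cokernel s))ᶜ,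
    (QCoh.isClosed_support_of_isCoh (QCoh.isCoh_cokernel s hO (Euler.isCoh_of_isInvertible hL))).isOpen_compl⟩
  let S₀ : ShortComplex X.Modules := ShortComplex.mk s (cokernel.π s) (cokernel.condition s)
  have hS₀ : S₀.ShortExact :=
    haveI : Mono S₀.f := ‹Mono s›
    haveI : Epi S₀.g := inferInstanceAs (Epi (cokernel.π s))
    { exact := ShortComplex.exact_of_g_is_cokernel _ (cokernelIsCokernel _) }
  have hygen : y ∈ CohB1.genLocus L s := by
    refine Snapper.le_genLocus s V (fun x hx => ⟨QCoh.stalkLin_injective s x, fun v => ?_⟩) (show y ∈ V from hys)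
    haveI : Subsingleton ((cokernel s).presheaf.stalk x) := QCoh.stalk_subsingleton_of_notMem hx
    have he := (ShortComplex.ShortExact.moduleCat_exact_iff_function_exact _).1 ((OX.shortExact_iff S₀).1 hS₀ x).exact
    exact (he v).1 (Subsingleton.elim (α := (cokernel s).presheaf.stalk x) _ _)
  obtain ⟨U, hyU, hU⟩ := Kodaira.exists_isoOn_of_mem_genLocus s hygen
  haveI : IsIntegral (curveIdeal y).subscheme := Snapper.isIntegral_pt y
  have hη : (curveIdeal y).subschemeι (genericPoint (curveIdeal y).subscheme) = y := by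
    have h := QCoh.closure_singleton_eq_range (curveIdeal y).subschemeι
    rw [Snapper.range_pt y] at h
    exact Inseparable.eq (inseparable_iff_closure_eq.2 h)
  have hPt : QCoh.TorsFreeAt (ptMod y) y := by
    have h := QCoh.pushUnit_torsFreeAt (curveIdeal y).subschemeι
    rw [hη] at h
    exact h
  obtain ⟨S, hS, hQ, hQd, ⟨e₁⟩, ⟨e₂⟩⟩ :=
    exists_piece_seq k hL hP hPt (Snapper.support_ptMod y) hy.dimLT hyU hU
  have hq0 : 0 ≤ Curv2.euler k X S.X₃ := by
    have hcl := QCoh.isClosed_support_of_isCoh hQ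
    have h0 : topologicalKrullDim (CohB1.support S.X₃) ≤ 0 := by exact_mod_cast Snapper.dim_le_of_dimLT hcl hQd
    have hp := fun x hx => Euler.isClosed_singleton_of_dim_le_zero hcl h0 (x := x) hx
    haveI := hQ.1
    rw [Euler.euler_eq_of_finite_support k S.X₃ (Euler.finite_of_closed_points hcl hp) hp]
    exact Nat.cast_nonneg _
  have hL1 : Coh.IsCoh ((tF L).obj (ptMod y)) := Euler.isCoh_tF hP (Euler.isFinLocFree_of_isInvertible hL)
  have h₂ : Coh.IsCoh S.X₂ := QCoh.isCoh_of_iso e₂.symm hL1
  have h₁ : Coh.IsCoh S.X₁ := QCoh.isCoh_of_iso e₁.symm hP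
  have hadd := Euler.euler_additive k hS h₁ h₂ hQ
  rw [Euler.euler_of_iso k e₂, Euler.euler_of_iso k e₁] at hadd
  have hval : ∀ F : X.Modules, phi k 1 (fun _ : Fin 1 => L) F (fun _ => 0) = (Curv2.euler k X F : ℚ) := fun F =>
    Snapper.phi_zero k _ F
  have hval1 : phi k 1 (fun _ : Fin 1 => L) (ptMod y) (fun _ => 1) = (Curv2.euler k X ((tF L).obj (ptMod y)) : ℚ) := by
    have h := Snapper.phi_add_single k (fun _ : Fin 1 => L) (ptMod y) 0 0
    rw [zero_add] at h
    refine Eq.trans ?_ (h.trans (Snapper.phi_zero k _ _))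
    congr 1
    funext i
    simp [Fin.fin_one_eq_zero i]
  rw [mixed_one, hval, hval1]
  have : Curv2.euler k X (ptMod y) ≤ Curv2.euler k X ((tF L).obj (ptMod y)) := by linarith
  have h' : (Curv2.euler k X (ptMod y) : ℚ) ≤ (Curv2.euler k X ((tF L).obj (ptMod y)) : ℚ) := by exact_mod_cast this
  linarith

variable [Smooth (X ↘ Spec (CommRingCat.of k))]

include k hdim in
theorem eff_curveIdeal {y : X} (hy : IsTop 1 y) : BlowUp.IsEffCartierIdeal (curveIdeal y) := by
  haveI := Euler.isNoetherian_of_proper (X := X) k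
  haveI : IsIntegral (curveIdeal y).subscheme := Snapper.isIntegral_pt y
  refine isEffCartier_curve hdim (regular_of_smooth k) _ (isTop_of_curve k ?_)
  rw [← (curveIdeal y).range_subschemeι, Snapper.range_pt y]
  exact hy

include k hdim in
theorem inv_curveIdeal {y : X} (hy : IsTop 1 y) : PicF.IsInvertible (ClSub.idealMod (curveIdeal y)) :=
  IdealModSec.isInvertible_of_isEffCartier (eff_curveIdeal k hdim hy)

include hdim in
theorem deg_ptMod {y : X} (hy : IsTop 1 y) {L : X.Modules} (hL : PicF.IsInvertible L) :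
    mixed 1 (phi k 1 (fun _ => L) (ptMod y)) =
      (isect k (clsMod hL) (clsMod (inv_curveIdeal k hdim hy))⁻¹ : ℚ) :=
  isect_curve k hdim hL (eff_curveIdeal k hdim hy) _

variable [PicGrp.Law X]

/-- The class of the curve with generic point `y`. -/
def cc (y : X) : NumR.N1R k X :=
  haveI := Classical.propDecidable (PicF.IsInvertible (ClSub.idealMod (curveIdeal y)))
  if h : PicF.IsInvertible (ClSub.idealMod (curveIdeal y)) then NumR.curveCl k X (curveIdeal y) h else 0

include hdim in
theorem mem_nefCone_iff {B : NumR.N1R k X →ₗ[ℝ] NumR.N1R k X →ₗ[ℝ] ℝ} (x : NumR.N1R k X) :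
    x ∈ NumR.nefCone₂ k X B ↔ ∀ y, IsTop 1 y → 0 ≤ B x (cc k y) := by
  constructor
  · intro h y hy
    haveI : IsIntegral (curveIdeal y).subscheme := Snapper.isIntegral_pt y
    have hs : topologicalKrullDim ((curveIdeal y).support : Set X) = 1 := by
      rw [← (curveIdeal y).range_subschemeι, Snapper.range_pt y]; exact hy
    rw [cc, dif_pos (inv_curveIdeal k hdim hy)]
    exact h _ inferInstance hs _
  · intro h I hI hs hIv
    haveI := hI
    have h' := h _ (isTop_of_curve k hs)
    have e := curveIdeal_eq I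
    revert h'
    rw [cc]
    generalize curveIdeal (I.subschemeι (genericPoint I.subscheme)) = J at e ⊢
    subst e
    rw [dif_pos hIv]
    exact id

include hdim in
theorem forall_curve_pos_iff {B : NumR.N1R k X →ₗ[ℝ] NumR.N1R k X →ₗ[ℝ] ℝ} (x : NumR.N1R k X) :
    (∀ (I : X.IdealSheafData), IsIntegral I.subscheme → topologicalKrullDim (I.support : Set X) = 1 →
      ∀ hI : PicF.IsInvertible (ClSub.idealMod I), 0 < B x (NumR.curveCl k X I hI)) ↔
      ∀ y, IsTop 1 y → 0 < B x (cc k y) := by
  constructor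
  · intro h y hy
    haveI : IsIntegral (curveIdeal y).subscheme := Snapper.isIntegral_pt y
    have hs : topologicalKrullDim ((curveIdeal y).support : Set X) = 1 := by
      rw [← (curveIdeal y).range_subschemeι, Snapper.range_pt y]; exact hy
    rw [cc, dif_pos (inv_curveIdeal k hdim hy)]
    exact h _ inferInstance hs _
  · intro h I hI hs hIv
    haveI := hI
    have h' := h _ (isTop_of_curve k hs)
    have e := curveIdeal_eq I
    revert h'
    rw [cc]
    generalize curveIdeal (I.subschemeι (genericPoint I.subscheme)) = J at e ⊢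
    subst e
    rw [dif_pos hIv]
    exact id

variable {H : X.Modules} (hH : CohB1.IsAmple H)
  {B : NumR.N1R k X →ₗ[ℝ] NumR.N1R k X →ₗ[ℝ] ℝ} (hB : NumR.IsIntForm₂ k X B)

include hdim hH hB in
theorem B_cc {y : X} (hy : IsTop 1 y) {L : X.Modules} (hL : PicF.IsInvertible L) :
    B (NumR.clR k X L hL) (cc k y) = ((mixed 1 (phi k 1 (fun _ => L) (ptMod y)) : ℚ) : ℝ) := by
  rw [cc, dif_pos (inv_curveIdeal k hdim hy), NumR.curveCl, map_neg, B_cls k hdim hH hB, deg_ptMod k hdim hy hL,
    isect_inv_right k hdim.le]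
  push_cast
  ring

include hdim hH hB in
/-- The class of an effective class is a non-negative combination of curve classes. -/
theorem eff_decomp {z : Pic X} (s : Coh.structureModule X ⟶ rep z) [Mono s] :
    ∃ (T : Finset X) (m : X → ℕ), (∀ y ∈ T, IsTop 1 y ∧ y ∈ CohB1.support (cokernel s)) ∧
      ∀ x, B x (NumR.clR k X (rep z) (isInv_rep z)) = ∑ y ∈ T, (m y : ℝ) * B x (cc k y) := by
  haveI := Euler.isNoetherian_of_proper (X := X) k
  have hs : s ≠ 0 := Kodaira.exists_ne_zero_of_mono Euler.isInvertible_structure s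
  let Q := cokernel s
  have hQ : Coh.IsCoh Q := QCoh.isCoh_cokernel s (Kleiman.isCoh_O k) (Euler.isCoh_of_isInvertible (isInv_rep z))
  have hQd : DimLT (CohB1.support Q) (1 + 1) := dimLT_coker k hdim (isInv_rep z) s hs
  have hTf : {y : X | IsTop 1 y ∧ y ∈ CohB1.support Q}.Finite :=
    Snapper.finite_of_maximal (QCoh.isClosed_support_of_isCoh hQ) (fun y hy => hy.2) fun x hx y hy hyx =>
      hx.1.eq_of_specializes hyx (hQd.mono ((QCoh.isClosed_support_of_isCoh hQ).closure_subset_iff.2
        (Set.singleton_subset_iff.2 hy)))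
  refine ⟨hTf.toFinset, fun y => Snapper.mult Q y, fun y hy => hTf.mem_toFinset.1 hy, fun x => ?_⟩
  let w : NumR.N1R k X →ₗ[ℝ] ℝ := ∑ y ∈ hTf.toFinset, (Snapper.mult Q y : ℝ) • B.flip (cc k y)
  suffices h : B.flip (NumR.clR k X (rep z) (isInv_rep z)) = w by
    have := LinearMap.congr_fun h x
    simpa [w] using this
  refine LinearMap.ext_on NumR.span_clR ?_
  rintro _ ⟨L, hL, rfl⟩
  have hsum := Snapper.mixed_eq_zero (Snapper.phi_sub_sum_mem k (L := fun _ : Fin 1 => L) (fun _ => hL) hQ hQd)
  rw [finsum_eq_sum_of_support_subset _ (s := hTf.toFinset) (fun y hy => by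
    rw [Set.Finite.coe_toFinset]
    by_contra hc
    exact hy (Snapper.topTerm_eq_zero _ fun ht hm => hc ⟨ht, hm⟩)), map_sub, sub_eq_zero, map_sum,
    isect_coker k hdim z s hL] at hsum
  simp only [w, LinearMap.flip_apply, LinearMap.sum_apply, LinearMap.smul_apply, smul_eq_mul]
  rw [B_cls k hdim hH hB hL (isInv_rep z), cls_rep]
  have h2 : ((isect k (clsMod hL) z : ℚ) : ℝ) =
      ((∑ y ∈ hTf.toFinset, mixed 1 (Snapper.topTerm (phi k 1 (fun _ : Fin 1 => L)) 1 Q y) : ℚ) : ℝ) :=
    congrArg (fun q : ℚ => (q : ℝ)) hsum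
  push_cast at h2
  rw [h2]
  refine Finset.sum_congr rfl fun y hy => ?_
  rw [B_cc k hdim hH hB (hTf.mem_toFinset.1 hy).1 hL, Snapper.topTerm_of _ (hTf.mem_toFinset.1 hy).1, map_nsmul,
    nsmul_eq_mul]
  push_cast
  rfl

include hdim hH hB in
/-- An effective class is non-negative on curves outside the zero locus of its section. -/
theorem B_eff_cc_nonneg {z : Pic X} (s : Coh.structureModule X ⟶ rep z) [Mono s] {y : X} (hy : IsTop 1 y)
    (hys : y ∉ CohB1.support (cokernel s)) : 0 ≤ B (NumR.clR k X (rep z) (isInv_rep z)) (cc k y) := by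
  rw [B_cc k hdim hH hB hy]
  exact_mod_cast degree_nonneg_of_section k hdim (isInv_rep z) s hy hys

end GrothLib.HodgeIndex
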