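import Groth.Agent.Lib.HodgeIndex.Pullback
import Groth.Agent.Lib.Euler.CurveVanish
import Groth.Agent.Lib.NefGrowth.IntNum

/-!
# Intersection numbers on fibred surfaces
-/

set_option autoImplicit false
set_option backward.isDefEq.respectTransparency false
set_option linter.all false

universe u

open CategoryTheory CategoryTheory.Limits AlgebraicGeometry TopologicalSpace

noncomputable section

namespace GrothLib.HodgeIndex

open GrothLib.Snapper (IsTop DimLT phi mixed ptMod)
open GrothLib.Cube (Pic clsMod)

theorem eq_genericPoint_of_not_closed {C : Scheme.{u}} [IsIntegral C] (hd : topologicalKrullDim C ≤ 1) {c : C}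
    (hc : ¬ IsClosed ({c} : Set C)) : c = genericPoint C := by
  by_contra hne
  obtain ⟨d, hd', hdc⟩ : ∃ d, d ∈ closure ({c} : Set C) ∧ d ≠ c := by
    by_contra h
    push Not at h
    exact hc (isClosed_of_closure_subset fun z hz => h z hz)
  have h2 : c < genericPoint C := CurvePoints.lt_genericPoint hne
  have h1 : d < c := by
    refine lt_of_le_not_ge ?_ fun hge => hdc ?_
    · exact (specializes_iff_mem_closure.2 hd' : c ⤳ d)
    · exact (Specializes.antisymm (hge : d ⤳ c) (specializes_iff_mem_closure.2 hd')).eq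
  let s : LTSeries C := ((RelSeries.singleton _ d).snoc c h1).snoc (genericPoint C) (by simpa using h2)
  have h3 : ((2 : ℕ) : WithBot ℕ∞) ≤ Order.krullDim C :=
    le_trans (by simp [s]) (Order.LTSeries.length_le_krullDim s)
  have h4 := h3.trans ((Order.krullDim_eq_of_orderIso (irreducibleSetEquivPoints (α := ↥C))).ge.trans hd)
  norm_cast at h4

/-- The pulled back inclusion of an ideal is surjective off the inverse image of its support. -/
theorem surjective_pullι {X Y : Scheme.{u}} (f : X ⟶ Y) (I : Y.IdealSheafData) {x : X}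
    (hx : f x ∉ (I.support : Set Y)) : Function.Surjective (QCoh.stalkLin (OmegaBC.pullι f I) x) := by
  letI := (f.stalkMap x).hom.toAlgebra
  obtain ⟨n, hn⟩ := (stalk_bijective_idealModι I hx).2 (HomSh.unitStalk (f x) 1)
  rw [Goodman.stalkLin_idealModι, (HomSh.unitStalk (f x)).injective.eq_iff] at hn
  obtain ⟨v, hv, h⟩ := OmegaBC.exists_unit_pullι f I x
  obtain ⟨t, ht⟩ : ∃ t, (OmegaBC.ouni x).symm (QCoh.stalkLin (OmegaBC.pullι f I) x t) = v := by
    refine ⟨(OmegaBC.toStalk f (ClSub.idealMod I) x).hom ((1 : X.presheaf.stalk x) ⊗ₜ[Y.presheaf.stalk (f x)] n), ?_⟩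
    refine Eq.trans ?_ ((h n).trans (by rw [hn, map_one, mul_one]))
    rfl
  intro z
  refine ⟨((OmegaBC.ouni x).symm z * ((hv.unit⁻¹ : _ˣ) : X.presheaf.stalk x)) • t, (OmegaBC.ouni x).symm.injective ?_⟩
  rw [map_smul, map_smul, ht, smul_eq_mul, mul_assoc, IsUnit.val_inv_mul, mul_one]

variable {X : Scheme.{u}} (k : Type u) [Field k] [X.Over (Spec (CommRingCat.of k))]
  [IsProper (X ↘ Spec (CommRingCat.of k))] [IsIntegral X]
  (hdim : topologicalKrullDim X = ((2 : ℕ) : WithBot ℕ∞))

include hdim in
/-- The intersection number with an embedded integral curve. -/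
theorem intNum_push {A : X.Modules} (hA : CohB1.IsAmple A) {L : X.Modules} (hL : PicF.IsInvertible L)
    {E : Scheme.{u}} (ι : E ⟶ X) [IsClosedImmersion ι] [IsIntegral E] (hE : topologicalKrullDim E = 1) :
    IsTop 1 (ι (genericPoint E)) ∧ ∃ r : ℕ, 0 < r ∧
      (FGA.intNum k X 2 ![L] ((Coh.push ι).obj (Coh.structureModule E)) : ℚ) =
        -(r * deg k (ι (genericPoint E)) (clsMod hL)) := by
  haveI := Euler.isNoetherian_of_proper (X := X) k
  letI : E.Over (Spec (CommRingCat.of k)) := ⟨ι ≫ X ↘ Spec (CommRingCat.of k)⟩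
  haveI : IsProper (E ↘ Spec (CommRingCat.of k)) := inferInstanceAs (IsProper (ι ≫ X ↘ Spec (CommRingCat.of k)))
  haveI := Euler.isNoetherian_of_proper (X := E) k
  have hd : topologicalKrullDim E = ((1 : ℕ) : WithBot ℕ∞) := hE
  have hfin : (ι.residueFieldMap (genericPoint E)).hom.Finite := by
    refine RingHom.Finite.of_surjective _ fun a => ?_
    obtain ⟨b, rfl⟩ := E.residue_surjective (genericPoint E) a
    obtain ⟨c, rfl⟩ := ι.stalkMap_surjective (genericPoint E) b
    exact ⟨X.residue _ c, congrArg (fun φ => φ.hom c) (Scheme.residue_residueFieldMap ι (genericPoint E))⟩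
  have hT : IsTop 1 (ι (genericPoint E)) := (Snapper.isTop_iff_finite (k := k) (g := ι) rfl hd).2 hfin
  refine ⟨hT, ι.residueDegree (genericPoint E), ?_, ?_⟩
  · letI := (ι.residueFieldMap (genericPoint E)).hom.toAlgebra
    haveI : Module.Finite (X.residueField (ι (genericPoint E))) (E.residueField (genericPoint E)) := hfin
    exact Module.finrank_pos
  · obtain ⟨M, hM⟩ : ∃ M, M = rep (clsMod hL)⁻¹ := ⟨_, rfl⟩
    have hMi : PicF.IsInvertible M := hM ▸ isInv_rep _
    have hLM : ClSub.IsInverseOf L M := by
      refine (Cube.clsMod_eq_one_iff (Ample.isInvertible_tensorMod hL hMi)).1 ?_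
      subst hM
      rw [Cube.clsMod_tensorMod hL hMi, cls_rep, mul_inv_cancel]
    have hO : Coh.IsCoh (Coh.structureModule E) := Kleiman.isCoh_O k
    have hP : Coh.IsCoh ((Coh.push ι).obj (Coh.structureModule E)) := isCoh_push_O k ι
    have hPd : DimLT (CohB1.support ((Coh.push ι).obj (Coh.structureModule E))) (1 + 1) := by
      refine (Snapper.dimLT_of_dim_le ?_).mono (QCoh.support_pushforward_subset_range ι _)
      exact ((IsHomeomorph.topologicalKrullDim_eq _
        ι.isClosedEmbedding.isEmbedding.toHomeomorph.isHomeomorph).symm.trans hd).le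
    rw [show (![L] : Fin 1 → X.Modules) = fun _ => L from funext fun i => by simp,
      NefGrowth.intNum_eq_mixed k hA hdim.le hMi hLM hP hPd]
    have he : phi k 1 (fun _ => M) ((Coh.push ι).obj (Coh.structureModule E)) =
        phi k 1 (fun _ => (Scheme.Modules.pullback ι).obj M) (Coh.structureModule E) :=
      funext fun n => (Snapper.phi_push k ι rfl (fun _ => hMi) n).trans
        (congrArg Int.cast (Euler.euler_of_iso k (OX.tensorUnitLeftIso _).symm))
    have h := Snapper.mixed_eq_zero (Snapper.phi_pullback_sub_mem (k := k) (g := ι) rfl hd (r := 1)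
      (L := fun _ => M) (fun _ => hMi))
    rw [map_sub, map_nsmul, sub_eq_zero, nsmul_eq_mul, ← deg_eq_mixed k hMi] at h
    rw [he, h]
    subst hM
    rw [cls_rep, Goodman.deg_inv k hT]
    ring

include hdim in
/-- A class of degree zero on all curves of an effective divisor is orthogonal to it. -/
theorem isect_eq_zero_of_support {J : X.Modules} (hJ : PicF.IsInvertible J) (f : J ⟶ Coh.structureModule X)
    (hf : Function.Bijective (QCoh.stalkLin f (genericPoint X))) (x : Pic X)
    (h : ∀ z, IsTop 1 z → ¬ Function.Surjective (QCoh.stalkLin f z) → deg k z x = 0) :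
    isect k x (clsMod hJ)⁻¹ = 0 := by
  haveI := Euler.isNoetherian_of_proper (X := X) k
  have hO : Coh.IsCoh (Coh.structureModule X) := Kleiman.isCoh_O k
  have hJc : Coh.IsCoh J := Euler.isCoh_of_isInvertible hJ
  haveI : Mono f := Euler.mono_of_ne_zero hJ Euler.isInvertible_structure
    (Kodaira.ne_zero_of_stalk_injective hJ hf.1)
  have hQ : Coh.IsCoh (cokernel f) := QCoh.isCoh_cokernel f hJc hO
  have hQd : DimLT (CohB1.support (cokernel f)) (1 + 1) :=
    (Snapper.dimLT_of_notMem (Kleiman.isTop_genericPoint hdim).dimLT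
      (T := closure {genericPoint X} ∩ CohB1.support (cokernel f)) Set.inter_subset_left
      fun hm => QCoh.notMem_support_cokernel_of_surjective f hf.2 hm.2).mono fun z hz =>
        ⟨by rw [show closure ({genericPoint X} : Set X) = Set.univ from (genericPoint_spec X).def]; trivial, hz⟩
  have hfin := Snapper.finite_support_topTerm (phi k 1 fun _ : Fin 1 => rep x) (QCoh.isClosed_support_of_isCoh hQ) hQd
    (Set.Subset.refl (CohB1.support (cokernel f)))
  have hsum := Snapper.mixed_eq_zero
    (Snapper.phi_sub_sum_mem k (L := fun _ : Fin 1 => rep x) (fun _ => isInv_rep _) hQ hQd)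
  rw [map_sub, sub_eq_zero, map_finsum (mixed 1) hfin, Goodman.mixed_cokernel_ideal k hdim hJ f] at hsum
  have hz : ∀ z, mixed 1 (Snapper.topTerm (phi k 1 fun _ : Fin 1 => rep x) 1 (cokernel f) z) = 0 := fun z => by
    by_cases hT : IsTop 1 z
    · rw [Snapper.topTerm_of _ hT, map_nsmul]
      by_cases hs : Function.Surjective (QCoh.stalkLin f z)
      · rw [Snapper.mult_of_notMem (QCoh.notMem_support_cokernel_of_surjective f hs), zero_smul]
      · rw [show mixed 1 (phi k 1 (fun _ => rep x) (ptMod z)) = deg k z x from rfl, h z hT hs, smul_zero]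
    · simp [Snapper.topTerm, hT]
  rw [finsum_eq_zero_of_forall_eq_zero hz] at hsum
  exact_mod_cast hsum

end GrothLib.HodgeIndex
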