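import Groth.Agent.Lib.HodgeIndex.Form
import Groth.Agent.Lib.Nakai.Integral
import Groth.Agent.Lib.Kodaira.Cones

/-!
# The Hodge index theorem on an integral projective surface, without duality
-/

set_option autoImplicit false
set_option backward.isDefEq.respectTransparency false
set_option linter.all false

universe u

open CategoryTheory CategoryTheory.Limits AlgebraicGeometry TopologicalSpace

noncomputable section

namespace GrothLib.HodgeIndex

open GrothLib.Euler (tF)
open GrothLib.Snapper (DimLT IsTop phi mixed invPows)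
open GrothLib.Cube (Pic clsMod)
open GrothLib.Kodaira (IsoOn h0 PLe)
open GrothLib.InvExt (mres)
open GrothLib.Ample (Cocycle res)
open GrothLib.QCoh (stalkLin)

variable {X : Scheme.{u}}

/-- Multiplication by a section on cohomology of degree two, linear in the section. -/
def mulLin₂ (c : Cocycle X) {k : Type u} [Field k] [X.Over (Spec (CommRingCat.of k))] (M : X.Modules) (n m : ℕ) :
    Nakai.H0S c m →ₗ[k]
    (Coh.HH X (c.modTwist M n) 2 →ₗ[k] Coh.HH X (c.modTwist M (n + m * 1)) 2) where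
  toFun v := Cohom.hhMap k (c.mraiseHom M (Nakai.toS c v) n 1) 2
  map_add' v w := by
    have h : c.mraiseHom M (Nakai.toS c (v + w)) n 1 =
        c.mraiseHom M (Nakai.toS c v) n 1 + c.mraiseHom M (Nakai.toS c w) n 1 :=
      Scheme.Modules.hom_ext _ _ fun V => by
        ext (b : c.msect M n V)
        refine c.msect_ext fun i => ?_
        show res (inf_le_inf_right (c.D i) (le_top : V ≤ ⊤)) ((Nakai.toS c (v + w)).1 i) ^ 1 • b.1 i =
          res (inf_le_inf_right (c.D i) (le_top : V ≤ ⊤)) ((Nakai.toS c v).1 i) ^ 1 • b.1 i +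
            res (inf_le_inf_right (c.D i) (le_top : V ≤ ⊤)) ((Nakai.toS c w).1 i) ^ 1 • b.1 i
        rw [pow_one, pow_one, pow_one, Nakai.toS_add, map_add, add_smul]
    refine LinearMap.ext fun x => ?_
    show Cohom.hhMap k _ 2 x = Cohom.hhMap k _ 2 x + Cohom.hhMap k _ 2 x
    rw [h, Cohom.hhMap_apply, Cohom.hhMap_apply, Cohom.hhMap_apply, Functor.map_add, Cohom.H_map_eq_comp,
      Cohom.H_map_eq_comp, Cohom.H_map_eq_comp, Abelian.Ext.mk₀_add, Abelian.Ext.comp_add]
  map_smul' r v := by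
    have h : (QCoh.toAbFun X).map (c.mraiseHom M (Nakai.toS c (r • v)) n 1) =
        (QCoh.toAbFun X).map (c.mraiseHom M (Nakai.toS c v) n 1) ≫
          Coh.smulAb _ (Coh.toGlobal (X ↘ Spec (CommRingCat.of k)) r) := by
      ext V (b : c.msect M n V.unop)
      refine c.msect_ext fun i => ?_
      show res (inf_le_inf_right (c.D i) (le_top : V.unop ≤ ⊤)) ((Nakai.toS c (r • v)).1 i) ^ 1 • b.1 i =
        res (inf_le_left : V.unop ⊓ c.D i ≤ V.unop) (res (le_top : V.unop ≤ ⊤)
          (Coh.toGlobal (X ↘ Spec (CommRingCat.of k)) r)) •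
            res (inf_le_inf_right (c.D i) (le_top : V.unop ≤ ⊤)) ((Nakai.toS c v).1 i) ^ 1 • b.1 i
      rw [pow_one, pow_one, Nakai.toS_smul, map_mul, smul_smul, Ample.res_res, Ample.res_res]
    refine LinearMap.ext fun x => ?_
    show Sheaf.H.map ((QCoh.toAbFun X).map (c.mraiseHom M (Nakai.toS c (r • v)) n 1)) 2 x = _
    rw [h, Sheaf.H.map_comp_apply]
    rfl

/-- Tensoring an isomorphism on the left. -/
def tensorLeftIso (G : X.Modules) {A B : X.Modules} (i : A ≅ B) : CohB1.tensorMod G A ≅ CohB1.tensorMod G B :=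
  ((DCoh.tensorBi (X := X)).obj G).mapIso i

theorem nonempty_twist_isos (c : Cocycle X) {E : X.Modules} (e : E ≅ c.twist 1) (G : X.Modules) :
    Nonempty (c.modTwist G 0 ≅ G) ∧ Nonempty (c.modTwist (Coh.structureModule X) 1 ≅ E) ∧
      Nonempty (c.modTwist G (0 + 1 * 1) ≅ CohB1.tensorMod G E) := by
  refine ⟨?_, ?_, ?_⟩
  · obtain ⟨q0⟩ := c.nonempty_tensor_modTwist G 0
    obtain ⟨t0⟩ := c.nonempty_tensorPow_iso e 0
    have a : CohB1.tensorMod G (CohB1.tensorPow E 0) ≅ G := Euler.tFUnitIso G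
    have b : CohB1.tensorMod G (CohB1.tensorPow E 0) ≅ CohB1.tensorMod G (c.twist 0) :=
      tensorLeftIso G t0
    exact ⟨q0.symm ≪≫ b.symm ≪≫ a⟩
  · obtain ⟨qO⟩ := c.nonempty_tensor_modTwist (Coh.structureModule X) 1
    exact ⟨qO.symm ≪≫ OX.tensorUnitLeftIso (c.twist 1) ≪≫ e.symm⟩
  · obtain ⟨q1⟩ := c.nonempty_tensor_modTwist G (0 + 1 * 1)
    have b : CohB1.tensorMod G E ≅ CohB1.tensorMod G (c.twist (0 + 1 * 1)) :=
      tensorLeftIso G e
    exact ⟨q1.symm ≪≫ b.symm⟩

variable (k : Type u) [Field k] [X.Over (Spec (CommRingCat.of k))] [IsProper (X ↘ Spec (CommRingCat.of k))]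

/-- The dimension of `H^i`. -/
abbrev hh (F : X.Modules) (i : ℕ) : ℕ := Module.finrank k (Coh.HH X F i)

theorem hh_of_iso {F G : X.Modules} (e : F ≅ G) (i : ℕ) : hh k F i = hh k G i :=
  (Euler.hhEquiv (A := k) e i).finrank_eq

theorem finrank_le_of_bilin {V W U : Type*} [AddCommGroup V] [Module k V] [AddCommGroup W] [Module k W]
    [FiniteDimensional k W] [AddCommGroup U] [Module k U] (β : V →ₗ[k] W →ₗ[k] U)
    (hs : ∀ v, v ≠ 0 → Function.Surjective (β v)) (hU : Module.finrank k U ≠ 0) :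
    Module.finrank k V ≤ Module.finrank k W := by
  obtain ⟨w, hw⟩ : ∃ w : U, w ≠ 0 := by
    haveI : Nontrivial U := Module.nontrivial_of_finrank_pos (R := k) (Nat.pos_of_ne_zero hU)
    exact exists_ne 0
  obtain ⟨φ, hφ⟩ : ∃ φ : Module.Dual k U, φ w ≠ 0 := Module.Projective.exists_dual_ne_zero k hw
  let Φ : V →ₗ[k] Module.Dual k W := (LinearMap.llcomp k W U k φ).comp β
  have hinj : Function.Injective Φ := by
    refine (injective_iff_map_eq_zero Φ).2 fun v hv => by_contra fun hv0 => ?_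
    obtain ⟨u, rfl⟩ := hs v hv0 w
    exact hφ (LinearMap.congr_fun hv u)
  exact (LinearMap.finrank_le_finrank_of_injective hinj).trans Subspace.dual_finrank_eq.le

include k in
theorem surjective_mul [IsIntegral X] (hdim : topologicalKrullDim X ≤ ((2 : ℕ) : WithBot ℕ∞)) {A : X.Modules}
    (hA : CohB1.IsAmple A) (c : Cocycle X) {G : X.Modules} (hGc : Coh.IsCoh G) (v : Nakai.H0S c 1) (hv0 : v ≠ 0) :
    Function.Surjective (Cohom.hhMap k (c.mraiseHom G (Nakai.toS c v) 0 1) 2) := by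
  haveI := Euler.isNoetherian_of_proper (X := X) k
  have h1c := Euler.isCoh_modTwist c hGc (0 + 1 * 1)
  have h0c := Euler.isCoh_modTwist c hGc 0
  let μ := c.mraiseHom G (Nakai.toS c v) 0 1
  have hη : genericPoint X ∈ c.locus (Nakai.toS c v) := by
    obtain ⟨i, hi⟩ := Nakai.exists_toS_ne_zero c v hv0
    by_contra hηs
    refine hi (Nakai.eq_zero_of_locus_eq_bot c _ ?_ i)
    exact Opens.ext (Set.eq_empty_of_forall_notMem fun x hx => hηs
      ((genericPoint_specializes x).mem_open (c.locus _).2 hx))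
  have hbij : ∀ y ∈ c.locus (Nakai.toS c v), Function.Bijective (stalkLin μ y) :=
    fun y hy => Euler.bijective_stalk_mraiseHom c (Nakai.toS c v) G 0 1 hy
  have hu := Kleiman.dimLT_univ hdim
  have sK : Subsingleton (Coh.HH X (kernel μ) 3) :=
    subsingleton_HH_of_dimLT k hA 3 _ (QCoh.isCoh_kernel μ h0c h1c) (hu.mono fun _ _ => trivial) 3 le_rfl
  have sQ : Subsingleton (Coh.HH X (cokernel μ) 2) := by
    refine subsingleton_HH_of_dimLT k hA 2 _ (QCoh.isCoh_cokernel μ h0c h1c) ?_ 2 le_rfl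
    refine (Snapper.dimLT_of_notMem (η := genericPoint X) (T := (c.locus (Nakai.toS c v) : Set X)ᶜ) ?_ ?_
      fun h => h hη).mono fun y hy hys => QCoh.notMem_support_cokernel_of_surjective μ (hbij y hys).2 hy
    · rw [show closure ({genericPoint X} : Set X) = Set.univ from (genericPoint_spec X).def]
      exact hu
    · rw [show closure ({genericPoint X} : Set X) = Set.univ from (genericPoint_spec X).def]
      exact Set.subset_univ _
  have hsurj : Function.Surjective (Cohom.hhMap k μ 2) := by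
    intro y
    obtain ⟨z, hz⟩ := (Cohom.exact₂ (A := k) (Euler.imageSeq_shortExact μ) 2 y).1 (@Subsingleton.elim _ sQ _ _)
    obtain ⟨u, hu'⟩ := (Cohom.exact₃ (A := k) (Euler.kernelSeq_shortExact μ) 2 z).1 (@Subsingleton.elim _ sK _ _)
    refine ⟨u, ?_⟩
    rw [show μ = Abelian.factorThruImage μ ≫ Abelian.image.ι μ from (Abelian.image.fac μ).symm, Euler.hhMap_comp]
    exact (congrArg _ hu').trans hz
  exact hsurj

include k in
/-- If `H²` of `G ⊗ E` is non-zero, sections of `E` embed in the dual of `H²` of `G`. -/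
theorem h0_le_h2 [IsIntegral X] (hdim : topologicalKrullDim X ≤ ((2 : ℕ) : WithBot ℕ∞)) {A : X.Modules}
    (hA : CohB1.IsAmple A) {E F G : X.Modules} (hE : PicF.IsInvertible E) (hF : PicF.IsInvertible F)
    (hG : PicF.IsInvertible G) (hcls : clsMod hG * clsMod hE = clsMod hF) (hne : hh k F 2 ≠ 0) :
    h0 k E ≤ hh k G 2 := by
  haveI := Euler.isNoetherian_of_proper (X := X) k
  obtain ⟨c, ⟨e⟩⟩ := Ample.exists_cocycle hE
  let O := Coh.structureModule X
  have hO : Coh.IsCoh O := Kleiman.isCoh_O k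
  have hGc : Coh.IsCoh G := Euler.isCoh_of_isInvertible hG
  obtain ⟨⟨src⟩, ⟨sec⟩, ⟨e'⟩⟩ := nonempty_twist_isos c e G
  obtain ⟨g⟩ : Nonempty (CohB1.tensorMod G E ≅ F) :=
    (Cube.clsMod_eq_iff (Ample.isInvertible_tensorMod hG hE) hF).1 (by rw [Cube.clsMod_tensorMod hG hE, hcls])
  have hsec : h0 k E = Module.finrank k (Nakai.H0S c 1) := (hh_of_iso k sec 0).symm
  have hsrc : hh k G 2 = hh k (c.modTwist G 0) 2 := (hh_of_iso k src 2).symm
  have hn2 : hh k (c.modTwist G (0 + 1 * 1)) 2 ≠ 0 := fun h => hne ((hh_of_iso k (e' ≪≫ g) 2).symm.trans h)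
  rw [hsec, hsrc]
  haveI : FiniteDimensional k (Coh.HH X (c.modTwist G 0) 2) :=
    Euler.finiteDimensional_HH k (Euler.isCoh_modTwist c hGc 0) 2
  exact finrank_le_of_bilin k (mulLin₂ c G 0 1) (fun v hv => surjective_mul k hdim hA c hGc v hv) hn2

theorem euler_eq_three (hdim : topologicalKrullDim X ≤ ((2 : ℕ) : WithBot ℕ∞)) {A : X.Modules}
    (hA : CohB1.IsAmple A) {F : X.Modules} (hF : Coh.IsCoh F) :
    Curv2.euler k X F = (hh k F 0 : ℤ) - hh k F 1 + hh k F 2 := by
  rw [Euler.euler_eq_sum k F (N := 3) fun i hi =>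
    subsingleton_HH_of_dimLT k hA 3 F hF ((Kleiman.dimLT_univ hdim).mono fun _ _ => trivial) i hi]
  simp [Finset.sum_range_succ]
  ring

include k in
/-- `H¹` of negative twists grows at most linearly. -/
theorem h1_neg_bound [IsIntegral X] (h : Pic X)
    (hgg : ∀ x : X, ∃ (U : X.Opens) (σ : Coh.structureModule X ⟶ rep h), x ∈ U ∧ IsoOn U σ) :
    ∃ B : ℕ, ∀ m : ℕ, hh k (CohB1.tensorPow (rep h⁻¹) m) 1 ≤ B * (m + 1) := by
  haveI := Euler.isNoetherian_of_proper (X := X) k
  let T := rep h⁻¹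
  have hT : PicF.IsInvertible T := isInv_rep _
  have hO : Coh.IsCoh (Coh.structureModule X) := Kleiman.isCoh_O k
  have hO1 : clsMod (Euler.isInvertible_structure (X := X)) = 1 := (Cube.clsMod_eq_one_iff _).2 ⟨Iso.refl _⟩
  obtain ⟨U, σ, hηU, hσ⟩ := hgg (genericPoint X)
  have hpl : PLe (1 : Pic X) h := by
    rw [← hO1, ← cls_rep h]
    exact (Kodaira.pLe_iff _ _).2 ⟨σ, Euler.mono_of_ne_zero Euler.isInvertible_structure (isInv_rep h)
      (Kodaira.ne_zero_of_stalk_injective Euler.isInvertible_structure (hσ.stalk_bijective hηU).1)⟩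
  have hpl' := hpl.mul_right h⁻¹
  rw [one_mul, mul_inv_cancel, ← hO1, ← cls_rep h⁻¹] at hpl'
  obtain ⟨s, hs⟩ := (Kodaira.pLe_iff hT _).1 hpl'
  let S : ShortComplex X.Modules := ShortComplex.mk s (cokernel.π s) (cokernel.condition s)
  have hS : S.ShortExact :=
    haveI : Mono S.f := hs
    haveI : Epi S.g := inferInstanceAs (Epi (cokernel.π s))
    { exact := ShortComplex.exact_of_g_is_cokernel _ (cokernelIsCokernel _) }
  have hTc : Coh.IsCoh T := Euler.isCoh_of_isInvertible hT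
  have hQ : Coh.IsCoh (cokernel s) := QCoh.isCoh_cokernel s hTc hO
  obtain ⟨C, hC⟩ := h0_neg_bound k (isInv_rep h) hT (by rw [cls_rep, cls_rep, inv_mul_cancel]) hgg hQ
  refine ⟨hh k (CohB1.tensorPow T 0) 1 + C, fun m => ?_⟩
  induction m with
  | zero => show hh k (CohB1.tensorPow T 0) 1 ≤ _; omega
  | succ m ih =>
    have hSm := Snapper.shortExact_twist hT m hS
    haveI := Euler.finiteDimensional_HH k (Snapper.isCoh_twist k hT hQ m) 0
    haveI := Euler.finiteDimensional_HH k (Snapper.isCoh_twist k hT hTc m) 1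
    haveI := Euler.finiteDimensional_HH k (Snapper.isCoh_twist k hT hO m) 1
    obtain ⟨e1⟩ : Nonempty (CohB1.tensorMod T (CohB1.tensorPow T m) ≅ CohB1.tensorPow T (m + 1)) :=
      (Cube.clsMod_eq_iff (Ample.isInvertible_tensorMod hT (Ample.isInvertible_tensorPow hT m))
        (Ample.isInvertible_tensorPow hT (m + 1))).1 (by
          rw [Cube.clsMod_tensorMod hT (Ample.isInvertible_tensorPow hT m), Cube.clsMod_tensorPow hT,
            Cube.clsMod_tensorPow hT, pow_succ'])
    have h1 : hh k ((tF (CohB1.tensorPow T m)).obj T) 1 ≤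
        h0 k ((tF (CohB1.tensorPow T m)).obj (cokernel s)) + hh k ((tF (CohB1.tensorPow T m)).obj (Coh.structureModule X)) 1 :=
      Snapper.exact_finrank_le k (Cohom.exact₁ (A := k) hSm 0)
    have e2 : (tF (CohB1.tensorPow T m)).obj (Coh.structureModule X) ≅ CohB1.tensorPow T m :=
      OX.tensorUnitLeftIso (CohB1.tensorPow T m)
    rw [hh_of_iso k e2] at h1
    have h2 : hh k ((tF (CohB1.tensorPow T m)).obj T) 1 = hh k (CohB1.tensorPow T (m + 1)) 1 := hh_of_iso k e1 1
    have h3 := hC m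
    rw [h2] at h1
    generalize hh k (CohB1.tensorPow T (m + 1)) 1 = a at h1 ⊢
    generalize hh k (CohB1.tensorPow T m) 1 = b at h1 ih
    generalize h0 k ((tF (CohB1.tensorPow T m)).obj (cokernel s)) = r at h1 h3
    nlinarith

include k in
/-- Classes of positive square and non-negative degree are big. -/
theorem exists_pLe_of_sq_pos [IsIntegral X] (hdim : topologicalKrullDim X = ((2 : ℕ) : WithBot ℕ∞)) {H : X.Modules}
    (hH : CohB1.IsAmple H) {h : Pic X} (hh' : clsMod hH.1 = h)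
    (hgg : ∀ x : X, ∃ (U : X.Opens) (σ : Coh.structureModule X ⟶ rep h), x ∈ U ∧ IsoOn U σ)
    (x : Pic X) (hxh : 0 ≤ isect k x h) (hxx : 0 < isect k x x) :
    ∃ μ : ℕ, 0 < μ ∧ PLe h (x ^ μ) := by
  haveI := Euler.isNoetherian_of_proper (X := X) k
  have hd := hdim.le
  obtain ⟨c, hc⟩ := Kodaira.exists_isAmple_pow_tensor hH (isInv_rep x)
  have hA0 := hc c le_rfl
  obtain ⟨a, ha⟩ : ∃ a, a = h ^ c * x := ⟨_, rfl⟩
  let A := CohB1.tensorMod (CohB1.tensorPow H c) (rep x)
  have hAc : clsMod hA0.1 = a := by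
    rw [Cube.clsMod_tensorMod (Ample.isInvertible_tensorPow hH.1 c) (isInv_rep x), Cube.clsMod_tensorPow hH.1, hh',
      cls_rep, ha]
  obtain ⟨n₀, hn₀⟩ := SerreVanish.exists_forall_subsingleton k hA0 (Kleiman.isCoh_O (X := X) k)
  obtain ⟨B, hB⟩ := h1_neg_bound k h hgg
  let L := rep x
  have hL : PicF.IsInvertible L := isInv_rep x
  let T := rep h⁻¹
  have hT : PicF.IsInvertible T := isInv_rep _
  have hAn : ∀ n, Coh.IsCoh (CohB1.tensorPow A n) := fun n =>
    Euler.isCoh_of_isInvertible (Ample.isInvertible_tensorPow hA0.1 n)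
  have hEA : ∀ n, n₀ ≤ n → Curv2.euler k X (CohB1.tensorPow A n) = (h0 k (CohB1.tensorPow A n) : ℤ) := by
    intro n hn
    rw [euler_eq_three k hd hH (hAn n)]
    have h1 : ∀ i, 1 ≤ i → hh k (CohB1.tensorPow A n) i = 0 := fun i hi => by
      have e : CohB1.tensorMod (Coh.structureModule X) (CohB1.tensorPow A n) ≅ CohB1.tensorPow A n :=
        OX.tensorUnitLeftIso (CohB1.tensorPow A n)
      haveI := hn₀ n hn i hi
      rw [← hh_of_iso k e]
      exact Module.finrank_zero_of_subsingleton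
    rw [h1 1 le_rfl, h1 2 (by omega)]
    simp [h0]
  have ha2 : isect k a a = isect k x x + 2 * c * isect k x h + c * c * isect k h h := by
    rw [ha, isect_mul_left k hd, isect_mul_right k hd, isect_mul_right k hd, isect_pow_left k hd,
      isect_pow_left k hd, isect_pow_right k hd, isect_pow_right k hd, isect_comm k h x]
    ring
  have hzero : ∃ N : ℕ, ∀ n, N ≤ n → hh k (CohB1.tensorPow L n) 2 = 0 := by
    obtain ⟨K₁, hK₁⟩ : ∃ K : ℕ, 2 * |chi k a - chi k (1 : Pic X)| + |isect k a a| +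
        2 * c * |chi k h⁻¹ - chi k (1 : Pic X)| + c * |isect k h h| + 2 * B * (c + 1) ≤ (K : ℤ) :=
      ⟨_, Int.self_le_toNat _⟩
    refine ⟨n₀ + K₁ + 1, fun n hn => by_contra fun hne => ?_⟩
    have key := h0_le_h2 k hd hH (E := CohB1.tensorPow A n) (F := CohB1.tensorPow L n)
      (G := CohB1.tensorPow T (c * n)) (Ample.isInvertible_tensorPow hA0.1 n) (Ample.isInvertible_tensorPow hL n)
      (Ample.isInvertible_tensorPow hT _) (by
        rw [Cube.clsMod_tensorPow hT, Cube.clsMod_tensorPow hA0.1, Cube.clsMod_tensorPow hL, hAc, cls_rep, cls_rep, ha,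
          mul_pow, ← mul_assoc, inv_pow, pow_mul, inv_mul_cancel, one_mul]) hne
    have e1 := hEA n (by omega)
    rw [euler_eq_chi k (Ample.isInvertible_tensorPow hA0.1 n), Cube.clsMod_tensorPow hA0.1, hAc] at e1
    have e2 := euler_eq_three k hd hH (Euler.isCoh_of_isInvertible (Ample.isInvertible_tensorPow hT (c * n)))
    rw [euler_eq_chi k (Ample.isInvertible_tensorPow hT (c * n)), Cube.clsMod_tensorPow hT, cls_rep] at e2
    have e3 := two_chi_pow k hd a n
    have e4 := two_chi_pow k hd h⁻¹ (c * n)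
    rw [isect_inv_left k hd, isect_inv_right k hd, neg_neg] at e4
    have e5 : (hh k (CohB1.tensorPow T (c * n)) 1 : ℤ) ≤ (B : ℤ) * ((c : ℤ) * n + 1) := by exact_mod_cast hB (c * n)
    have key' : (h0 k (CohB1.tensorPow A n) : ℤ) ≤ hh k (CohB1.tensorPow T (c * n)) 2 := by exact_mod_cast key
    have hp0 : (0 : ℤ) ≤ hh k (CohB1.tensorPow T (c * n)) 0 := Nat.cast_nonneg _
    have hn' : (n₀ : ℤ) + K₁ + 1 ≤ n := by exact_mod_cast hn
    have hn0 : (0 : ℤ) ≤ n₀ := Nat.cast_nonneg _
    have hK0 : (0 : ℤ) ≤ K₁ := Nat.cast_nonneg _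
    push_cast at e4
    have h9 : (n : ℤ) * n * isect k a a =
        (n : ℤ) * n * (isect k x x + 2 * c * isect k x h + c * c * isect k h h) := by rw [ha2]
    have h6 : (n : ℤ) * n * (isect k x x + 2 * c * isect k x h) ≤ (n : ℤ) * K₁ := by
      have b1 := mul_le_mul_of_nonneg_left (neg_abs_le (chi k a - chi k (1 : Pic X))) (by positivity : (0 : ℤ) ≤ 2 * n)
      have b2 := mul_le_mul_of_nonneg_left (le_abs_self (isect k a a)) (by positivity : (0 : ℤ) ≤ n)
      have b3 := mul_le_mul_of_nonneg_left (le_abs_self (chi k h⁻¹ - chi k (1 : Pic X)))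
        (by positivity : (0 : ℤ) ≤ 2 * c * n)
      have b4 := mul_le_mul_of_nonneg_left (neg_abs_le (isect k h h)) (by positivity : (0 : ℤ) ≤ (c : ℤ) * n)
      have b5 : 2 * (B : ℤ) * ((c : ℤ) * n + 1) ≤ 2 * B * (c + 1) * n := by nlinarith [Nat.cast_nonneg (α := ℤ) B]
      have b6 := mul_le_mul_of_nonneg_left hK₁ (by positivity : (0 : ℤ) ≤ n)
      linarith
    have h7 : (0 : ℤ) ≤ (c : ℤ) * isect k x h := mul_nonneg (Nat.cast_nonneg _) hxh
    nlinarith
  obtain ⟨N, hN⟩ := hzero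
  obtain ⟨K, hK⟩ : ∃ K : ℕ, 2 * |chi k x - chi k (1 : Pic X)| + isect k x x + 2 * |chi k (1 : Pic X)| ≤ (K : ℤ) :=
    ⟨_, Int.self_le_toNat _⟩
  obtain ⟨μ, hμ, φ, hφ⟩ := Kodaira.exists_mono_of_growth k hdim hH hL (ν := 1)
    (c := (isect k x x : ℚ) / 4) (div_pos (by exact_mod_cast hxx) (by norm_num)) (N := N + 2 * K + 1) fun μ hμ => by
      rw [one_mul]
      have e1 := euler_eq_three k hd hH (Euler.isCoh_of_isInvertible (Ample.isInvertible_tensorPow hL μ))
      rw [hN μ (by omega), euler_eq_chi k (Ample.isInvertible_tensorPow hL μ), Cube.clsMod_tensorPow hL, cls_rep] at e1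
      push_cast at e1
      have e2 := two_chi_pow k hd x μ
      have hμ' : (N : ℤ) + 2 * K + 1 ≤ μ := by exact_mod_cast hμ
      have hN0 : (0 : ℤ) ≤ N := Nat.cast_nonneg _
      have hK0 : (0 : ℤ) ≤ K := Nat.cast_nonneg _
      have b1 := mul_le_mul_of_nonneg_left (neg_abs_le (chi k x - chi k (1 : Pic X))) (by positivity : (0 : ℤ) ≤ 2 * μ)
      have b2 : -(2 * |chi k (1 : Pic X)|) * μ ≤ 2 * chi k (1 : Pic X) := by
        nlinarith [neg_abs_le (chi k (1 : Pic X)), abs_nonneg (chi k (1 : Pic X))]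
      have hp1 : (0 : ℤ) ≤ hh k (CohB1.tensorPow L μ) 1 := Nat.cast_nonneg _
      have h6 : isect k x x * μ * μ ≤ 4 * (hh k (CohB1.tensorPow L μ) 0 : ℤ) := by
        have b3 := mul_le_mul_of_nonneg_left hK (by positivity : (0 : ℤ) ≤ μ)
        have b4 : 2 * (K : ℤ) * μ ≤ isect k x x * μ * μ := by
          nlinarith [mul_nonneg (show (0 : ℤ) ≤ μ by positivity) (show (0 : ℤ) ≤ isect k x x * μ - 2 * K by nlinarith)]
        nlinarith
      have h8 : (isect k x x : ℚ) * μ * μ ≤ 4 * (hh k (CohB1.tensorPow L μ) 0 : ℚ) := by exact_mod_cast h6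
      show (isect k x x : ℚ) / 4 * (μ : ℚ) ^ 2 ≤ (hh k (CohB1.tensorPow L μ) 0 : ℚ)
      nlinarith
  refine ⟨μ, hμ, ?_⟩
  have := (Kodaira.pLe_iff hH.1 (Ample.isInvertible_tensorPow hL (1 * μ))).2 ⟨φ, hφ⟩
  rwa [hh', Cube.clsMod_tensorPow hL, cls_rep, one_mul] at this

include k in
/-- Effective classes have non-negative degree. -/
theorem isect_nonneg_of_pLe [IsIntegral X] (hdim : topologicalKrullDim X = ((2 : ℕ) : WithBot ℕ∞)) {H : X.Modules}
    (hH : CohB1.IsAmple H) {z : Pic X} (hz : PLe (1 : Pic X) z) : 0 ≤ isect k z (clsMod hH.1) := by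
  haveI := Euler.isNoetherian_of_proper (X := X) k
  have hd := hdim.le
  have hO : Coh.IsCoh (Coh.structureModule X) := Kleiman.isCoh_O k
  rw [← (Cube.clsMod_eq_one_iff (Euler.isInvertible_structure (X := X))).2 ⟨Iso.refl _⟩, ← cls_rep z] at hz
  obtain ⟨s, hs⟩ := (Kodaira.pLe_iff _ _).1 hz
  let S : ShortComplex X.Modules := ShortComplex.mk s (cokernel.π s) (cokernel.condition s)
  have hS : S.ShortExact :=
    haveI : Mono S.f := hs
    haveI : Epi S.g := inferInstanceAs (Epi (cokernel.π s))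
    { exact := ShortComplex.exact_of_g_is_cokernel _ (cokernelIsCokernel _) }
  have hZc : Coh.IsCoh (rep z) := Euler.isCoh_of_isInvertible (isInv_rep z)
  have hQ : Coh.IsCoh (cokernel s) := QCoh.isCoh_cokernel s hO hZc
  have hQd : DimLT (CohB1.support (cokernel s)) 2 :=
    (Snapper.dimLT_of_notMem (Kleiman.isTop_genericPoint hdim).dimLT Set.inter_subset_left
      (T := closure {genericPoint X} ∩ CohB1.support (cokernel s))
      fun h => QCoh.notMem_support_cokernel_of_surjective s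
        (Euler.stalkLin_genericPoint_bijective Euler.isInvertible_structure (isInv_rep z)
          (Kodaira.exists_ne_zero_of_mono Euler.isInvertible_structure s)).2 h.2).mono fun x hx =>
        ⟨by rw [show closure ({genericPoint X} : Set X) = Set.univ from (genericPoint_spec X).def]; trivial, hx⟩
  have hpos : 0 ≤ mixed 1 (phi k 1 (fun _ => H) (cokernel s)) := by
    by_cases h1 : DimLT (CohB1.support (cokernel s)) 1
    · rw [Snapper.mixed_eq_zero (Snapper.phi_mem_polyLT k (fun _ => hH.1) 1 _ hQ h1)]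
    · simp only [DimLT, not_forall, not_lt] at h1
      obtain ⟨l, hl, hlen⟩ := h1
      have hsub : closure ({l.last} : Set X) ⊆ CohB1.support (cokernel s) :=
        (QCoh.isClosed_support_of_isCoh hQ).closure_subset_iff.2 (Set.singleton_subset_iff.2 (hl _))
      refine (Snapper.mixed_pos k 1 X H hH _ hQ hQd ⟨l.last, hl _, Snapper.isTop_of (hQd.mono hsub) fun hc => ?_⟩).le
      have := hc l fun i => specializes_iff_mem_closure.1 (show l.last ⤳ l i from l.monotone (Fin.le_last i))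
      omega
  have hm : mixed 1 (phi k 1 (fun _ => H) (cokernel s)) = (isect k z (clsMod hH.1) : ℚ) := by
    have hadd := Snapper.phi_additive k (r := 1) (L := fun _ => H) (fun _ => hH.1) hS hO hZc hQ
    simp only [S] at hadd
    have hQphi : phi k 1 (fun _ => H) (cokernel s) =
        phi k 1 (fun _ => H) (rep z) - phi k 1 (fun _ => H) (Coh.structureModule X) := by rw [hadd]; simp
    have hOv : ∀ n : Fin 1 → ℕ, phi k 1 (fun _ => H) (Coh.structureModule X) n =
        (chi k (clsMod hH.1 ^ n 0) : ℚ) := fun n => by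
      refine (Kleiman.phi_eq_of_cls k (fun _ => hH.1) (L' := fun _ : Fin 1 => rep (clsMod hH.1))
        (fun _ => isInv_rep _) _ (n' := n) (by simp [cls_rep])).trans ?_
      rw [phi_eq_chi k (fun _ => clsMod hH.1), Fin.prod_univ_one]
    have hZv : ∀ n : Fin 1 → ℕ, phi k 1 (fun _ => H) (rep z) n = (chi k (z * clsMod hH.1 ^ n 0) : ℚ) := fun n => by
      have e : rep z ≅ (tF (rep z)).obj (Coh.structureModule X) := (OX.tensorUnitLeftIso (rep z)).symm
      rw [Snapper.phi_of_iso k _ e]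
      obtain ⟨g⟩ := nonempty_tF_tF (Coh.structureModule X) (Iso.refl (CohB1.tensorMod (rep z) (invPows 1 (fun _ => H) n)))
      have hP := Snapper.isInvertible_invPows 1 (fun _ => H) (fun _ => hH.1) n
      refine congrArg Int.cast ((Euler.euler_of_iso k (g ≪≫ OX.tensorUnitLeftIso _)).trans ?_)
      rw [euler_eq_chi k (Ample.isInvertible_tensorMod (isInv_rep z) hP), Cube.clsMod_tensorMod (isInv_rep z) hP,
        cls_rep, Kleiman.cls_invPows 1 (fun _ => H) (fun _ => hH.1) n, Fin.prod_univ_one]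
    rw [hQphi, map_sub]
    have m1 : ∀ f : (Fin 1 → ℕ) → ℚ, mixed 1 f = f (fun _ => 1) - f (fun _ => 0) := fun f => by
      show ∑ S : Finset (Fin 1), (-1 : ℚ) ^ (1 - S.card) * f (Snapper.ind S) = _
      have h0 : Snapper.ind (∅ : Finset (Fin 1)) = fun _ => 0 := funext fun i => by simp [Snapper.ind]
      have h1 : Snapper.ind ({0} : Finset (Fin 1)) = fun _ => 1 := funext fun i => by simp [Snapper.ind, Fin.fin_one_eq_zero i]
      rw [show (Finset.univ : Finset (Finset (Fin 1))) = {∅, {0}} by decide, Finset.sum_pair (by decide), h0, h1]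
      simp
      ring
    simp [m1, hOv, hZv, isect]
    ring
  rw [hm] at hpos
  exact_mod_cast hpos

end GrothLib.HodgeIndex
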