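import Groth.Agent.Lib.HodgeIndex.Index

/-!
# The Hodge index inequality
-/

set_option autoImplicit false
set_option backward.isDefEq.respectTransparency false
set_option linter.all false

universe u

open CategoryTheory CategoryTheory.Limits AlgebraicGeometry TopologicalSpace

noncomputable section

namespace GrothLib.HodgeIndex

open GrothLib.Cube (Pic clsMod)
open GrothLib.Kodaira (IsoOn PLe)

variable {X : Scheme.{u}} (k : Type u) [Field k] [X.Over (Spec (CommRingCat.of k))]
  [IsProper (X ↘ Spec (CommRingCat.of k))] [IsIntegral X]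
  (hdim : topologicalKrullDim X = ((2 : ℕ) : WithBot ℕ∞))

include hdim in
/-- A power of an ample class with sections not vanishing at any given point. -/
theorem exists_gg_power {H : X.Modules} (hH : CohB1.IsAmple H) :
    ∃ (j : ℕ) (hA : CohB1.IsAmple (CohB1.tensorPow H (j + 1))), clsMod hA.1 = clsMod hH.1 ^ (j + 1) ∧
      ∀ x : X, ∃ (U : X.Opens) (σ : Coh.structureModule X ⟶ rep (clsMod hH.1 ^ (j + 1))), x ∈ U ∧ IsoOn U σ := by
  obtain ⟨j₀, hj₀⟩ := Kodaira.exists_hom_isoOn hH (Euler.isInvertible_structure (X := X))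
  have hA := (Ample.isAmple_tensorPow_iff hH.1 j₀.succ_pos).1 hH
  have hc : clsMod hA.1 = clsMod hH.1 ^ (j₀ + 1) := Cube.clsMod_tensorPow hH.1 _
  refine ⟨j₀, hA, hc, fun x => ?_⟩
  obtain ⟨U, σ, hx, hσ⟩ := hj₀ (j₀ + 1) (Nat.le_succ _) x
  obtain ⟨e⟩ := (Cube.clsMod_eq_iff hA.1 (isInv_rep _)).1 (hc.trans (cls_rep _).symm)
  exact ⟨U, σ ≫ e.hom, hx, hσ.comp (Kodaira.isoOn_of_iso U e.hom)⟩

include hdim in
/-- A class of positive square has non-zero degree, and is big if the degree is non-negative. -/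
theorem exists_pLe_pow_of_sq_pos {H : X.Modules} (hH : CohB1.IsAmple H) {x : Pic X}
    (hxh : 0 ≤ isect k x (clsMod hH.1)) (hxx : 0 < isect k x x) :
    ∃ (j μ : ℕ), 0 < μ ∧ PLe (clsMod hH.1 ^ (j + 1)) (x ^ μ) := by
  obtain ⟨j, hA, hc, hgg⟩ := exists_gg_power hdim hH
  obtain ⟨μ, hμ, hle⟩ := exists_pLe_of_sq_pos k hdim hA hc hgg x
    (by rw [isect_pow_right k hdim.le]; exact mul_nonneg (Nat.cast_nonneg _) hxh) hxx
  exact ⟨j, μ, hμ, hle⟩

include hdim in
theorem isect_pos_of_sq_pos {H : X.Modules} (hH : CohB1.IsAmple H) {x : Pic X}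
    (hxh : 0 ≤ isect k x (clsMod hH.1)) (hxx : 0 < isect k x x) : 0 < isect k x (clsMod hH.1) := by
  obtain ⟨j, μ, hμ, hle⟩ := exists_pLe_pow_of_sq_pos k hdim hH hxh hxx
  have h1 : PLe (1 : Pic X) (x ^ μ * (clsMod hH.1 ^ (j + 1))⁻¹) := by
    have := hle.mul_right (clsMod hH.1 ^ (j + 1))⁻¹
    rwa [mul_inv_cancel] at this
  have h2 := isect_nonneg_of_pLe k hdim hH h1
  rw [isect_mul_left k hdim.le, isect_inv_left k hdim.le, isect_pow_left k hdim.le, isect_pow_left k hdim.le] at h2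
  have h3 : 0 < ((j + 1 : ℕ) : ℤ) * isect k (clsMod hH.1) (clsMod hH.1) :=
    mul_pos (by exact_mod_cast j.succ_pos) (isect_self_pos k hdim.le hdim hH)
  by_contra h
  push Not at h
  nlinarith [mul_nonpos_of_nonneg_of_nonpos (Nat.cast_nonneg (α := ℤ) μ) h]

include hdim in
/-- **Hodge index**: a class orthogonal to an ample class has non-positive square. -/
theorem hodge {H : X.Modules} (hH : CohB1.IsAmple H) {x : Pic X} (hxh : isect k x (clsMod hH.1) = 0) :
    isect k x x ≤ 0 := by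
  by_contra h
  push Not at h
  exact (isect_pos_of_sq_pos k hdim hH hxh.ge h).ne' hxh

include hdim in
/-- **Hodge index inequality.** -/
theorem sq_le {H : X.Modules} (hH : CohB1.IsAmple H) (x : Pic X) :
    isect k x x * isect k (clsMod hH.1) (clsMod hH.1) ≤ isect k x (clsMod hH.1) ^ 2 := by
  have hd := hdim.le
  have hpos := isect_self_pos k hd hdim hH
  suffices key : ∀ y : Pic X, 0 ≤ isect k y (clsMod hH.1) →
      isect k y y * isect k (clsMod hH.1) (clsMod hH.1) ≤ isect k y (clsMod hH.1) ^ 2 by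
    rcases le_total 0 (isect k x (clsMod hH.1)) with h | h
    · exact key x h
    · have := key x⁻¹ (by rw [isect_inv_left k hd]; linarith)
      rwa [isect_inv_left k hd, isect_inv_right k hd, neg_neg, isect_inv_left k hd, neg_sq] at this
  intro y hy
  obtain ⟨a, ha⟩ : ∃ a : ℕ, isect k y (clsMod hH.1) = a := ⟨_, (Int.toNat_of_nonneg hy).symm⟩
  obtain ⟨b, hb⟩ : ∃ b : ℕ, isect k (clsMod hH.1) (clsMod hH.1) = b := ⟨_, (Int.toNat_of_nonneg hpos.le).symm⟩
  have h0 := hodge k hdim hH (x := y ^ b * (clsMod hH.1 ^ a)⁻¹) (by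
    rw [isect_mul_left k hd, isect_inv_left k hd, isect_pow_left k hd, isect_pow_left k hd, ha, hb]
    ring)
  simp only [isect_mul_left k hd, isect_mul_right k hd, isect_inv_left k hd, isect_inv_right k hd,
    isect_pow_left k hd, isect_pow_right k hd, isect_comm k (clsMod hH.1) y, ha, hb] at h0
  rw [hb] at hpos
  rw [hb, ha]
  nlinarith

end GrothLib.HodgeIndex
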