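import Groth.Agent.Lib.HodgeIndex.EffCurve

/-!
# The nef cone and the ample cone of a projective surface
-/

set_option autoImplicit false
set_option backward.isDefEq.respectTransparency false
set_option linter.all false

universe u

open CategoryTheory CategoryTheory.Limits AlgebraicGeometry TopologicalSpace

noncomputable section

namespace GrothLib.HodgeIndex

open GrothLib.Cube (Pic clsMod)
open GrothLib.Kodaira (PLe)
open GrothLib.Snapper (DimLT IsTop mixed phi ptMod)

variable {X : Scheme.{u}} (k : Type u) [Field k] [X.Over (Spec (CommRingCat.of k))]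

theorem clR_congr [PicGrp.Law X] {L M : X.Modules} (hL : PicF.IsInvertible L) (hM : PicF.IsInvertible M)
    (h : clsMod hL = clsMod hM) : NumR.clR k X L hL = NumR.clR k X M hM := by
  obtain ⟨e⟩ := (Cube.clsMod_eq_iff hL hM).1 h
  rw [NumR.clR, NumR.clR, NumR.cl, NumR.cl, (PicGrp.cls_eq_cls_iff hL hM).2 ⟨e⟩]

theorem exists_section_of_pLe [IsIntegral X] {z : Pic X} (h : PLe (1 : Pic X) z) :
    ∃ s : Coh.structureModule X ⟶ rep z, Mono s := by
  rw [← (Cube.clsMod_eq_one_iff (Euler.isInvertible_structure (X := X))).2 ⟨Iso.refl _⟩, ← cls_rep z] at h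
  exact (Kodaira.pLe_iff _ _).1 h

variable [IsProper (X ↘ Spec (CommRingCat.of k))] [IsIntegral X] [PicGrp.Law X]
  [Smooth (X ↘ Spec (CommRingCat.of k))]
  (hdim : topologicalKrullDim X = ((2 : ℕ) : WithBot ℕ∞)) {H : X.Modules} (hH : CohB1.IsAmple H)
  {B : NumR.N1R k X →ₗ[ℝ] NumR.N1R k X →ₗ[ℝ] ℝ} (hB : NumR.IsIntForm₂ k X B)

include hdim hH hB in
theorem nef_ample_nonneg {x : NumR.N1R k X} (hx : ∀ y, IsTop 1 y → 0 ≤ B x (cc k y)) {A : X.Modules}
    (hA : CohB1.IsAmple A) : 0 ≤ B x (NumR.clR k X A hA.1) := by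
  obtain ⟨j, hj⟩ := Kodaira.exists_pLe_pow hA (1 : Pic X)
  obtain ⟨s, hs⟩ := exists_section_of_pLe (hj (j + 1) (Nat.le_succ _))
  obtain ⟨T, m, hT, hsum⟩ := eff_decomp k hdim hH hB s
  have h := hsum x
  rw [clR_congr k (isInv_rep _) (Ample.isInvertible_tensorPow hA.1 (j + 1))
    (by rw [cls_rep, Cube.clsMod_tensorPow hA.1]), Kodaira.clR_pow hA.1, map_smul, smul_eq_mul] at h
  refine nonneg_of_mul_nonneg_right (h ▸ Finset.sum_nonneg fun y hy => ?_) (show (0 : ℝ) < ((j + 1 : ℕ) : ℝ) by positivity)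
  exact mul_nonneg (Nat.cast_nonneg _) (hx y (hT y hy).1)

include hdim hH hB in
theorem nef_ampleCone_nonneg {x a : NumR.N1R k X} (hx : ∀ y, IsTop 1 y → 0 ≤ B x (cc k y))
    (ha : a ∈ NumR.ampleCone k X) : 0 ≤ B x a := by
  let S : ConvexCone ℝ (NumR.N1R k X) :=
    { carrier := {a | 0 ≤ B x a}
      smul_mem' := fun c hc a ha => by
        show 0 ≤ B x (c • a)
        rw [map_smul, smul_eq_mul]; exact mul_nonneg hc.le ha
      add_mem' := fun a ha b hb => by
        show 0 ≤ B x (a + b)
        rw [map_add]; exact add_nonneg ha hb }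
  refine (ConvexCone.hull_min (C := S) ?_ : NumR.ampleCone k X ≤ S) ha
  rintro _ ⟨A, hA, hAmp, rfl⟩
  exact nef_ample_nonneg k hdim hH hB hx hAmp

include hdim hH hB in
theorem ample_cc_pos {A : X.Modules} (hA : CohB1.IsAmple A) {y : X} (hy : IsTop 1 y) :
    0 < B (NumR.clR k X A hA.1) (cc k y) := by
  haveI := Euler.isNoetherian_of_proper (X := X) k
  rw [B_cc k hdim hH hB hy]
  exact_mod_cast Snapper.mixed_pos k 1 X A hA (ptMod y) (Snapper.isCoh_ptMod y)
    (hy.dimLT.mono (Snapper.support_ptMod y)) ⟨y, Kleiman.mem_support_ptMod k y, hy⟩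

include hdim hH hB in
theorem ampleCone_cc_pos {a : NumR.N1R k X} (ha : a ∈ NumR.ampleCone k X) {y : X} (hy : IsTop 1 y) :
    0 < B a (cc k y) := by
  let S : ConvexCone ℝ (NumR.N1R k X) :=
    { carrier := {a | 0 < B a (cc k y)}
      smul_mem' := fun c hc a ha => by
        show 0 < B (c • a) (cc k y)
        rw [map_smul, LinearMap.smul_apply, smul_eq_mul]; exact mul_pos hc ha
      add_mem' := fun a ha b hb => by
        show 0 < B (a + b) (cc k y)
        rw [map_add, LinearMap.add_apply]; exact add_pos ha hb }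
  refine (ConvexCone.hull_min (C := S) ?_ : NumR.ampleCone k X ≤ S) ha
  rintro _ ⟨A, hA, hAmp, rfl⟩
  exact ample_cc_pos k hdim hH hB hAmp hy

include hdim hH hB in
/-- **Nakai–Moishezon** for rational classes. -/
theorem mem_ampleCone_of_rat {w : NumR.N1R k X} (hw : RatPt k w) (hww : 0 < B w w)
    (hwC : ∀ y, IsTop 1 y → 0 < B w (cc k y)) : w ∈ NumR.ampleCone k X := by
  haveI := Euler.isNoetherian_of_proper (X := X) k
  obtain ⟨D, L, hL, hD, hwL⟩ := hw
  have hD' : (0 : ℝ) < D := by exact_mod_cast hD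
  suffices hA : CohB1.IsAmple L by
    have h := (NumR.ampleCone k X).smul_mem (inv_pos.2 hD') (Kodaira.clR_mem_ampleCone (k := k) hA)
    rwa [← hwL, smul_smul, inv_mul_cancel₀ hD'.ne', one_smul] at h
  refine Nakai.isAmple_of_pos k hL fun x d hd hx => ?_
  have hd2 : d ≤ 2 := by
    have h : topologicalKrullDim (closure ({x} : Set X)) ≤ topologicalKrullDim X :=
      (Topology.IsInducing.subtypeVal).topologicalKrullDim_le
    rw [show topologicalKrullDim (closure ({x} : Set X)) = (d : WithBot ℕ∞) from hx, hdim] at h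
    exact_mod_cast h
  rcases (show d = 1 ∨ d = 2 by omega) with rfl | rfl
  · have h : 0 < B (NumR.clR k X L hL) (cc k x) := by
      rw [← hwL, map_smul, LinearMap.smul_apply, smul_eq_mul]
      exact mul_pos hD' (hwC x hx)
    rw [B_cc k hdim hH hB hx] at h
    exact_mod_cast h
  · obtain rfl : x = genericPoint X :=
      (hx.eq_of_specializes (genericPoint_specializes x) (Kleiman.isTop_genericPoint hdim).dimLT).symm
    have hO : Coh.IsCoh (Coh.structureModule X) := Kleiman.isCoh_O k
    have hdO := support_structure_dimLT k hdim.le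
    have hLL : 0 < mixed 2 (phi k 2 (fun _ => L) (Coh.structureModule X)) := by
      have h : 0 < B (NumR.clR k X L hL) (NumR.clR k X L hL) := by
        rw [← hwL]
        simp only [map_smul, LinearMap.smul_apply, smul_eq_mul]
        exact mul_pos hD' (mul_pos hD' hww)
      rw [B_cls k hdim hH hB] at h
      have e : phi k 2 (fun _ => L) (Coh.structureModule X) =
          phi k 2 (fun _ => rep (clsMod hL)) (Coh.structureModule X) := funext fun n =>
        Kleiman.phi_eq_of_cls k (fun _ => hL) (fun _ => isInv_rep _) _ (by simp [cls_rep])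
      rw [e, mixed_rep_const k hdim.le]
      exact_mod_cast h
    have hfin := Snapper.finite_support_topTerm (phi k 2 (fun _ : Fin 2 => L)) (QCoh.isClosed_support_of_isCoh hO) hdO
      (Set.Subset.refl (CohB1.support (Coh.structureModule X)))
    have h := Snapper.mixed_eq_zero (Snapper.phi_sub_sum_mem k (L := fun _ : Fin 2 => L) (fun _ => hL) hO hdO)
    rw [finsum_eq_single _ (genericPoint X) fun y hy => Snapper.topTerm_eq_zero _ fun hyt _ => hy
      (hyt.eq_of_specializes (genericPoint_specializes _) (Kleiman.isTop_genericPoint hdim).dimLT).symm,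
      Snapper.topTerm_of _ (Kleiman.isTop_genericPoint hdim), map_sub, map_nsmul, sub_eq_zero, nsmul_eq_mul] at h
    rw [h] at hLL
    exact pos_of_mul_pos_right hLL (Nat.cast_nonneg _)

variable [Module.Finite ℝ (NumR.N1R k X)]

include hH in
theorem isOpen_translate (x : NumR.N1R k X) :
    IsOpen {w : NumR.N1R k X | w + (-x) ∈ NumR.ampleCone k X} :=
  (Kodaira.isOpen_ampleCone hH).preimage (continuous_id.add continuous_const)

include hdim hH hB in
theorem rat_mem_ampleCone_of_translate {x w : NumR.N1R k X} (hx : ∀ y, IsTop 1 y → 0 ≤ B x (cc k y))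
    (hw : RatPt k w) (hwx : w + (-x) ∈ NumR.ampleCone k X) (hww : 0 < B w w) : w ∈ NumR.ampleCone k X := by
  refine mem_ampleCone_of_rat k hdim hH hB hw hww fun y hy => ?_
  have h1 := ampleCone_cc_pos k hdim hH hB hwx hy
  rw [map_add, map_neg, LinearMap.add_apply, LinearMap.neg_apply] at h1
  linarith [hx y hy]

include hdim hH hB in
/-- A nef class has non-negative square. -/
theorem nef_sq_nonneg {x : NumR.N1R k X} (hx : ∀ y, IsTop 1 y → 0 ≤ B x (cc k y)) : 0 ≤ B x x := by
  obtain ⟨h, hh⟩ : ∃ h, h = NumR.clR k X H hH.1 := ⟨_, rfl⟩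
  have ha0 : 0 ≤ B x h := hh ▸ nef_ample_nonneg k hdim hH hB hx hH
  have hb0 : 0 < B h h := hh ▸ B_hh_pos k hdim hH hB
  by_contra hneg
  push Not at hneg
  obtain ⟨s, hs⟩ : ∃ s, s = Real.sqrt (B x h * B x h - B x x * B h h) := ⟨_, rfl⟩
  have hdisc : B x h * B x h < B x h * B x h - B x x * B h h := by nlinarith
  have hs2 : s * s = B x h * B x h - B x x * B h h := by
    rw [hs]; exact Real.mul_self_sqrt (by nlinarith)
  have hs0 : 0 ≤ s := hs ▸ Real.sqrt_nonneg _
  have hsa : B x h < s := by nlinarith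
  have key : ∀ t : ℝ, (s - B x h) / B h h < t → 0 ≤ B x x + t * B x h := by
    intro t ht
    have ht' : s - B x h < t * B h h := (div_lt_iff₀ hb0).1 ht
    have ht0 : 0 < t := lt_trans (div_pos (by linarith) hb0) ht
    have hP : 0 < B x x + 2 * t * B x h + t ^ 2 * B h h := by
      have h1 : 0 < (t * B h h + B x h - s) * (t * B h h + B x h + s) :=
        mul_pos (by linarith) (by nlinarith)
      have h2 : B h h * (B x x + 2 * t * B x h + t ^ 2 * B h h) =
          (t * B h h + B x h - s) * (t * B h h + B x h + s) := by linear_combination hs2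
      exact pos_of_mul_pos_right (h2.symm ▸ h1) hb0.le
    let U : Set (NumR.N1R k X) := {w | w + (-x) ∈ NumR.ampleCone k X} ∩ NumR.posCone k X B H hH.1
    have hU : IsOpen U := (isOpen_translate k hH x).inter (isOpen_posCone k hdim hH hB)
    have hp : x + t • h ∈ U := by
      refine ⟨?_, ?_, ?_⟩
      · show x + t • h + -x ∈ NumR.ampleCone k X
        rw [add_neg_cancel_comm]
        exact (NumR.ampleCone k X).smul_mem ht0 (hh ▸ Kodaira.clR_mem_ampleCone hH)
      · simp only [map_add, map_smul, LinearMap.add_apply, LinearMap.smul_apply, smul_eq_mul,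
          B_symm k hdim hH hB h x]
        linarith
      · rw [← hh]
        simp only [map_add, map_smul, LinearMap.add_apply, LinearMap.smul_apply, smul_eq_mul]
        nlinarith
    have hC : Convex ℝ {w : NumR.N1R k X | 0 ≤ B x w} := by
      intro v hv w hw a b ha hb _
      show 0 ≤ B x (a • v + b • w)
      rw [map_add, map_smul, map_smul, smul_eq_mul, smul_eq_mul]
      exact add_nonneg (mul_nonneg ha hv) (mul_nonneg hb hw)
    have := mem_of_open k hU hC (fun w hw hwr => nef_ampleCone_nonneg k hdim hH hB hx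
      (rat_mem_ampleCone_of_translate k hdim hH hB hx hwr hw.1 hw.2.1)) hp
    show 0 ≤ _
    simpa [map_add, map_smul] using this
  obtain ⟨t₀, ht₀⟩ : ∃ t₀, t₀ = (s - B x h) / B h h := ⟨_, rfl⟩
  have hlim : 0 ≤ B x x + t₀ * B x h := by
    by_contra hc
    push Not at hc
    have h3 := key (t₀ + (-(B x x + t₀ * B x h)) / (B x h + 1) / 2)
      (by rw [← ht₀]; have : 0 < (-(B x x + t₀ * B x h)) / (B x h + 1) := div_pos (by linarith) (by linarith); linarith)
    have h4 : (-(B x x + t₀ * B x h)) / (B x h + 1) * B x h ≤ -(B x x + t₀ * B x h) := by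
      rw [div_mul_eq_mul_div, div_le_iff₀ (by linarith)]
      nlinarith
    nlinarith
  have h5 : t₀ * B h h = s - B x h := by rw [ht₀, div_mul_cancel₀ _ hb0.ne']
  have h6 : 0 ≤ B h h * B x x + (s - B x h) * B x h := by
    have := mul_nonneg hb0.le hlim
    rw [mul_add, ← mul_assoc, mul_comm (B h h) t₀, h5] at this
    exact this
  nlinarith [mul_pos (show 0 < s - B x h by linarith) (show 0 < s by linarith)]

include hdim hH hB in
/-- Nef plus ample is ample. -/
theorem nef_add_ample {x a : NumR.N1R k X} (hx : ∀ y, IsTop 1 y → 0 ≤ B x (cc k y))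
    (ha : a ∈ NumR.ampleCone k X) : x + a ∈ NumR.ampleCone k X := by
  have hxx := nef_sq_nonneg k hdim hH hB hx
  have hxa := nef_ampleCone_nonneg k hdim hH hB hx ha
  have hxh := nef_ample_nonneg k hdim hH hB hx hH
  obtain ⟨haa, hah⟩ := ampleCone_subset_posCone k hdim hH hB ha
  let U : Set (NumR.N1R k X) := {w | w + (-x) ∈ NumR.ampleCone k X} ∩ NumR.posCone k X B H hH.1
  have hU : IsOpen U := (isOpen_translate k hH x).inter (isOpen_posCone k hdim hH hB)
  refine mem_of_open k hU (NumR.ampleCone k X).convex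
    (fun w hw hwr => rat_mem_ampleCone_of_translate k hdim hH hB hx hwr hw.1 hw.2.1) (p := x + a) ⟨?_, ?_, ?_⟩
  · show x + a + -x ∈ NumR.ampleCone k X
    rwa [add_neg_cancel_comm]
  · simp only [map_add, LinearMap.add_apply, B_symm k hdim hH hB a x]
    linarith
  · simp only [map_add, LinearMap.add_apply]
    linarith

include hdim hH hB in
/-- Positive square and positive on all curves gives ample. -/
theorem mem_ampleCone_of_pos {x : NumR.N1R k X} (hxx : 0 < B x x) (hxC : ∀ y, IsTop 1 y → 0 < B x (cc k y)) :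
    x ∈ NumR.ampleCone k X := by
  classical
  obtain ⟨h, hh⟩ : ∃ h, h = NumR.clR k X H hH.1 := ⟨_, rfl⟩
  have hxn : ∀ y, IsTop 1 y → 0 ≤ B x (cc k y) := fun y hy => (hxC y hy).le
  have hhA : h ∈ NumR.ampleCone k X := hh ▸ Kodaira.clR_mem_ampleCone hH
  have ha : 0 < B x h :=
    lt_of_le_of_ne (hh ▸ nef_ample_nonneg k hdim hH hB hxn hH) (Ne.symm (hh ▸ pair_ne_zero_of_sq_pos k hdim hH hB hxx))
  have hb : 0 < B h h := hh ▸ B_hh_pos k hdim hH hB
  have hpos : ∀ v : NumR.N1R k X, v ∈ NumR.posCone k X B H hH.1 →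
      ∃ T : Set X, T.Finite ∧ ∀ y, IsTop 1 y → y ∉ T → 0 ≤ B v (cc k y) := by
    intro v hv
    let S : Set (NumR.N1R k X) := {v | ∃ T : Set X, T.Finite ∧ ∀ y, IsTop 1 y → y ∉ T → 0 ≤ B v (cc k y)}
    have hS : Convex ℝ S := by
      rintro u ⟨T, hT, h1⟩ w ⟨T', hT', h2⟩ c d hc hd _
      refine ⟨T ∪ T', hT.union hT', fun y hy hyn => ?_⟩
      rw [map_add, map_smul, map_smul, LinearMap.add_apply, LinearMap.smul_apply, LinearMap.smul_apply, smul_eq_mul,
        smul_eq_mul]
      exact add_nonneg (mul_nonneg hc (h1 y hy fun h => hyn (Or.inl h)))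
        (mul_nonneg hd (h2 y hy fun h => hyn (Or.inr h)))
    refine mem_of_open k (isOpen_posCone k hdim hH hB) hS ?_ hv
    rintro w ⟨hww, hwh⟩ ⟨D, L, hL, hD, hwL⟩
    have hD' : (0 : ℝ) < D := by exact_mod_cast hD
    have h1 : 0 < isect k (clsMod hL) (clsMod hL) := by
      have h : 0 < B (NumR.clR k X L hL) (NumR.clR k X L hL) := by
        rw [← hwL]; simp only [map_smul, LinearMap.smul_apply, smul_eq_mul]; exact mul_pos hD' (mul_pos hD' hww)
      rw [B_cls k hdim hH hB] at h
      exact_mod_cast h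
    have h2 : 0 ≤ isect k (clsMod hL) (clsMod hH.1) := by
      have h : 0 < B (NumR.clR k X L hL) (NumR.clR k X H hH.1) := by
        rw [← hwL, map_smul, LinearMap.smul_apply, smul_eq_mul]; exact mul_pos hD' hwh
      rw [B_cls k hdim hH hB] at h
      exact_mod_cast h.le
    obtain ⟨j, μ, hμ, hle⟩ := exists_pLe_pow_of_sq_pos k hdim hH h2 h1
    have hE : PLe (1 : Pic X) (clsMod hL ^ μ * (clsMod hH.1 ^ (j + 1))⁻¹) := by
      have := hle.mul_right (clsMod hH.1 ^ (j + 1))⁻¹
      rwa [mul_inv_cancel] at this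
    obtain ⟨s, hs⟩ := exists_section_of_pLe hE
    obtain ⟨T, m, hT, -⟩ := eff_decomp k hdim hH hB s
    refine ⟨T ∪ {y | IsTop 1 y ∧ y ∈ CohB1.support (cokernel s)}, ?_, fun y hy hyn => ?_⟩
    · haveI := Euler.isNoetherian_of_proper (X := X) k
      have hQ := QCoh.isCoh_cokernel s (Kleiman.isCoh_O k) (Euler.isCoh_of_isInvertible (isInv_rep _))
      have hQd : DimLT (CohB1.support (cokernel s)) (1 + 1) :=
        dimLT_coker k hdim (isInv_rep _) s (Kodaira.exists_ne_zero_of_mono Euler.isInvertible_structure s)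
      exact T.finite_toSet.union (Snapper.finite_of_maximal (QCoh.isClosed_support_of_isCoh hQ) (fun y hy => hy.2)
        fun x hx y hy hyx => hx.1.eq_of_specializes hyx (hQd.mono ((QCoh.isClosed_support_of_isCoh hQ).closure_subset_iff.2
          (Set.singleton_subset_iff.2 hy))))
    · have h3 := B_eff_cc_nonneg k hdim hH hB s hy fun h => hyn (Or.inr ⟨hy, h⟩)
      obtain ⟨T', hT', hTi⟩ := Kodaira.exists_inverse (Ample.isInvertible_tensorPow hH.1 (j + 1))
      have hcl : clsMod hT' = (clsMod hH.1 ^ (j + 1))⁻¹ := by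
        rw [← Cube.clsMod_tensorPow hH.1]
        refine eq_inv_of_mul_eq_one_left ?_
        rw [← Cube.clsMod_tensorMod, Cube.clsMod_eq_one_iff]
        exact hTi
      rw [clR_congr k (isInv_rep _) (Ample.isInvertible_tensorMod (Ample.isInvertible_tensorPow hL μ) hT')
          (by rw [cls_rep, Cube.clsMod_tensorMod (Ample.isInvertible_tensorPow hL μ) hT', Cube.clsMod_tensorPow hL, hcl]),
        Kodaira.clR_tensor (Ample.isInvertible_tensorPow hL μ) hT', Kodaira.clR_pow hL,
        Kodaira.clR_inverse (Ample.isInvertible_tensorPow hH.1 (j + 1)) hT' hTi, Kodaira.clR_pow hH.1, ← hwL] at h3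
      simp only [map_add, map_neg, map_smul, LinearMap.add_apply, LinearMap.neg_apply, LinearMap.smul_apply,
        smul_eq_mul] at h3
      have h4 : 0 < ((j + 1 : ℕ) : ℝ) * B (NumR.clR k X H hH.1) (cc k y) :=
        mul_pos (by positivity) (ample_cc_pos k hdim hH hB hH hy)
      have h5 : 0 < (μ : ℝ) * D := mul_pos (by exact_mod_cast hμ) hD'
      nlinarith
  -- a little of `h` can be removed without leaving the positive cone
  obtain ⟨ε, hε, hεC⟩ : ∃ ε : ℝ, 0 < ε ∧ x - ε • h ∈ NumR.posCone k X B H hH.1 := by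
    refine ⟨min (B x x / (2 * B x h)) (B x h / (2 * B h h)), lt_min (by positivity) (by positivity), ?_⟩
    obtain ⟨ε, hε⟩ : ∃ ε, ε = min (B x x / (2 * B x h)) (B x h / (2 * B h h)) := ⟨_, rfl⟩
    rw [← hε]
    have h1 : ε * (2 * B x h) ≤ B x x := (le_div_iff₀ (by positivity)).1 (hε ▸ min_le_left _ _)
    have h2 : ε * (2 * B h h) ≤ B x h := (le_div_iff₀ (by positivity)).1 (hε ▸ min_le_right _ _)
    have h3 : 0 < ε := hε ▸ lt_min (by positivity) (by positivity)
    show 0 < B _ _ ∧ 0 < B _ (NumR.clR k X H hH.1)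
    rw [← hh]
    simp only [map_sub, map_smul, LinearMap.sub_apply, LinearMap.smul_apply, smul_eq_mul, B_symm k hdim hH hB h x]
    constructor
    · nlinarith [mul_pos (mul_pos h3 h3) hb]
    · nlinarith
  obtain ⟨T, hT, hTn⟩ := hpos _ hεC
  let T' := hT.toFinset.filter fun y => IsTop 1 y
  obtain ⟨δ, hδ, hδT⟩ : ∃ δ : ℝ, 0 < δ ∧ δ ≤ ε ∧ ∀ y ∈ T', δ * B h (cc k y) ≤ B x (cc k y) := by
    rcases T'.eq_empty_or_nonempty with h0 | hne
    · exact ⟨ε, hε, le_rfl, fun y hy => by rw [h0] at hy; simp at hy⟩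
    obtain ⟨y₀, hy₀, hmin⟩ := T'.exists_min_image (fun y => B x (cc k y) / B h (cc k y)) hne
    have hp : ∀ y ∈ T', 0 < B h (cc k y) := fun y hy =>
      hh ▸ ample_cc_pos k hdim hH hB hH (Finset.mem_filter.1 hy).2
    refine ⟨min ε (B x (cc k y₀) / B h (cc k y₀)),
      lt_min hε (div_pos (hxC y₀ (Finset.mem_filter.1 hy₀).2) (hp y₀ hy₀)), min_le_left _ _, fun y hy => ?_⟩
    exact (le_div_iff₀ (hp y hy)).1 ((min_le_right _ _).trans (hmin y hy))
  have hnef : ∀ y, IsTop 1 y → 0 ≤ B (x - δ • h) (cc k y) := by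
    intro y hy
    rw [map_sub, map_smul, LinearMap.sub_apply, LinearMap.smul_apply, smul_eq_mul]
    by_cases hyT : y ∈ T
    · linarith [hδT.2 y (Finset.mem_filter.2 ⟨hT.mem_toFinset.2 hyT, hy⟩)]
    · have h1 := hTn y hy hyT
      rw [map_sub, map_smul, LinearMap.sub_apply, LinearMap.smul_apply, smul_eq_mul] at h1
      have h2 : 0 < B h (cc k y) := hh ▸ ample_cc_pos k hdim hH hB hH hy
      nlinarith [hδT.1]
  have := nef_add_ample k hdim hH hB hnef ((NumR.ampleCone k X).smul_mem hδ hhA)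
  rwa [sub_add_cancel] at this

include hdim hH hB in
theorem closure_ampleCone_eq :
    closure (NumR.ampleCone k X : Set (NumR.N1R k X)) = {x | ∀ y, IsTop 1 y → 0 ≤ B x (cc k y)} := by
  refine subset_antisymm (fun x hx y hy => ?_) fun x hx => ?_
  · have hc : IsClosed {v : NumR.N1R k X | 0 ≤ B v (cc k y)} :=
      isClosed_le continuous_const (IsModuleTopology.continuous_of_linearMap (B.flip (cc k y)))
    exact hc.closure_subset_iff.2 (fun a ha => (ampleCone_cc_pos k hdim hH hB ha hy).le) hx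
  · have hf : Continuous fun t : ℝ => x + t • NumR.clR k X H hH.1 := by fun_prop
    have h0 : (fun t : ℝ => x + t • NumR.clR k X H hH.1) 0 ∈ closure (NumR.ampleCone k X : Set (NumR.N1R k X)) := by
      refine map_mem_closure (f := fun t : ℝ => x + t • NumR.clR k X H hH.1) hf (show (0 : ℝ) ∈ closure (Set.Ioi 0) by simp) fun t ht => ?_
      exact nef_add_ample k hdim hH hB hx ((NumR.ampleCone k X).smul_mem ht (Kodaira.clR_mem_ampleCone hH))
    simpa using h0

end GrothLib.HodgeIndex
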